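import Cfsg.Agent.Lib.Fusion.Balance.Coprime
import Cfsg.Agent.Lib.Fusion.Comp.Extend

/-!
# Automorphisms trivial modulo a normal subsystem

For a normal subsystem `D` over `W`: the group `sideSub` at a subgroup, good subgroups (centric with
centric part in `W`), the predicate `Tr` of coprime automorphisms, and the subgroup `grow`.
-/

set_option autoImplicit false
set_option linter.unusedSectionVars false

namespace CfsgLib.Fusion.Balance

open Cfsg Cfsg.FusionSystem CfsgLib.Fusion CfsgLib.Fusion.Inter CfsgLib.Fusion.SatCriterion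
open scoped Pointwise

variable {Ω : Type*} [Group Ω] {S W : Subgroup Ω} {F : Cfsg.FusionSystem S}
variable {D : Cfsg.FusionSystem W} {p : ℕ}
variable {R U P Q : Subgroup Ω}

/-! ### Generalities -/

/-- An isomorphism of the system preserves a strongly closed subgroup. -/
theorem mem_iff_of_iso {e : R ≃* Q} (he : IsFIso F e) (hW : F.StronglyClosed W) (x : R) :
    (e x : Ω) ∈ W ↔ (x : Ω) ∈ W := by
  refine ⟨fun h => ?_, fun h => stronglyClosed_apply_mem hW he x h⟩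
  have h1 := stronglyClosed_apply_mem hW he.symm (e x) h
  change ((e.symm (e x) : R) : Ω) ∈ W at h1
  rwa [MulEquiv.symm_apply_apply] at h1

/-- Agreement is carried along compatible isomorphisms. -/
theorem agree_congr {R' U' : Subgroup Ω} {hRU : R ≤ U} {κ : MulAut U} {a : MulAut R}
    (h : Agree hRU κ a) (e : R ≃* R') (g : U ≃* U') (hR' : R' ≤ U')
    (hge : ∀ x : R, (g (Subgroup.inclusion hRU x) : Ω) = e x) :
    Agree hR' (MulAut.congr g κ) (MulAut.congr e a) := by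
  intro y
  obtain ⟨x, rfl⟩ := e.surjective y
  have h1 : ∀ x : R, Subgroup.inclusion hR' (e x) = g (Subgroup.inclusion hRU x) := fun x =>
    Subtype.ext (hge x).symm
  rw [congr_apply, congr_apply, MulEquiv.symm_apply_apply, h1, h1, MulEquiv.symm_apply_apply, h]

/-- Conjugations are carried to conjugations by an automorphism of an overgroup. -/
theorem conj_conjAut_of_agree (hRU : R ≤ U) {κ : MulAut U} {a : MulAut R} (h : Agree hRU κ a)
    {u : Ω} (hu : u ∈ U) (huN : u ∈ Subgroup.normalizer (R : Set Ω)) :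
    ∃ hN : ((κ ⟨u, hu⟩ : U) : Ω) ∈ Subgroup.normalizer (R : Set Ω),
      a * conjAut R u huN * a⁻¹ = conjAut R ((κ ⟨u, hu⟩ : U) : Ω) hN := by
  have hag : ∀ x : R, (U.subtype.comp κ.toMonoidHom) ⟨x, hRU x.2⟩ = ((a x : R) : Ω) := fun x =>
    congrArg Subtype.val (h x)
  refine ⟨map_mem_normalizer_of_extends (e := (a : R ≃* R)) hRU hag hu huN, ?_⟩
  rw [← congr_eq_conj]
  exact congr_conjAut_eq_of_extends (e := (a : R ≃* R)) hRU hag hu huN

/-- Carrying conjugations into `Aut_U` is a property of generators. -/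
theorem act_of_sup {A B : Subgroup Ω} (hAB : A ⊔ B ≤ Subgroup.normalizer (R : Set Ω))
    {β : MulAut R} {U : Subgroup Ω}
    (hA : ∀ g (hg : g ∈ A), β * conjAut R g (hAB (Subgroup.mem_sup_left hg)) * β⁻¹ ∈
      autInducedBy U R)
    (hB : ∀ g (hg : g ∈ B), β * conjAut R g (hAB (Subgroup.mem_sup_right hg)) * β⁻¹ ∈
      autInducedBy U R) :
    ∀ g (hg : g ∈ A ⊔ B), β * conjAut R g (hAB hg) * β⁻¹ ∈ autInducedBy U R := by
  intro g hg
  let K : Subgroup (Subgroup.normalizer (R : Set Ω)) :=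
    (autInducedBy U R).comap ((MulAut.conj β).toMonoidHom.comp R.normalizerMonoidHom)
  have hle : A ⊔ B ≤ K.map (Subgroup.normalizer (R : Set Ω)).subtype :=
    sup_le (fun x hx => ⟨⟨x, hAB (Subgroup.mem_sup_left hx)⟩, hA x hx, rfl⟩)
      fun x hx => ⟨⟨x, hAB (Subgroup.mem_sup_right hx)⟩, hB x hx, rfl⟩
  obtain ⟨k, hk, rfl⟩ := hle hg
  exact hk

/-- A coset of a `p`-group contains at most one class of coprime elements. -/
theorem exists_conj_of_coset {G : Type*} [Group G] [Finite G] [Fact p.Prime] {N : Subgroup G}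
    (hN : IsPGroup p N) {a b : G} (hbN : b ∈ Subgroup.normalizer (N : Set G))
    (ha : (orderOf a).Coprime p) (hb : (orderOf b).Coprime p) (hab : b⁻¹ * a ∈ N) :
    ∃ m ∈ N, a = m * b * m⁻¹ := by
  set H := Subgroup.normalizer (N : Set G)
  have hNH : N ≤ H := Subgroup.le_normalizer
  have haH : a ∈ H := by
    have := H.mul_mem hbN (hNH hab)
    rwa [mul_inv_cancel_left] at this
  have : (N.subgroupOf H).Normal := Subgroup.normal_in_normalizer
  set f := QuotientGroup.mk' (N.subgroupOf H)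
  have hord : ∀ x : H, (orderOf x).Coprime p → orderOf (f x) = orderOf x := by
    intro x hx
    refine Nat.dvd_antisymm (orderOf_map_dvd f x) (orderOf_dvd_of_pow_eq_one ?_)
    have hm : x ^ orderOf (f x) ∈ N.subgroupOf H :=
      (QuotientGroup.eq_one_iff _).1 (by
        show f (x ^ orderOf (f x)) = 1
        rw [map_pow, pow_orderOf_eq_one])
    obtain ⟨k, hk⟩ := hN ⟨_, hm⟩
    have hk' : (x ^ orderOf (f x)) ^ p ^ k = 1 := Subtype.ext (congrArg Subtype.val hk :)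
    exact orderOf_eq_one_iff.1 (Nat.eq_one_of_dvd_coprimes (hx.pow_right k) (orderOf_pow_dvd _)
      (orderOf_dvd_of_pow_eq_one hk'))
  have hfab : f ⟨a, haH⟩ = f ⟨b, hbN⟩ := (QuotientGroup.eq.2 (by
    rw [Subgroup.mem_subgroupOf]
    exact hab)).symm
  have hco : ∀ {x : G} (hx : x ∈ H), orderOf (⟨x, hx⟩ : H) = orderOf x := fun hx =>
    (Subgroup.orderOf_coe (⟨_, hx⟩ : H)).symm
  have hcard : Nat.card (Subgroup.zpowers a) = Nat.card (Subgroup.zpowers b) := by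
    rw [Nat.card_zpowers, Nat.card_zpowers, ← hco haH, ← hco hbN,
      ← hord _ (by rwa [hco]), ← hord ⟨b, hbN⟩ (by rwa [hco]), hfab]
  obtain ⟨j, hj⟩ := IsPGroup.iff_card.1 hN
  have hcop : (Nat.card N).Coprime (Nat.card (Subgroup.zpowers b)) := by
    rw [hj, Nat.card_zpowers]
    exact hb.symm.pow_left j
  have hB' : Subgroup.zpowers a ≤ N ⊔ Subgroup.zpowers b := by
    rw [Subgroup.zpowers_le, show a = b * (b⁻¹ * a) by group]
    exact mul_mem (Subgroup.mem_sup_right (Subgroup.mem_zpowers b)) (Subgroup.mem_sup_left hab)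
  have := hN.isNilpotent
  obtain ⟨n, hn, hnB⟩ := CfsgLib.Solvable.exists_conj_eq_of_coprime
    (Subgroup.zpowers_le.2 hbN) hB' hcard hcop (Or.inl inferInstance)
  have ham : a ∈ (Subgroup.zpowers b).map (MulAut.conj n).toMonoidHom := by
    have h1 : a ∈ MulAut.conj n • Subgroup.zpowers b := hnB.symm ▸ Subgroup.mem_zpowers a
    exact h1
  obtain ⟨c, hc, hca⟩ := ham
  obtain ⟨i, rfl⟩ := (mem_powers_iff_mem_zpowers.2 hc : c ∈ Submonoid.powers b)
  change n * b ^ i * n⁻¹ = a at hca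
  refine ⟨n, hn, ?_⟩
  have hfn : f ⟨n, hNH hn⟩ = 1 := (QuotientGroup.eq_one_iff _).2 hn
  have h1 : f ⟨b, hbN⟩ ^ i = f ⟨b, hbN⟩ := by
    have e : (⟨a, haH⟩ : H) = ⟨n, hNH hn⟩ * ⟨b, hbN⟩ ^ i * (⟨n, hNH hn⟩)⁻¹ := Subtype.ext hca.symm
    have h2 := congrArg f e
    rw [map_mul, map_mul, map_inv, map_pow, hfn, one_mul, inv_one, mul_one, hfab] at h2
    exact h2.symm
  have h2 : i ≡ 1 [MOD orderOf b] := by
    rw [← hco hbN, ← hord _ (by rwa [hco])]
    exact pow_eq_pow_iff_modEq.1 (h1.trans (pow_one _).symm)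
  rw [← hca, pow_eq_pow_iff_modEq.2 h2, pow_one]

/-- A normal `p`-subgroup of the automizer of a fully normalized subgroup is induced by `S`. -/
theorem le_autInducedBy_of_normal [Finite S] [Fact p.Prime] (hS : IsPGroup p S)
    (hF : F.IsSaturated p) (hR : F.IsFullyNormalized R) {K : Subgroup (MulAut R)}
    (hK : IsPGroup p K) (hKF : K ≤ F.autGroup R)
    (hn : ∀ γ ∈ F.autGroup R, ∀ k ∈ K, γ * k * γ⁻¹ ∈ K) : K ≤ autInducedBy S R := by
  have : Finite R := finite_of_le hR.1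
  have : Finite (MulAut R) := finite_mulAut
  obtain ⟨-, T, hT⟩ := isFullyAutomized_of_isFullyNormalized hS hF hR
  obtain ⟨g, hg⟩ := exists_conj_le_sylow T
    (hK.comap_subtype : IsPGroup p (K.subgroupOf (F.autGroup R)))
  intro k hk
  have h1 : (g : MulAut R)⁻¹ * k * (g : MulAut R) ∈ K := by
    have := hn _ (inv_mem g.2) k hk
    rwa [inv_inv] at this
  have h2 := hg ⟨_, hKF h1⟩ h1
  rw [hT, Subgroup.mem_subgroupOf] at h2
  simpa [mul_assoc] using h2

/-! ### The displacement subgroup -/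

/-- The elements of `U` moved by `κ` only inside their coset of `W`. -/
def dispSub (hN : U ≤ Subgroup.normalizer (W : Set Ω)) (κ : MulAut U) : Subgroup U where
  carrier := {x | (x : Ω)⁻¹ * ((κ x : U) : Ω) ∈ W}
  one_mem' := by simp
  mul_mem' := by
    intro a b ha hb
    show ((a * b : U) : Ω)⁻¹ * ((κ (a * b) : U) : Ω) ∈ W
    rw [map_mul, Subgroup.coe_mul, Subgroup.coe_mul,
      show ((a : Ω) * b)⁻¹ * (((κ a : U) : Ω) * ((κ b : U) : Ω)) =
        ((b : Ω)⁻¹ * ((a : Ω)⁻¹ * ((κ a : U) : Ω)) * b) * ((b : Ω)⁻¹ * ((κ b : U) : Ω)) by group]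
    exact W.mul_mem ((Subgroup.mem_normalizer_iff''.1 (hN b.2) _).1 ha) hb
  inv_mem' := by
    intro a ha
    show ((a⁻¹ : U) : Ω)⁻¹ * ((κ a⁻¹ : U) : Ω) ∈ W
    rw [map_inv, Subgroup.coe_inv, Subgroup.coe_inv, inv_inv,
      show (a : Ω) * ((κ a : U) : Ω)⁻¹ =
        (a : Ω) * ((a : Ω)⁻¹ * ((κ a : U) : Ω))⁻¹ * (a : Ω)⁻¹ by group]
    exact conj_mem_of_mem_normalizer (hN a.2) (W.inv_mem ha)

theorem mem_dispSub {hN : U ≤ Subgroup.normalizer (W : Set Ω)} {κ : MulAut U} {x : U} :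
    x ∈ dispSub hN κ ↔ (x : Ω)⁻¹ * ((κ x : U) : Ω) ∈ W := Iff.rfl

/-- Displacement into `W` may be checked on generators. -/
theorem disp_of_gens {A B : Subgroup Ω} {κ : MulAut ↥(A ⊔ B)}
    (hN : A ⊔ B ≤ Subgroup.normalizer (W : Set Ω))
    (hA : ∀ x : A, (x : Ω)⁻¹ *
      ((κ (Subgroup.inclusion le_sup_left x) : ↥(A ⊔ B)) : Ω) ∈ W)
    (hB : ∀ x : B, (x : Ω)⁻¹ *
      ((κ (Subgroup.inclusion le_sup_right x) : ↥(A ⊔ B)) : Ω) ∈ W)
    (x : ↥(A ⊔ B)) : (x : Ω)⁻¹ * ((κ x : ↥(A ⊔ B)) : Ω) ∈ W := by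
  have hle : A ⊔ B ≤ (dispSub hN κ).map (A ⊔ B).subtype :=
    sup_le (fun y hy => ⟨⟨y, Subgroup.mem_sup_left hy⟩, hA ⟨y, hy⟩, rfl⟩)
      fun y hy => ⟨⟨y, Subgroup.mem_sup_right hy⟩, hB ⟨y, hy⟩, rfl⟩
  obtain ⟨y, hy, hyx⟩ := hle x.2
  exact (Subtype.ext hyx : y = x) ▸ hy

/-! ### Good subgroups and the side group -/

/-- `R` is centric and its part in `W` is centric in `W`. -/
structure IsGood (F : Cfsg.FusionSystem S) (W R : Subgroup Ω) : Prop where
  centric : F.IsCentric R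
  tc : IsTC F W (R ⊓ W)

theorem IsGood.of_iso {e : R ≃* Q} (he : IsFIso F e) (hW : F.StronglyClosed W)
    (h : IsGood F W R) : IsGood F W Q := by
  refine ⟨isCentric_of_isConj h.centric he.isConj, h.tc.conj hW ?_⟩
  set g := restrictIso e (inf_le_left : R ⊓ W ≤ R) (inf_le_left : Q ⊓ W ≤ Q) fun x =>
    ⟨fun hx => ⟨x.2, (mem_iff_of_iso he hW x).1 hx.2⟩,
      fun hx => ⟨(e x).2, (mem_iff_of_iso he hW x).2 hx.2⟩⟩
  exact (he.restrict (inf_le_left : R ⊓ W ≤ R) g fun _ => rfl).isConj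

theorem IsGood.mono (h : IsGood F W R) (hRU : R ≤ U) (hUS : U ≤ S) : IsGood F W U :=
  ⟨isCentric_mono h.centric hRU hUS, h.tc.mono (inf_le_inf_right W hRU) inf_le_right⟩

/-- The automorphisms trivial modulo `W` restricting into `D` on `R ⊓ W`. -/
def sideSub (F : Cfsg.FusionSystem S) (D : Cfsg.FusionSystem W) (R : Subgroup Ω) :
    Subgroup (MulAut R) where
  carrier := {κ | κ ∈ F.autGroup R ∧ (∀ x : R, (x : Ω)⁻¹ * ((κ x : R) : Ω) ∈ W) ∧
    ∃ γ ∈ D.autGroup (R ⊓ W), Agree inf_le_left κ γ}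
  one_mem' := ⟨one_mem _, fun x => by simp, 1, one_mem _, fun _ => rfl⟩
  mul_mem' := by
    rintro κ κ' ⟨hκ, hd, γ, hγ, hag⟩ ⟨hκ', hd', γ', hγ', hag'⟩
    refine ⟨mul_mem hκ hκ', fun x => ?_, γ * γ', mul_mem hγ hγ', hag.mul hag'⟩
    have h1 := W.mul_mem (hd' x) (hd (κ' x))
    rwa [mul_assoc, mul_inv_cancel_left] at h1
  inv_mem' := by
    rintro κ ⟨hκ, hd, γ, hγ, hag⟩
    refine ⟨inv_mem hκ, fun x => ?_, γ⁻¹, inv_mem hγ, hag.inv⟩
    have h1 := W.inv_mem (hd ((κ⁻¹ : MulAut R) x))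
    rwa [MulAut.apply_inv_self, mul_inv_rev, inv_inv] at h1

theorem mem_sideSub {κ : MulAut R} : κ ∈ sideSub F D R ↔
    κ ∈ F.autGroup R ∧ (∀ x : R, (x : Ω)⁻¹ * ((κ x : R) : Ω) ∈ W) ∧
      ∃ γ ∈ D.autGroup (R ⊓ W), Agree inf_le_left κ γ := Iff.rfl

theorem congr_mem_sideSub (hD : D.IsInvariantIn F) {e : R ≃* Q} (he : IsFIso F e) {κ : MulAut R}
    (hκ : κ ∈ sideSub F D R) : MulAut.congr e κ ∈ sideSub F D Q := by
  obtain ⟨hκF, hd, γ, hγ, hag⟩ := mem_sideSub.1 hκ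
  refine mem_sideSub.2 ⟨he.congr_mem hκF, fun y => ?_, ?_⟩
  · obtain ⟨x, rfl⟩ := e.surjective y
    rw [congr_apply, MulEquiv.symm_apply_apply]
    have h1 : (e (x⁻¹ * κ x) : Ω) ∈ W := (mem_iff_of_iso he hD.2.1 _).2 (hd x)
    rwa [map_mul, map_inv] at h1
  · set g := restrictIso e (inf_le_left : R ⊓ W ≤ R) (inf_le_left : Q ⊓ W ≤ Q) fun x =>
      ⟨fun hx => ⟨x.2, (mem_iff_of_iso he hD.2.1 x).1 hx.2⟩,
        fun hx => ⟨(e x).2, (mem_iff_of_iso he hD.2.1 x).2 hx.2⟩⟩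
    have hg : IsFIso F g := he.restrict (inf_le_left : R ⊓ W ≤ R) g fun _ => rfl
    exact ⟨_, CfsgLib.FusionQuot.congr_mem_autGroup_of_invariant hD inf_le_right inf_le_right hg hγ,
      agree_congr hag g e inf_le_left fun _ => rfl⟩

theorem conj_mem_sideSub (hD : D.IsInvariantIn F) (hRS : R ≤ S) {γ κ : MulAut R}
    (hγ : γ ∈ F.autGroup R) (hκ : κ ∈ sideSub F D R) : γ * κ * γ⁻¹ ∈ sideSub F D R := by
  rw [← congr_eq_conj]
  exact congr_mem_sideSub hD ((mem_autGroup_iff hRS).1 hγ) hκ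

/-! ### Coprime automorphisms trivial modulo `D` -/

/-- A coprime automorphism carried, by an isomorphism, to the restriction of one in the side group
of a good overgroup. -/
def Tr (F : Cfsg.FusionSystem S) (D : Cfsg.FusionSystem W) (p : ℕ) (R : Subgroup Ω)
    (a : MulAut R) : Prop :=
  (orderOf a).Coprime p ∧ ∃ (Q R' : Subgroup Ω) (e : R ≃* Q) (hle : Q ≤ R') (κ : MulAut R'),
    IsFIso F e ∧ IsGood F W R' ∧ κ ∈ sideSub F D R' ∧ (orderOf κ).Coprime p ∧
      Agree hle κ (MulAut.congr e a)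

theorem tr_congr {f : R ≃* P} (hf : IsFIso F f) {a : MulAut R} (ha : Tr F D p R a) :
    Tr F D p P (MulAut.congr f a) := by
  obtain ⟨hco, Q, R', e, hle, κ, he, hg, hκ, hκco, hag⟩ := ha
  refine ⟨by rwa [orderOf_congr], Q, R', f.symm.trans e, hle, κ, hf.symm.trans he, hg, hκ, hκco, ?_⟩
  rwa [← congr_congr, congr_symm_congr]

theorem tr_restrict (hRU : R ≤ U) {κ : MulAut U} {a : MulAut R} (hag : Agree hRU κ a)
    (hκ : Tr F D p U κ) : Tr F D p R a := by
  obtain ⟨hco, Q, R', e, hle, κ', he, hg, hκ', hκ'co, hag'⟩ := hκ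
  obtain ⟨g, hg', hgx⟩ := exists_iso (restrict_mem he hRU) rfl
  have hQ : ((Q.subtype.comp e.toMonoidHom).comp (Subgroup.inclusion hRU)).range ≤ Q := by
    rintro _ ⟨x, rfl⟩
    exact (e _).2
  refine ⟨coprime_of_agree hRU hag hco, _, R', g, hQ.trans hle, κ', hg', hg, hκ', hκ'co,
    fun y => ?_⟩
  have h1 := agree_congr hag g e hQ fun x => (hgx x).symm
  exact (hag' (Subgroup.inclusion hQ y)).trans (congrArg (Subgroup.inclusion hle) (h1 y))

theorem tr_of_good (hg : IsGood F W R) {a : MulAut R} (ha : a ∈ sideSub F D R)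
    (hco : (orderOf a).Coprime p) : Tr F D p R a :=
  ⟨hco, R, R, MulEquiv.refl R, le_rfl, a, IsFIso.refl hg.centric.1, hg, ha, hco,
    fun x => by rw [congr_refl]; rfl⟩

theorem Tr.mem_autGroup {a : MulAut R} (ha : Tr F D p R a) : a ∈ F.autGroup R := by
  obtain ⟨-, Q, R', e, hle, κ, he, hg, hκ, -, hag⟩ := ha
  refine he.congr_mem_iff.1 ((mem_autGroup_iff_hom he.le_right).2 (mem_of_restrict
    ((mem_autGroup_iff_hom hg.centric.1).1 (mem_sideSub.1 hκ).1) hle _ fun y => ?_))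
  exact (congrArg Subtype.val (hag y)).symm

theorem Tr.disp (hW : F.StronglyClosed W) {a : MulAut R} (ha : Tr F D p R a) (x : R) :
    (x : Ω)⁻¹ * ((a x : R) : Ω) ∈ W := by
  obtain ⟨-, Q, R', e, hle, κ, he, -, hκ, -, hag⟩ := ha
  have h1 := (mem_sideSub.1 hκ).2.1 (Subgroup.inclusion hle (e x))
  rw [hag, congr_apply, MulEquiv.symm_apply_apply] at h1
  have h2 : (e (x⁻¹ * a x) : Ω) ∈ W := by
    rw [map_mul, map_inv]
    exact h1
  exact (mem_iff_of_iso he hW _).1 h2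

theorem Tr.restrict_mem_autGroup (hD : D.IsInvariantIn F) {a : MulAut R} (ha : Tr F D p R a)
    (hQR : Q ≤ R) (hQW : Q ≤ W) {b : MulAut Q} (hab : Agree hQR a b) : b ∈ D.autGroup Q := by
  obtain ⟨-, P', R', e, hle, κ, he, hg, hκ, -, hag⟩ := ha
  obtain ⟨-, -, γ, hγ, hκγ⟩ := mem_sideSub.1 hκ
  set Q' := ((P'.subtype.comp e.toMonoidHom).comp (Subgroup.inclusion hQR)).range
  obtain ⟨g, hg', hgx⟩ := exists_iso (Q := Q') (restrict_mem he hQR) rfl
  have hQ'P : Q' ≤ P' := by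
    rintro _ ⟨x, rfl⟩
    exact (e _).2
  have hQ'W : Q' ≤ W := by
    rintro _ ⟨x, rfl⟩
    exact stronglyClosed_apply_mem hD.2.1 he _ (hQW x.2)
  have hQ'RW : Q' ≤ R' ⊓ W := le_inf (hQ'P.trans hle) hQ'W
  have h1 := agree_congr hab g e hQ'P fun x => (hgx x).symm
  have hmem : MulAut.congr g b ∈ D.autGroup Q' := by
    refine (mem_autGroup_iff_hom hQ'W).2 (mem_of_restrict
      ((mem_autGroup_iff_hom (inf_le_right : R' ⊓ W ≤ W)).1 hγ) hQ'RW _ fun y => ?_)
    have h2 : Subgroup.inclusion (hQ'P.trans hle) ((MulAut.congr g b) y) =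
        Subgroup.inclusion inf_le_left (γ (Subgroup.inclusion hQ'RW y)) := by
      rw [← hκγ]
      exact ((congrArg (Subgroup.inclusion hle) (h1 y)).symm.trans
        (hag (Subgroup.inclusion hQ'P y)).symm :)
    exact congrArg Subtype.val h2
  have h2 := CfsgLib.FusionQuot.congr_mem_autGroup_of_invariant hD hQ'W hQW hg'.symm hmem
  rwa [congr_symm_congr] at h2

theorem Tr.mem_sideSub (hD : D.IsInvariantIn F) {a : MulAut R} (ha : Tr F D p R a) :
    a ∈ sideSub F D R := by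
  have haF := ha.mem_autGroup
  have hst : a ∈ setStab R (R ⊓ W) := fun x => by
    have h : ∀ y : R, ((a y : R) : Ω) ∈ W ↔ (y : Ω) ∈ W := fun y => by
      have h1 := ha.disp hD.2.1 y
      constructor
      · intro hy
        have h2 := W.mul_mem hy (W.inv_mem h1)
        rwa [mul_inv_rev, inv_inv, mul_inv_cancel_left] at h2
      · intro hy
        have h2 := W.mul_mem hy h1
        rwa [mul_inv_cancel_left] at h2
    exact ⟨fun hx => ⟨x.2, (h x).1 hx.2⟩, fun hx => ⟨(a x).2, (h x).2 hx.2⟩⟩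
  exact Balance.mem_sideSub.2 ⟨haF, ha.disp hD.2.1, resHom inf_le_left ⟨a, hst⟩,
    ha.restrict_mem_autGroup hD inf_le_left inf_le_right (agree_resHom _ hst),
    agree_resHom inf_le_left hst⟩

/-- Agreement on a centric subgroup carries `Tr`. -/
theorem tr_of_agree [Finite S] [Fact p.Prime] (hS : IsPGroup p S) (hF : F.IsSaturated p)
    (hR : F.IsCentric R) (hRU : R ≤ U) (hUS : U ≤ S) {κ κ' : MulAut U} (hκ' : κ' ∈ F.autGroup U)
    (hco' : (orderOf κ').Coprime p) {a : MulAut R} (ha : Agree hRU κ a) (ha' : Agree hRU κ' a)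
    (hκ : Tr F D p U κ) : Tr F D p U κ' := by
  obtain ⟨z, hz, -, -, rfl⟩ := exists_conj_of_agree hS hF hR hRU hUS hκ.mem_autGroup hκ' hκ.1 hco'
    ha ha'
  rw [← congr_eq_conj]
  exact tr_congr ((mem_autGroup_iff hUS).1 (autInducedBy_le_autGroup F hUS
    (conjAut_mem_autInducedBy (hUS hz) _))) hκ

/-! ### The subgroup `grow` -/

/-- The automorphisms of `R` stabilizing the series `R ≥ R ⊓ W ≥ 1`. -/
def chainSub (F : Cfsg.FusionSystem S) (W R : Subgroup Ω) : Subgroup (MulAut R) where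
  carrier := {β | β ∈ F.autGroup R ∧ (∀ x : R, (x : Ω)⁻¹ * ((β x : R) : Ω) ∈ W) ∧
    ∀ x : R, (x : Ω) ∈ W → β x = x}
  one_mem' := ⟨one_mem _, fun x => by simp, fun _ _ => rfl⟩
  mul_mem' := by
    rintro β β' ⟨hβ, hd, hf⟩ ⟨hβ', hd', hf'⟩
    refine ⟨mul_mem hβ hβ', fun x => ?_, fun x hx => by rw [MulAut.mul_apply, hf' x hx, hf x hx]⟩
    have h1 := W.mul_mem (hd' x) (hd (β' x))
    rwa [mul_assoc, mul_inv_cancel_left] at h1
  inv_mem' := by
    rintro β ⟨hβ, hd, hf⟩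
    refine ⟨inv_mem hβ, fun x => ?_, fun x hx => β.injective (by rw [MulAut.apply_inv_self, hf x hx])⟩
    have h1 := W.inv_mem (hd ((β⁻¹ : MulAut R) x))
    rwa [MulAut.apply_inv_self, mul_inv_rev, inv_inv] at h1

theorem mem_chainSub {β : MulAut R} : β ∈ chainSub F W R ↔ β ∈ F.autGroup R ∧
    (∀ x : R, (x : Ω)⁻¹ * ((β x : R) : Ω) ∈ W) ∧ ∀ x : R, (x : Ω) ∈ W → β x = x := Iff.rfl

theorem conj_mem_chainSub (hW : F.StronglyClosed W) (hRS : R ≤ S) {γ β : MulAut R}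
    (hγ : γ ∈ F.autGroup R) (hβ : β ∈ chainSub F W R) : γ * β * γ⁻¹ ∈ chainSub F W R := by
  obtain ⟨hβF, hd, hf⟩ := mem_chainSub.1 hβ
  have hg := (mem_autGroup_iff hRS).1 hγ
  refine mem_chainSub.2 ⟨mul_mem (mul_mem hγ hβF) (inv_mem hγ), fun x => ?_, fun x hx => ?_⟩
  · obtain ⟨y, rfl⟩ := γ.surjective x
    rw [MulAut.mul_apply, MulAut.mul_apply, MulAut.inv_apply_self, ← Subgroup.coe_inv,
      ← Subgroup.coe_mul, ← map_inv, ← map_mul]
    exact (mem_iff_of_iso hg hW _).2 (hd y)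
  · obtain ⟨y, rfl⟩ := γ.surjective x
    rw [MulAut.mul_apply, MulAut.mul_apply, MulAut.inv_apply_self,
      hf y ((mem_iff_of_iso hg hW y).1 hx)]

theorem chainSub_isPGroup [Finite S] [Fact p.Prime] (hS : IsPGroup p S) (hRS : R ≤ S) :
    IsPGroup p (chainSub F W R) := by
  have : Finite R := finite_of_le hRS
  have : Finite (MulAut R) := finite_mulAut
  refine Stability.isPGroup_of_coprime_eq_one fun β hβ => Subtype.ext (MulEquiv.ext fun x => ?_)
  rw [← Subgroup.orderOf_coe] at hβ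
  exact Stability.eq_self_of_disp_fixed (hS.to_le hRS) _ hβ (β.2.2.2 _ (β.2.2.1 x))

/-- `R` together with the elements inducing `chainSub`. -/
def grow (F : Cfsg.FusionSystem S) (W R : Subgroup Ω) : Subgroup Ω :=
  R ⊔ (S ⊓ ((chainSub F W R).comap R.normalizerMonoidHom).map
    (Subgroup.normalizer (R : Set Ω)).subtype)

theorem le_grow : R ≤ grow F W R := le_sup_left

theorem mem_grow {g : Ω} (hgS : g ∈ S) (hgN : g ∈ Subgroup.normalizer (R : Set Ω))
    (h : conjAut R g hgN ∈ chainSub F W R) : g ∈ grow F W R :=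
  Subgroup.mem_sup_right ⟨hgS, ⟨g, hgN⟩, h, rfl⟩

theorem grow_le (hRS : R ≤ S) : grow F W R ≤ normalizerIn S R := by
  refine sup_le (le_normalizerIn hRS) ?_
  rintro x ⟨hxS, ⟨y, hy⟩, -, rfl⟩
  exact ⟨hxS, hy⟩

variable [Finite S] [Fact p.Prime]

/-- Every automorphism of a fully normalized `R` carries `Aut_{grow}(R)` into itself. -/
theorem conj_mem_aut_grow (hS : IsPGroup p S) (hF : F.IsSaturated p) (hW : F.StronglyClosed W)
    (hR : F.IsFullyNormalized R) {b : MulAut R} (hb : b ∈ F.autGroup R) {g : Ω}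
    (hg : g ∈ grow F W R) :
    b * conjAut R g (grow_le (W := W) (F := F) hR.1 hg).2 * b⁻¹ ∈ autInducedBy (grow F W R) R := by
  refine act_of_sup (A := R) (fun x hx => (grow_le hR.1 hx).2) (fun r hr => ?_) (fun k hk => ?_) g hg
  · rw [conj_conjAut_self b ⟨r, hr⟩ _ (Subgroup.le_normalizer (b _).2)]
    exact conjAut_mem_autInducedBy (le_grow (b _).2) _
  · obtain ⟨-, ⟨k', hk'N⟩, hk', rfl⟩ := hk
    have h1 : b * conjAut R k' hk'N * b⁻¹ ∈ chainSub F W R := conj_mem_chainSub hW hR.1 hb hk'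
    obtain ⟨t, htN, ht, hteq⟩ := exists_eq_conjAut (le_autInducedBy_of_normal hS hF hR
      (chainSub_isPGroup hS hR.1) (fun β hβ => hβ.1) (fun γ hγ β hβ => conj_mem_chainSub hW hR.1 hγ hβ)
      h1)
    show b * conjAut R k' _ * b⁻¹ ∈ _
    rw [hteq]
    exact conjAut_mem_autInducedBy (mem_grow ht htN (hteq ▸ h1)) _

/-- Automorphisms extend to `grow`. -/
theorem exists_ext_grow (hS : IsPGroup p S) (hF : F.IsSaturated p) (hW : F.StronglyClosed W)
    (hR : F.IsFullyNormalized R) (hc : F.IsCentric R) {b : MulAut R} (hb : b ∈ F.autGroup R) :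
    ∃ b' ∈ F.autGroup (grow F W R), Agree le_grow b' b := by
  have hle := grow_le (W := W) (F := F) hR.1
  obtain ⟨ψ, hψ, hag, hval⟩ := exists_ext_aut hS hF hc hb le_grow hle fun g hg =>
    autInducedBy_mono (hle.trans (normalizerIn_le S R)) R (conj_mem_aut_grow hS hF hW hR hb hg)
  have hmap : ∀ x : grow F W R, ψ x ∈ grow F W R := by
    rintro ⟨g, hg⟩
    obtain ⟨hN, hv⟩ := hval g hg
    obtain ⟨k, hkN, hk, hkeq⟩ := exists_eq_conjAut (conj_mem_aut_grow hS hF hW hR hb hg)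
    have h1 : k⁻¹ * ψ ⟨g, hg⟩ ∈ centralizerIn S R :=
      ⟨S.mul_mem (S.inv_mem ((hle hk).1)) (map_mem hψ _), (conjAut_eq_one_iff
        (mul_mem (inv_mem hkN) hN)).1 (by
          rw [← conjAut_mul (inv_mem hkN) hN, ← conjAut_inv hkN, hv, ← hkeq, inv_mul_cancel])⟩
    have h2 := (grow F W R).mul_mem hk (le_grow (centralizerIn_le_of_isCentric hc h1))
    rwa [mul_inv_cancel_left] at h2
  obtain ⟨b', hb', hb'x⟩ := LayerCore.exists_aut_of_mapsTo hψ hmap
  exact ⟨b', hb', fun x => Subtype.ext ((hb'x _).trans (hag x))⟩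

/-- `grow` is bigger unless `R` is good. -/
theorem lt_grow (hS : IsPGroup p S) (hF : F.IsSaturated p) (hW : F.StronglyClosed W)
    (hc : F.IsCentric R) (hV : F.IsFullyNormalized (R ⊓ W)) (hng : ¬ IsGood F W R) :
    R < grow F W R := by
  refine lt_of_le_of_ne le_grow fun heq => ?_
  have hRS := hc.1
  set V := R ⊓ W with hVdef
  have hVfc := isFullyCentralized_of_isFullyNormalized hS hF hV
  have hC : ¬ centralizerIn W V ≤ V := fun h =>
    hng ⟨hc, isTC_of_fullyCentralized hS hF hW hVfc inf_le_right h⟩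
  set C := centralizerIn W V with hCdef
  have hRN : R ≤ Subgroup.normalizer (C : Set Ω) := by
    intro r hr
    have hrW := stronglyClosed_le_normalizer hW (hRS hr)
    have hrV : r ∈ Subgroup.normalizer (V : Set Ω) := Subgroup.mem_normalizer_iff.2 fun x => by
      simp only [hVdef, Subgroup.mem_inf]
      exact and_congr (Subgroup.mem_normalizer_iff.1 (Subgroup.le_normalizer hr) x)
        (Subgroup.mem_normalizer_iff.1 hrW x)
    refine Subgroup.mem_normalizer_iff.2 fun x => ?_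
    have h1 := Subgroup.mem_normalizer_iff.1 (mem_normalizer_centralizerIn (hRS hr) hrV) x
    have h2 := Subgroup.mem_normalizer_iff.1 hrW x
    constructor
    · intro hx
      exact ⟨h2.1 hx.1, (h1.1 ⟨hW.1 hx.1, hx.2⟩).2⟩
    · intro hx
      exact ⟨h2.2 hx.1, (h1.2 ⟨hW.1 hx.1, hx.2⟩).2⟩
  set A := C ⊔ R with hA
  have hAS : A ≤ S := sup_le ((centralizerIn_le W V).trans hW.1) hRS
  have hlt : R < A := lt_of_le_of_ne le_sup_right fun h => hC fun x hx =>
    ⟨h.ge (Subgroup.mem_sup_left hx), hx.1⟩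
  have : Finite A := finite_of_le hAS
  obtain ⟨g, hgN, hgR⟩ := SetLike.exists_of_lt (lt_normalizerIn (hS.to_le hAS) hlt)
  have hgA : g ∈ ((C ⊔ R : Subgroup Ω) : Set Ω) := hgN.1
  rw [Subgroup.coe_mul_of_right_le_normalizer_left C R hRN] at hgA
  obtain ⟨w, hw, r, hr, rfl⟩ := hgA
  have hwR : w ∉ R := fun h => hgR (R.mul_mem h hr)
  have hwN : w ∈ Subgroup.normalizer (R : Set Ω) := by
    have := Subgroup.mul_mem _ hgN.2 (Subgroup.inv_mem _ (Subgroup.le_normalizer hr))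
    rwa [mul_inv_cancel_right] at this
  refine hwR (heq.ge (mem_grow (hW.1 hw.1) hwN (mem_chainSub.2
    ⟨autInducedBy_le_autGroup F hRS (conjAut_mem_autInducedBy (hW.1 hw.1) hwN), fun x => ?_,
      fun x hx => Subtype.ext ?_⟩)))
  · show (x : Ω)⁻¹ * (w * x * w⁻¹) ∈ W
    rw [← mul_assoc, ← mul_assoc]
    exact W.mul_mem ((Subgroup.mem_normalizer_iff''.1
      (stronglyClosed_le_normalizer hW (hRS x.2)) w).1 hw.1) (W.inv_mem hw.1)
  · show w * (x : Ω) * w⁻¹ = x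
    rw [← Subgroup.mem_centralizer_iff.1 hw.2 x ⟨x.2, hx⟩, mul_inv_cancel_right]

end CfsgLib.Fusion.Balance
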