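import Cfsg.Agent.Lib.Fusion.Balance.Hull
import Cfsg.Agent.Lib.Fusion.Comp.Main

/-!
# Climbing to a strongly closed subgroup containing its centralizer

A coprime automorphism fixing `X` and the part of its domain in `U`, where `U` is strongly closed and
contains the focal subgroup of its centralizer, is trivial as soon as the domain contains `N_U(X)`,
this being of largest order in the class of `X` (`climb`).
-/

set_option autoImplicit false
set_option linter.unusedSectionVars false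
set_option linter.unusedVariables false

namespace CfsgLib.Fusion.Balance

open Cfsg Cfsg.FusionSystem CfsgLib.Fusion CfsgLib.Fusion.Inter CfsgLib.Fusion.SatCriterion
open scoped Pointwise

variable {Ω : Type*} [Group Ω] {S U : Subgroup Ω} {F : Cfsg.FusionSystem S} {p : ℕ}
variable {A R X : Subgroup Ω}

variable [Finite S] [Fact p.Prime]

/-- A coprime automorphism centralizing `U` moves `C(U)` only into the focal subgroup. -/
theorem disp_mem_centFocal (_hU : F.StronglyClosed U) (hA : A ≤ S) (hUA : U ≤ A) {β : MulAut A}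
    (hβ : β ∈ F.autGroup A) (hfix : ∀ x : A, (x : Ω) ∈ U → β x = x) {c : A}
    (hc : (c : Ω) ∈ Subgroup.centralizer (U : Set Ω)) :
    (c : Ω)⁻¹ * ((β c : A) : Ω) ∈ CenSub.centFocal F U := by
  set P := A ⊓ Subgroup.centralizer (U : Set Ω) with hP
  have hPA : P ≤ A := inf_le_left
  have hβh := (mem_autGroup_iff_hom hA).1 hβ
  have hmem : ∀ x : P, ((β (Subgroup.inclusion hPA x) : A) : Ω) ∈ centralizerIn S U := by
    intro x
    refine ⟨hA (β _).2, Subgroup.mem_centralizer_iff.2 fun u hu => ?_⟩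
    have h1 : (⟨u, hUA hu⟩ : A) * Subgroup.inclusion hPA x =
        Subgroup.inclusion hPA x * ⟨u, hUA hu⟩ :=
      Subtype.ext (Subgroup.mem_centralizer_iff.1 x.2.2 u hu)
    have h2 := congrArg β h1
    rw [map_mul, map_mul, hfix ⟨u, hUA hu⟩ hu] at h2
    exact congrArg Subtype.val h2
  exact Subgroup.subset_closure ⟨P, (A.subtype.comp β.toMonoidHom).comp (Subgroup.inclusion hPA),
    ⟨(c : Ω), c.2, hc⟩,
    ⟨restrict_mem hβh hPA, fun x hx => ⟨hA hx.1, hx.2⟩, hmem,
      (A.subtype.comp β.toMonoidHom).comp (Subgroup.inclusion (sup_le hPA hUA)),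
      restrict_mem hβh _, fun x => rfl,
      fun u => congrArg Subtype.val (hfix (Subgroup.inclusion hUA u) u.2)⟩, rfl⟩

/-- A coprime automorphism of a group containing `U` and fixing it is trivial. -/
theorem eq_one_of_fix (hS : IsPGroup p S) (hU : F.StronglyClosed U)
    (hfoc : CenSub.centFocal F U ≤ U) (hA : A ≤ S) (hUA : U ≤ A) {β : MulAut A}
    (hβ : β ∈ F.autGroup A) (hco : (orderOf β).Coprime p)
    (hfix : ∀ x : A, (x : Ω) ∈ U → β x = x) : β = 1 := by
  have : Finite A := finite_of_le hA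
  refine MulEquiv.ext fun x => eq_self_of_fix_centralizer (hS.to_le hA) β hco (U.subgroupOf A)
    (fun y hy => hfix y hy) (fun c hc => Stability.eq_self_of_disp_fixed (hS.to_le hA) β hco
      (hfix _ (hfoc (disp_mem_centFocal hU hA hUA hβ hfix ?_)))) x
  exact Subgroup.mem_centralizer_iff.2 fun u hu =>
    congrArg Subtype.val (Subgroup.mem_centralizer_iff.1 hc ⟨u, hUA hu⟩ hu)

/-- The hypothesis of the climb. -/
def Climbable (F : Cfsg.FusionSystem S) (U A X : Subgroup Ω) : Prop :=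
  normalizerIn U X ≤ A ∧ ∀ X', F.IsConj X X' →
    Nat.card (normalizerIn U X') ≤ Nat.card (normalizerIn U X)

/-- The climb. -/
theorem climb (hS : IsPGroup p S) (hF : F.IsSaturated p) (hU : F.StronglyClosed U)
    (hfoc : CenSub.centFocal F U ≤ U) :
    ∀ (A X : Subgroup Ω) (hA : A ≤ S), X ≤ A → Climbable F U A X → ∀ β ∈ F.autGroup A,
      (orderOf β).Coprime p → (∀ x : A, (x : Ω) ∈ U → β x = x) →
        (∀ x : A, (x : Ω) ∈ X → β x = x) → β = 1 := by
  intro A
  induction hn : Nat.card S - Nat.card A using Nat.strong_induction_on generalizing A with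
  | _ n ih =>
  intro X hA hXA hcl β hβ hco hfU hfX
  by_cases hUA : U ≤ A
  · exact eq_one_of_fix hS hU hfoc hA hUA hβ hco hfU
  have : Finite U := finite_of_le hU.1
  -- move to a fully normalized conjugate
  obtain ⟨R, hc, hR⟩ := exists_isFullyNormalized F hA
  obtain ⟨e, he, -⟩ := exists_normalizer_map hS hF hR hc
  suffices hmain : MulAut.congr e β = 1 from
    (MulAut.congr e).injective (hmain.trans (map_one _).symm)
  have hRS : R ≤ S := hR.1
  have : Finite R := finite_of_le hRS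
  have : Finite (MulAut R) := finite_mulAut
  set β' := MulAut.congr e β with hβ'
  have hβ'F : β' ∈ F.autGroup R := he.congr_mem hβ
  have hβ'co : (orderOf β').Coprime p := by rwa [hβ', orderOf_congr]
  have hβ'fix : ∀ (Z : Subgroup Ω) (y : R), (∀ x : A, (x : Ω) ∈ Z → β x = x) →
      (e.symm y : Ω) ∈ Z → β' y = y := fun Z y hZ hy => by
    rw [hβ', congr_apply, hZ _ hy, MulEquiv.apply_symm_apply]
  have hfU' : ∀ y : R, (y : Ω) ∈ U → β' y = y := fun y hy =>
    hβ'fix U y hfU ((mem_iff_of_iso he.symm hU y).2 hy)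
  set X' := (X.subgroupOf A).map (R.subtype.comp e.toMonoidHom) with hX'
  have hX'R : X' ≤ R := by
    rintro _ ⟨x, -, rfl⟩
    exact (e x).2
  have hfX' : ∀ y : R, (y : Ω) ∈ X' → β' y = y := by
    intro y hy
    obtain ⟨x, hx, hxy⟩ := hy
    obtain rfl : e x = y := Subtype.ext hxy
    exact hβ'fix X _ hfX (by rw [MulEquiv.symm_apply_apply]; exact hx)
  have hconj : F.IsConj X X' := ⟨_, restrict_mem he hXA, range_comp_inclusion hXA⟩
  have hcl' : Climbable F U R X' := by
    have hle : ∀ y : normalizerIn U X, (e ⟨y, hcl.1 y.2⟩ : Ω) ∈ normalizerIn U X' := by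
      intro y
      refine ⟨(mem_iff_of_iso he hU _).2 y.2.1, Subgroup.mem_normalizer_iff.2 fun z => ?_⟩
      constructor
      · rintro ⟨x, hx, rfl⟩
        refine ⟨⟨y, hcl.1 y.2⟩ * x * ⟨y, hcl.1 y.2⟩⁻¹, conj_mem_of_mem_normalizer y.2.2 hx, ?_⟩
        show (e (⟨y, hcl.1 y.2⟩ * x * ⟨y, hcl.1 y.2⟩⁻¹) : Ω) = _
        rw [map_mul, map_mul, map_inv]
        rfl
      · rintro ⟨x, hx, hxz⟩
        refine ⟨⟨y, hcl.1 y.2⟩⁻¹ * x * ⟨y, hcl.1 y.2⟩, ?_, ?_⟩
        · exact (Subgroup.mem_normalizer_iff''.1 y.2.2 _).1 hx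
        · show (e (⟨y, hcl.1 y.2⟩⁻¹ * x * ⟨y, hcl.1 y.2⟩) : Ω) = z
          rw [map_mul, map_mul, map_inv]
          change (e x : Ω) = _ at hxz
          rw [Subgroup.coe_mul, Subgroup.coe_mul, Subgroup.coe_inv, hxz]
          group
    have : Finite (normalizerIn U X') := finite_of_le (normalizerIn_le U X')
    have : Finite (normalizerIn U X) := finite_of_le (normalizerIn_le U X)
    set k : normalizerIn U X → normalizerIn U X' := fun y => ⟨_, hle y⟩
    have hinj : Function.Injective k := fun a b hab =>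
      Subtype.ext (congrArg Subtype.val (e.injective (Subtype.ext (Subtype.ext_iff.1 hab :))) :)
    have hb : Function.Bijective k := (Nat.bijective_iff_injective_and_card k).2
      ⟨hinj, le_antisymm (Nat.card_le_card_of_injective k hinj) (hcl.2 X' hconj)⟩
    refine ⟨fun y hy => ?_, fun X'' h'' => (hcl.2 X'' (isConj_trans hconj h'')).trans
      (Nat.card_le_card_of_injective k hinj)⟩
    obtain ⟨x, hx⟩ := hb.2 ⟨y, hy⟩
    exact (congrArg (· ∈ R) (Subtype.ext_iff.1 hx :)).mp (e _).2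
  -- extend over the normalizer in `U`
  have hUnR : R ≤ Subgroup.normalizer (U : Set Ω) := hRS.trans (stronglyClosed_le_normalizer hU)
  set Y := normalizerIn U R with hY
  have hYS : Y ≤ S := (normalizerIn_le U R).trans hU.1
  have hRY : R ≤ Subgroup.normalizer (Y : Set Ω) := fun r hr =>
    Subgroup.mem_normalizer_iff.2 fun x => by
      have hrN : r ∈ Subgroup.normalizer (R : Set Ω) := Subgroup.le_normalizer hr
      refine and_congr (Subgroup.mem_normalizer_iff.1 (hUnR hr) x) ⟨fun h => ?_, fun h => ?_⟩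
      · exact mul_mem (mul_mem hrN h) ((Subgroup.normalizer (R : Set Ω)).inv_mem hrN)
      · simpa [mul_assoc] using
          mul_mem (mul_mem ((Subgroup.normalizer (R : Set Ω)).inv_mem hrN) h) hrN
  set A₂ := Y ⊔ R with hA₂
  have hA₂N : A₂ ≤ normalizerIn S R :=
    sup_le (fun y hy => ⟨hYS hy, hy.2⟩) (le_normalizerIn hRS)
  have hA₂S : A₂ ≤ S := hA₂N.trans (normalizerIn_le S R)
  have : Finite A₂ := finite_of_le hA₂S
  have hlt : R < A₂ := by
    refine lt_of_le_of_ne le_sup_right fun heq => hUA fun u hu => ?_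
    have hUR : U ≤ R := by
      intro u hu
      by_contra huR
      have hVS : U ⊔ R ≤ S := sup_le hU.1 hRS
      have : Finite ↥(U ⊔ R) := finite_of_le hVS
      obtain ⟨g, hgN, hgR⟩ := SetLike.exists_of_lt (lt_normalizerIn (hS.to_le hVS)
        (lt_of_le_of_ne le_sup_right fun h => huR (h.ge (Subgroup.mem_sup_left hu))))
      have hgV : g ∈ ((U ⊔ R : Subgroup Ω) : Set Ω) := hgN.1
      rw [Subgroup.coe_mul_of_right_le_normalizer_left U R hUnR] at hgV
      obtain ⟨v, hv, r, hr, rfl⟩ := hgV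
      have hvN : v ∈ Subgroup.normalizer (R : Set Ω) := by
        have := Subgroup.mul_mem _ hgN.2 (Subgroup.inv_mem _ (Subgroup.le_normalizer hr))
        rwa [mul_inv_cancel_right] at this
      exact hgR (R.mul_mem (heq.ge (Subgroup.mem_sup_left ⟨hv, hvN⟩)) hr)
    -- every element of `U` comes from `A`
    have : Finite A := finite_of_le hA
    set k : U → U := fun v => ⟨(e.symm ⟨v, hUR v.2⟩ : Ω), (mem_iff_of_iso he.symm hU _).2 v.2⟩
    have hk : Function.Injective k := fun a b hab =>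
      Subtype.ext (congrArg Subtype.val
        (e.symm.injective (Subtype.ext (Subtype.ext_iff.1 hab :))) :)
    obtain ⟨v, hv⟩ := (Finite.surjective_of_injective hk) ⟨u, hu⟩
    exact (congrArg (· ∈ A) (Subtype.ext_iff.1 hv :)).mp (e.symm _).2
  obtain ⟨ψ, hψ, -, hag⟩ := ((mem_autGroup_iff hRS).1 hβ'F).exists_extension
    (isReceptive_of_isFullyNormalized hS hF hR) (le_sup_right : R ≤ A₂) hA₂N fun g hg => by
      rw [congr_eq_conj]
      refine act_of_sup (hA₂N.trans inf_le_right) (fun y hy => ?_) (fun r hr => ?_) g hg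
      · have hyS : conjAut R y hy.2 ∈ autInducedBy S R := conjAut_mem_autInducedBy (hYS hy) hy.2
        have hyF := autInducedBy_le_autGroup F hRS hyS
        have hyd : ∀ x : R, (x : Ω)⁻¹ * ((conjAut R y hy.2 x : R) : Ω) ∈ U := fun x => by
          show (x : Ω)⁻¹ * (y * x * y⁻¹) ∈ U
          rw [← mul_assoc, ← mul_assoc]
          exact U.mul_mem ((Subgroup.mem_normalizer_iff''.1 (hUnR x.2) y).1 hy.1) (U.inv_mem hy.1)
        have hchain : β' * conjAut R y hy.2 * β'⁻¹ * (conjAut R y hy.2)⁻¹ ∈ chainSub F U R := by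
          refine mem_chainSub.2 ⟨mul_mem (mul_mem (mul_mem hβ'F hyF) (inv_mem hβ'F)) (inv_mem hyF),
            fun x => ?_, fun x hx => ?_⟩
          · have h1 := hyd ((conjAut R y hy.2)⁻¹ x)
            rw [MulAut.apply_inv_self] at h1
            have h2 := disp_conj hU hRS hβ'F hyd ((conjAut R y hy.2)⁻¹ x)
            have h3 := U.mul_mem (U.inv_mem h1) h2
            rwa [mul_inv_rev, inv_inv, mul_assoc, mul_inv_cancel_left] at h3
          · have hcx : (((conjAut R y hy.2)⁻¹ x : R) : Ω) ∈ U :=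
              Stability.aut_mem hU hRS (inv_mem hyF) hx
            rw [MulAut.mul_apply, MulAut.mul_apply, MulAut.mul_apply,
              show β'⁻¹ ((conjAut R y hy.2)⁻¹ x) = (conjAut R y hy.2)⁻¹ x from
                β'.injective (by rw [MulAut.apply_inv_self, hfU' _ hcx]),
              MulAut.apply_inv_self, hfU' x hx]
        have h1 := mul_mem (le_autInducedBy_of_normal hS hF hR (chainSub_isPGroup hS hRS)
          (fun γ hγ => hγ.1) (fun δ hδ γ hγ => conj_mem_chainSub hU hRS hδ hγ) hchain) hyS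
        rwa [inv_mul_cancel_right] at h1
      · rw [conj_conjAut_self β' ⟨r, hr⟩ _ (Subgroup.le_normalizer (β' _).2)]
        exact conjAut_mem_autInducedBy (hRS (β' _).2) _
  have hYmap : ∀ y : Y, ψ (Subgroup.inclusion le_sup_left y) ∈ Y := fun y =>
    ⟨stronglyClosed_apply_mem hU hψ _ y.2.1,
      map_mem_normalizer_of_extends (e := (β' : R ≃* R)) le_sup_right hag
        (Subgroup.mem_sup_left y.2) y.2.2⟩
  obtain ⟨b₁, hb₁, hb₁x⟩ := LayerCore.exists_aut_of_mapsTo hψ (forall_mem_of_sup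
    (fun y => Subgroup.mem_sup_left (hYmap y))
    fun r => Subgroup.mem_sup_right (by
      rw [show ψ (Subgroup.inclusion le_sup_right r) = ((β' r : R) : Ω) from hag r]
      exact (β' r).2))
  obtain ⟨m, hm, hmag⟩ := exists_coprime_pow (le_sup_right : R ≤ A₂) hβ'co b₁
    fun r => Subtype.ext ((hb₁x _).trans (hag r))
  set b := b₁ ^ m with hb
  have hbF : b ∈ F.autGroup A₂ := pow_mem hb₁ m
  have hbR : Agree (le_sup_right : R ≤ A₂) b β' := hmag
  -- `b` fixes `Y ⊔ X'`
  have hbX : ∀ x : A₂, (x : Ω) ∈ X' → b x = x := fun x hx => by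
    rw [show x = Subgroup.inclusion le_sup_right (⟨(x : Ω), hX'R hx⟩ : R) from rfl, hbR,
      hfX' _ hx]
  set G := Y ⊔ X' with hG
  have hGA : G ≤ A₂ := sup_le_sup_left hX'R Y
  obtain ⟨μ, hμ, hbμ⟩ := exists_res hGA hA₂S hbF (forall_mem_of_sup
    (φ := (A₂.subtype.comp b.toMonoidHom).comp (Subgroup.inclusion hGA))
    (fun y => Subgroup.mem_sup_left ⟨Stability.aut_mem hU hA₂S hbF y.2.1,
      (conj_conjAut_of_agree le_sup_right hbR (Subgroup.mem_sup_left y.2) y.2.2).1⟩)
    fun x => Subgroup.mem_sup_right (by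
      show ((b _ : A₂) : Ω) ∈ X'
      rw [hbX _ x.2]
      exact x.2))
  have hGS : G ≤ S := hGA.trans hA₂S
  have : Finite G := finite_of_le hGS
  have hfixG : ∀ z : A₂, (z : Ω) ∈ G → b z = z := by
    intro z hz
    have h1 : b z = Subgroup.inclusion hGA (μ ⟨z, hz⟩) := hbμ ⟨z, hz⟩
    rw [h1]
    refine Eq.trans (congrArg (Subgroup.inclusion hGA) (show μ ⟨z, hz⟩ = ⟨z, hz⟩ from ?_))
      (Subtype.ext rfl)
    refine eq_self_of_fix_centralizer (hS.to_le hGS) μ (coprime_of_agree hGA hbμ hm)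
      (X'.subgroupOf G) (fun w hw => Subgroup.inclusion_injective hGA
        ((hbμ w).symm.trans (hbX _ hw))) (fun w hw => ?_) _
    have hX'Y : X' ≤ Subgroup.normalizer (Y : Set Ω) := hX'R.trans hRY
    have hwG : (w : Ω) ∈ ((Y ⊔ X' : Subgroup Ω) : Set Ω) := w.2
    rw [Subgroup.coe_mul_of_right_le_normalizer_left Y X' hX'Y] at hwG
    obtain ⟨y, hy, x, hx, hyx⟩ := hwG
    have hyxw : y * x = (w : Ω) := hyx
    have hwN : (w : Ω) ∈ Subgroup.normalizer (X' : Set Ω) :=
      centralizer_le_normalizer X' (Subgroup.mem_centralizer_iff.2 fun u hu =>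
        congrArg Subtype.val
          (Subgroup.mem_centralizer_iff.1 hw ⟨u, Subgroup.mem_sup_right hu⟩ hu))
    have hyN : y ∈ normalizerIn U X' := ⟨hy.1, by
      have := Subgroup.mul_mem _ hwN (Subgroup.inv_mem _ (Subgroup.le_normalizer hx))
      rwa [← hyxw, mul_inv_cancel_right] at this⟩
    have hyR : y ∈ R := hcl'.1 hyN
    have hwR : (w : Ω) ∈ R := hyxw ▸ R.mul_mem hyR (hX'R hx)
    refine Subgroup.inclusion_injective hGA ((hbμ w).symm.trans ?_)
    show b (Subgroup.inclusion (le_sup_right : R ≤ A₂) (⟨(w : Ω), hwR⟩ : R)) =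
      Subgroup.inclusion (le_sup_right : R ≤ A₂) (⟨(w : Ω), hwR⟩ : R)
    rw [hbR]
    refine congrArg (Subgroup.inclusion (le_sup_right : R ≤ A₂)) ?_
    rw [show (⟨(w : Ω), hwR⟩ : R) = ⟨y, hyR⟩ * ⟨x, hX'R hx⟩ from Subtype.ext hyxw.symm, map_mul,
      hfU' _ hy.1, hfX' _ hx]
  have hfU₂ : ∀ z : A₂, (z : Ω) ∈ U → b z = z := by
    intro z hz
    have hzA : (z : Ω) ∈ ((Y ⊔ R : Subgroup Ω) : Set Ω) := z.2
    rw [Subgroup.coe_mul_of_right_le_normalizer_left Y R hRY] at hzA
    obtain ⟨y, hy, r, hr, hyr⟩ := hzA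
    have hyrz : y * r = (z : Ω) := hyr
    have hrU : r ∈ U := by
      have := U.mul_mem (U.inv_mem hy.1) hz
      rwa [← hyrz, inv_mul_cancel_left] at this
    rw [show z = (⟨y, Subgroup.mem_sup_left hy⟩ : A₂) *
      Subgroup.inclusion le_sup_right (⟨r, hr⟩ : R) from Subtype.ext hyrz.symm, map_mul,
      hfixG _ (Subgroup.mem_sup_left hy), hbR, hfU' ⟨r, hr⟩ hrU]
  have hcard : Nat.card R < Nat.card A₂ := card_lt_card' hA₂S hlt
  have hb1 : b = 1 := by
    have h2 : Nat.card A₂ ≤ Nat.card S := Subgroup.card_le_of_le hA₂S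
    have h3 : Nat.card A = Nat.card R := Nat.card_congr e.toEquiv
    exact ih _ (by omega) A₂ rfl X' hA₂S (hX'R.trans le_sup_right)
      ⟨hcl'.1.trans le_sup_right, hcl'.2⟩ b hbF hm hfU₂ hbX
  exact Agree.unique hbR (b := 1) fun r => by rw [hb1]; rfl

end CfsgLib.Fusion.Balance
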