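import Cfsg.Agent.Lib.Fusion.Inter.UpDown
import Cfsg.Agent.Lib.Solvable.SchurZassenhaus

/-!
# Coprime automorphisms: uniqueness of extensions, conjugates normalized on both levels
-/

set_option autoImplicit false
set_option linter.unusedSectionVars false

namespace CfsgLib.Fusion.Balance

open Cfsg Cfsg.FusionSystem CfsgLib.Fusion CfsgLib.Fusion.Inter CfsgLib.Fusion.SatCriterion
open scoped Pointwise

/-- A coprime automorphism fixing a subgroup and its centralizer pointwise is trivial. -/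
theorem eq_self_of_fix_centralizer {G : Type*} [Group G] [Finite G] {p : ℕ} [Fact p.Prime]
    (hG : IsPGroup p G) (α : MulAut G) (hα : (orderOf α).Coprime p) (B : Subgroup G)
    (hB : ∀ x ∈ B, α x = x) (hC : ∀ x ∈ Subgroup.centralizer (B : Set G), α x = x) (x : G) :
    α x = x := by
  set K := (α.toMonoidHom).eqLocus (MonoidHom.id G) with hK
  have hmem : ∀ g, g ∈ K ↔ α g = g := fun g => Iff.rfl
  suffices hKt : K = ⊤ by exact (hmem x).1 (hKt ▸ Subgroup.mem_top x)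
  by_contra hne
  have := hG.isNilpotent
  have hlt := Group.normalizerCondition_of_isNilpotent K (lt_top_iff_ne_top.2 hne)
  obtain ⟨g, hgN, hgK⟩ := SetLike.exists_of_lt hlt
  refine hgK ((hmem g).2 (Stability.eq_self_of_disp_fixed hG α hα (hC _ ?_)))
  refine Subgroup.mem_centralizer_iff.2 fun b hb => ?_
  have h1 : g * b * g⁻¹ ∈ K := (Subgroup.mem_normalizer_iff.1 hgN b).1 ((hmem b).2 (hB b hb))
  have h2 : α g * b * (α g)⁻¹ = g * b * g⁻¹ := by
    have := (hmem _).1 h1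
    rwa [map_mul, map_mul, map_inv, hB b hb] at this
  calc b * (g⁻¹ * α g) = g⁻¹ * (g * b * g⁻¹) * α g := by group
    _ = g⁻¹ * α g * b := by rw [← h2]; group

variable {Ω : Type*} [Group Ω] {S W : Subgroup Ω} {F : Cfsg.FusionSystem S} {p : ℕ}
variable {R U P Q : Subgroup Ω}

/-- `β` maps `R` to itself as soon as it restricts to an automorphism of `R`. -/
theorem setStab_of_agree (hRU : R ≤ U) {β : MulAut U} {a : MulAut R} (h : Agree hRU β a) :
    β ∈ setStab U R := fun x => by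
  constructor
  · intro hx
    have h1 := h (a⁻¹ ⟨_, hx⟩)
    rw [MulAut.apply_inv_self] at h1
    rw [← β.injective (h1.trans (Subtype.ext rfl) : β _ = β x)]
    exact (a⁻¹ ⟨_, hx⟩).2
  · intro hx
    have h1 : β x = Subgroup.inclusion hRU (a ⟨x, hx⟩) := h ⟨x, hx⟩
    rw [h1]
    exact (a _).2

theorem Agree.pow {hRU : R ≤ U} {β : MulAut U} {a : MulAut R} (h : Agree hRU β a) :
    ∀ n : ℕ, Agree hRU (β ^ n) (a ^ n)
  | 0 => fun _ => rfl
  | n + 1 => fun x => by
    rw [pow_succ, pow_succ, MulAut.mul_apply, MulAut.mul_apply, h, Agree.pow h n]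

theorem Agree.unique {hRU : R ≤ U} {β : MulAut U} {a b : MulAut R} (h : Agree hRU β a)
    (h' : Agree hRU β b) : a = b :=
  MulEquiv.ext fun x => Subgroup.inclusion_injective hRU ((h x).symm.trans (h' x))

theorem agree_resHom (hRU : R ≤ U) {β : MulAut U} (hβ : β ∈ setStab U R) :
    Agree hRU β (resHom hRU ⟨β, hβ⟩) := fun _ => Subtype.ext rfl

variable [Finite S] [Fact p.Prime]

theorem isPGroup_autInducedBy_of_le {K : Subgroup Ω} (hS : IsPGroup p S) (hK : K ≤ S)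
    (U : Subgroup Ω) : IsPGroup p (autInducedBy K U) :=
  (isPGroup_autInducedBy hS U).to_le (autInducedBy_mono hK U)

/-- A coprime automorphism fixing a centric subgroup pointwise is trivial. -/
theorem eq_one_of_fix_centric (hS : IsPGroup p S) (hF : F.IsSaturated p) (hR : F.IsCentric R)
    (hRU : R ≤ U) (hUS : U ≤ S) {κ : MulAut U} (hκ : κ ∈ F.autGroup U)
    (hco : (orderOf κ).Coprime p) (hfix : ∀ x : U, (x : Ω) ∈ R → κ x = x) : κ = 1 := by
  obtain ⟨z, hzR, -, hz⟩ := eq_conj_of_fix_centric hS hF hR ((mem_autGroup_iff_hom hUS).1 hκ) hRU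
    fun x hx => congrArg Subtype.val (hfix x hx)
  have hmem : κ ∈ autInducedBy U U := mem_autInducedBy_iff.2 ⟨z, hRU hzR, fun x => hz x⟩
  obtain ⟨k, hk⟩ := isPGroup_autInducedBy_of_le hS hUS U ⟨κ, hmem⟩
  refine orderOf_eq_one_iff.1 (Nat.eq_one_of_dvd_coprimes (hco.pow_right k) dvd_rfl ?_)
  exact orderOf_dvd_of_pow_eq_one (congrArg Subtype.val hk)

/-- Two coprime automorphisms agreeing on a centric subgroup are conjugate by one of its central
elements. -/
theorem exists_conj_of_agree (hS : IsPGroup p S) (hF : F.IsSaturated p) (hR : F.IsCentric R)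
    (hRU : R ≤ U) (hUS : U ≤ S) {κ κ' : MulAut U} (hκ : κ ∈ F.autGroup U)
    (hκ' : κ' ∈ F.autGroup U) (hco : (orderOf κ).Coprime p) (hco' : (orderOf κ').Coprime p)
    {a : MulAut R} (ha : Agree hRU κ a) (ha' : Agree hRU κ' a) :
    ∃ z, ∃ hz : z ∈ U, z ∈ R ∧ z ∈ Subgroup.centralizer (R : Set Ω) ∧
      κ' = conjAut U z (Subgroup.le_normalizer hz) * κ *
        (conjAut U z (Subgroup.le_normalizer hz))⁻¹ := by
  classical
  have : Finite U := finite_of_le hUS
  have : Finite (MulAut U) := finite_mulAut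
  set Z : Subgroup Ω := R ⊓ Subgroup.centralizer (R : Set Ω) with hZ
  have hZU : Z ≤ U := inf_le_left.trans hRU
  set N := autInducedBy Z U with hN
  have hNp : IsPGroup p N := isPGroup_autInducedBy_of_le hS (hZU.trans hUS) U
  -- elements of `N` fix `R`
  have hNfix : ∀ n ∈ N, ∀ x : R, n (Subgroup.inclusion hRU x) = Subgroup.inclusion hRU x := by
    intro n hn x
    obtain ⟨z, hzN, hz, rfl⟩ := exists_eq_conjAut hn
    refine Subtype.ext ?_
    show z * (x : Ω) * z⁻¹ = x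
    rw [← Subgroup.mem_centralizer_iff.1 hz.2 x x.2, mul_inv_cancel_right]
  have hnorm : ∀ γ : MulAut U, γ ∈ setStab U R → ∀ n ∈ N, γ * n * γ⁻¹ ∈ N := by
    intro γ hγ n hn
    obtain ⟨z, hzN, hz, rfl⟩ := exists_eq_conjAut hn
    rw [conj_conjAut_self γ ⟨z, hZU hz⟩ hzN (Subgroup.le_normalizer (γ _).2)]
    refine conjAut_mem_autInducedBy (K := Z) ⟨(hγ ⟨z, hZU hz⟩).2 hz.1, Subgroup.mem_centralizer_iff.2 ?_⟩ _
    intro y hy
    obtain ⟨v, hv⟩ := γ.surjective ⟨y, hRU hy⟩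
    have hvR : (v : Ω) ∈ R := (hγ v).1 (by rw [hv]; exact hy)
    have h1 : v * ⟨z, hZU hz⟩ = ⟨z, hZU hz⟩ * v :=
      Subtype.ext (Subgroup.mem_centralizer_iff.1 hz.2 v hvR)
    have h2 := congrArg γ h1
    rw [map_mul, map_mul, hv] at h2
    exact congrArg Subtype.val h2
  set B := Subgroup.zpowers κ with hB
  have hBN : B ≤ Subgroup.normalizer (N : Set (MulAut U)) := by
    rw [hB, Subgroup.zpowers_le]
    refine Subgroup.mem_normalizer_iff.2 fun n => ⟨hnorm κ (setStab_of_agree hRU ha) n, fun hn => ?_⟩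
    have h1 := hnorm κ⁻¹ ((setStab U R).inv_mem (setStab_of_agree hRU ha)) _ hn
    simpa [mul_assoc] using h1
  obtain ⟨w, hwR, hwC, hw⟩ := eq_comp_conj_of_eq_on_centric hS hF hR hRU
    ((mem_autGroup_iff_hom hUS).1 hκ) ((mem_autGroup_iff_hom hUS).1 hκ') fun x hx =>
      congrArg Subtype.val ((ha ⟨x, hx⟩).trans (ha' ⟨x, hx⟩).symm)
  have hκ'eq : κ' = κ * conjAut U w (Subgroup.le_normalizer w.2) :=
    MulEquiv.ext fun y => Subtype.ext (hw y)
  have hB' : Subgroup.zpowers κ' ≤ N ⊔ B := by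
    rw [Subgroup.zpowers_le, hκ'eq]
    exact mul_mem (Subgroup.mem_sup_right (Subgroup.mem_zpowers κ))
      (Subgroup.mem_sup_left (conjAut_mem_autInducedBy (K := Z) ⟨hwR, hwC⟩ _))
  have hord : ∀ γ : MulAut U, γ ∈ F.autGroup U → (orderOf γ).Coprime p → Agree hRU γ a →
      orderOf γ = orderOf a := by
    intro γ hγ hγco hγa
    refine Nat.dvd_antisymm (orderOf_dvd_of_pow_eq_one (eq_one_of_fix_centric hS hF hR hRU hUS
      (pow_mem hγ _) (Nat.Coprime.coprime_dvd_left (orderOf_pow_dvd _) hγco) fun x hx => ?_))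
      (orderOf_dvd_of_pow_eq_one (Agree.unique (Agree.pow hγa _) ?_))
    · have h1 := Agree.pow hγa (orderOf a) ⟨x, hx⟩
      rw [pow_orderOf_eq_one] at h1
      exact h1
    · rw [pow_orderOf_eq_one]
      exact fun _ => rfl
  have hcard : Nat.card (Subgroup.zpowers κ') = Nat.card B := by
    rw [Nat.card_zpowers, hB, Nat.card_zpowers, hord κ hκ hco ha, hord κ' hκ' hco' ha']
  obtain ⟨j, hj⟩ := IsPGroup.iff_card.1 hNp
  have hcop : (Nat.card N).Coprime (Nat.card B) := by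
    rw [hj, hB, Nat.card_zpowers]
    exact hco.symm.pow_left j
  have := hNp.isNilpotent
  obtain ⟨n, hn, hnB⟩ := CfsgLib.Solvable.exists_conj_eq_of_coprime hBN hB' hcard hcop
    (Or.inl inferInstance)
  have hκ'm : κ' ∈ MulAut.conj n • B := hnB.symm ▸ Subgroup.mem_zpowers κ'
  obtain ⟨b, hb, hbe⟩ := Subgroup.mem_smul_pointwise_iff_exists _ _ _ |>.1 hκ'm
  obtain ⟨i, rfl⟩ := (mem_powers_iff_mem_zpowers.2 hb : b ∈ Submonoid.powers κ)
  change n * κ ^ i * n⁻¹ = κ' at hbe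
  have hi : a ^ i = a := by
    refine Agree.unique (β := κ') ?_ ha'
    rw [← hbe]
    intro x
    rw [MulAut.mul_apply, MulAut.mul_apply]
    have hninv : n⁻¹ (Subgroup.inclusion hRU x) = Subgroup.inclusion hRU x :=
      hNfix _ (inv_mem hn) x
    rw [hninv, Agree.pow ha i x, hNfix n hn]
  have hκi : κ ^ i = κ := by
    have h1 : i ≡ 1 [MOD orderOf a] := pow_eq_pow_iff_modEq.1 (hi.trans (pow_one a).symm)
    rw [← hord κ hκ hco ha] at h1
    exact (pow_eq_pow_iff_modEq.2 h1).trans (pow_one κ)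
  obtain ⟨z, hzN, hz, rfl⟩ := exists_eq_conjAut hn
  exact ⟨z, hZU hz, hz.1, hz.2, by rw [← hbe, hκi]⟩

/-- A conjugate with both it and its intersection with a strongly closed subgroup fully normalized. -/
theorem exists_fullyNormalized_pair (hS : IsPGroup p S) (hF : F.IsSaturated p)
    (hW : F.StronglyClosed W) (hR : R ≤ S) :
    ∃ (R₀ : Subgroup Ω) (e : R ≃* R₀), IsFIso F e ∧ F.IsFullyNormalized R₀ ∧
      F.IsFullyNormalized (R₀ ⊓ W) ∧ ∃ ψ ∈ F.Hom (normalizerIn S R),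
        (∀ x, ψ x ∈ normalizerIn S R₀) ∧
        ∀ x : R, ψ (Subgroup.inclusion (le_normalizerIn hR) x) = e x := by
  obtain ⟨R₁, hc₁, hR₁⟩ := exists_isFullyNormalized F hR
  obtain ⟨e₁, he₁, ψ₁, hψ₁, hψ₁N, hag₁⟩ := exists_normalizer_map hS hF hR₁ hc₁
  obtain ⟨V₀, hc₀, hV₀⟩ := exists_isFullyNormalized F (inf_le_left.trans hR₁.1 : R₁ ⊓ W ≤ S)
  obtain ⟨e₂, he₂, ψ₂, hψ₂, hψ₂N, hag₂⟩ := exists_normalizer_map hS hF hV₀ hc₀
  have hNle : normalizerIn S R₁ ≤ normalizerIn S (R₁ ⊓ W) := fun g hg => ⟨hg.1,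
    Subgroup.mem_normalizer_iff.2 fun x => by
      simp only [Subgroup.mem_inf]
      exact and_congr (Subgroup.mem_normalizer_iff.1 hg.2 x)
        (Subgroup.mem_normalizer_iff.1 (stronglyClosed_le_normalizer hW hg.1) x)⟩
  have hR₁N : R₁ ≤ normalizerIn S (R₁ ⊓ W) := (le_normalizerIn hR₁.1).trans hNle
  set R₀ := (ψ₂.comp (Subgroup.inclusion hR₁N)).range with hR₀
  obtain ⟨f, hf, hfx⟩ := exists_iso (Q := R₀) (restrict_mem hψ₂ hR₁N) rfl
  have hfx' : ∀ x : R₁, (f x : Ω) = ψ₂ (Subgroup.inclusion hR₁N x) := hfx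
  have hinf : R₀ ⊓ W = V₀ := by
    apply le_antisymm
    · rintro y ⟨⟨x, rfl⟩, hyW⟩
      have hxW : (x : Ω) ∈ W := by
        have := stronglyClosed_apply_mem hW hf.symm (f x) (by rw [hfx']; exact hyW)
        change ((f.symm (f x) : R₁) : Ω) ∈ W at this
        rwa [MulEquiv.symm_apply_apply] at this
      rw [show (ψ₂.comp (Subgroup.inclusion hR₁N)) x = e₂ ⟨x, x.2, hxW⟩ from hag₂ ⟨x, x.2, hxW⟩]
      exact (e₂ _).2
    · intro y hy
      have h1 := hag₂ (e₂.symm ⟨y, hy⟩)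
      rw [MulEquiv.apply_symm_apply] at h1
      refine ⟨⟨⟨_, (e₂.symm ⟨y, hy⟩).2.1⟩, h1⟩, ?_⟩
      exact (congrArg (· ∈ W) h1).mp (stronglyClosed_apply_mem hW hψ₂ _ (e₂.symm ⟨y, hy⟩).2.2)
  have hconj : F.IsConj R R₀ := isConj_trans he₁.isConj hf.isConj
  have hmapN : ∀ g : normalizerIn S R₁, ψ₂ (Subgroup.inclusion hNle g) ∈ normalizerIn S R₀ := fun g =>
    ⟨map_mem hψ₂ _, map_mem_normalizer_of_extends (e := f) hR₁N (fun x => (hfx' x).symm)
      (hNle g.2) g.2.2⟩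
  have hR₀fn : F.IsFullyNormalized R₀ := by
    refine ⟨isConj_le_right hconj, fun Q hQ => ?_⟩
    refine (hR₁.2 Q (isConj_trans hf.isConj hQ)).trans ?_
    have : Finite (normalizerIn S R₀) := finite_of_le (normalizerIn_le S R₀)
    exact Nat.card_le_card_of_injective (fun g => (⟨_, hmapN g⟩ : normalizerIn S R₀)) fun a b hab =>
      Subgroup.inclusion_injective hNle (hom_inj hψ₂ (Subtype.ext_iff.1 hab :))
  refine ⟨R₀, e₁.trans f, he₁.trans hf, hR₀fn, hinf.symm ▸ hV₀,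
    _, F.comp_mem hψ₁ (restrict_mem hψ₂ hNle) hψ₁N, fun g => hmapN ⟨ψ₁ g, hψ₁N g⟩, fun x => ?_⟩
  show ψ₂ ⟨ψ₁ (Subgroup.inclusion (le_normalizerIn hR) x), _⟩ = _
  rw [MulEquiv.trans_apply, hfx']
  exact congrArg ψ₂ (Subtype.ext (hag₁ x))

end CfsgLib.Fusion.Balance
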