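import Cfsg.Agent.Lib.Fusion.Inter.System

/-!
# Saturated subsystems from a compatible family of automizers

A `Family` over a strongly closed `T` gives automizers `gam Q`, carried along isomorphisms, with
`Aut_T` as Sylow subgroups and moving up and down between centric subgroups.  The system generated by
them is saturated and weakly normal (`Family.system_isWeaklyNormalIn`).  The development follows the
one for intersections of subsystems.
-/

set_option autoImplicit false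
set_option linter.unusedSectionVars false
set_option linter.unusedVariables false

namespace CfsgLib.Fusion.Balance

open Cfsg Cfsg.FusionSystem CfsgLib.Fusion CfsgLib.Fusion.SatCriterion
open CfsgLib.Fusion.Inter hiding Setup

variable {Ω : Type*} [Group Ω] {S T : Subgroup Ω} {F : Cfsg.FusionSystem S} {p : ℕ}
variable {P Q R U V W X Y Z : Subgroup Ω}

/-- A compatible family of automizers over a strongly closed subgroup. -/
structure Family (F : Cfsg.FusionSystem S) (T : Subgroup Ω) (p : ℕ) where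
  grp : IsPGroup p S
  sat : F.IsSaturated p
  sc : F.StronglyClosed T
  gam : ∀ Q : Subgroup Ω, Subgroup (MulAut Q)
  gam_congr : ∀ {Q R : Subgroup Ω} {g : Q ≃* R}, IsFIso F g → ∀ {a : MulAut Q}, a ∈ gam Q →
    MulAut.congr g a ∈ gam R
  gam_le_autGroup : ∀ {Q : Subgroup Ω}, gam Q ≤ F.autGroup Q
  autInducedBy_le_gam : ∀ {Q : Subgroup Ω}, Q ≤ S → autInducedBy T Q ≤ gam Q
  gam_sylow : ∀ {P : Subgroup Ω}, F.IsFullyNormalized P → P ≤ T →
    IsSylowIn p (autInducedBy T P) (gam P)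
  down_fc : ∀ {P X : Subgroup Ω}, F.IsFullyCentralized P → IsTC F T P → ∀ (hPX : P ≤ X),
    X ≤ normalizerIn T P → IsSylowIn p (pairAut T X P) (gam X ⊓ setStab X P) →
      ∀ {b : MulAut X} (hb : b ∈ gam X ⊓ setStab X P), resHom hPX ⟨b, hb.2⟩ ∈ gam P
  up_coprime : ∀ {P X : Subgroup Ω}, F.IsFullyCentralized P → IsTC F T P → ∀ (hPX : P ≤ X)
    (hX : X ≤ normalizerIn T P) {a : MulAut P}, a ∈ gam P → (orderOf a).Coprime p →
      (∀ x (hx : x ∈ X), a * conjAut P x (hX hx).2 * a⁻¹ ∈ autInducedBy X P) →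
        ∃ b ∈ gam X, Agree hPX b a

namespace Family

variable (h : Family F T p)
include h

theorem le : T ≤ S := h.sc.1

theorem gam_conj {b a : MulAut Q} (hQS : Q ≤ S) (hb : b ∈ F.autGroup Q) (ha : a ∈ h.gam Q) :
    b * a * b⁻¹ ∈ h.gam Q := by
  rw [← congr_eq_conj]
  exact h.gam_congr ((mem_autGroup_iff hQS).1 hb) ha


/-- `E` contains the automizers above `n`. -/
def IsGen (n : ℕ) (E : Cfsg.FusionSystem T) : Prop :=
  ∀ Y : Subgroup Ω, IsTC F T Y → n < Nat.card Y → h.gam Y ≤ E.autGroup Y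

/-- The system generated by the automizers above `n`. -/
def genSys (n : ℕ) : Cfsg.FusionSystem T where
  Hom P := {φ | φ ∈ F.Hom P ∧ P ≤ T ∧ (∀ x, φ x ∈ T) ∧
    ∀ E : Cfsg.FusionSystem T, h.IsGen n E → φ ∈ E.Hom P}
  le_of_mem hφ := ⟨hφ.2.1, hφ.2.2.1⟩
  injective_of_mem hφ := F.injective_of_mem hφ.1
  conj_mem hP hg := ⟨F.conj_mem (hP.trans h.le) (h.le hg), hP,
    fun x => T.mul_mem (T.mul_mem hg (hP x.2)) (T.inv_mem hg),
    fun E _ => E.conj_mem hP hg⟩
  comp_mem hφ hψ hQ := ⟨F.comp_mem hφ.1 hψ.1 hQ, hφ.2.1, fun _ => hψ.2.2.1 _,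
    fun E hE => E.comp_mem (hφ.2.2.2 E hE) (hψ.2.2.2 E hE) hQ⟩
  inv_mem := by
    intro P φ hφ
    obtain ⟨ψ, hψ, hx⟩ := F.inv_mem hφ.1
    refine ⟨ψ, ⟨hψ, ?_, ?_, fun E hE => ?_⟩, hx⟩
    · rintro _ ⟨x, rfl⟩
      exact hφ.2.2.1 x
    · rintro ⟨_, x, rfl⟩
      rw [hx]
      exact hφ.2.1 x.2
    · obtain ⟨ψ', hψ', hx'⟩ := E.inv_mem (hφ.2.2.2 E hE)
      have : ψ = ψ' := MonoidHom.ext fun ⟨_, x, rfl⟩ => (hx x).trans (hx' x).symm
      exact this ▸ hψ'

theorem genSys_sub (n : ℕ) : (h.genSys n).IsSubsystemOf F := fun _ _ hφ => hφ.1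

theorem genSys_le {n : ℕ} {E : Cfsg.FusionSystem T} (hE : h.IsGen n E) (P : Subgroup Ω) :
    (h.genSys n).Hom P ⊆ E.Hom P := fun _ hφ => hφ.2.2.2 E hE

theorem isGen_genSys (n : ℕ) : h.IsGen n (h.genSys n) := fun _ hY hn _ ha =>
  (mem_autGroup_iff_hom hY.1).2 ⟨(mem_autGroup_iff_hom (hY.1.trans h.le)).1 (h.gam_le_autGroup ha),
    hY.1, fun x => hY.1 ((_ : MulAut _) x).2,
    fun E hE => (mem_autGroup_iff_hom hY.1).1 (hE _ hY hn ha)⟩

theorem isGen_mono {n m : ℕ} (hnm : n ≤ m) {E : Cfsg.FusionSystem T} (hE : h.IsGen n E) :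
    h.IsGen m E := fun Y hY hm => hE Y hY (hnm.trans_lt hm)

/-- The intersection system. -/
def inter : Cfsg.FusionSystem T := h.genSys 0

theorem genSys_le_inter (n : ℕ) (P : Subgroup Ω) : (h.genSys n).Hom P ⊆ h.inter.Hom P :=
  h.genSys_le (h.isGen_mono (Nat.zero_le n) (h.isGen_genSys 0)) P

variable [Finite S] [Fact p.Prime]

/-- `Aut_T(P)` is a Sylow subgroup of `gam P` for good `P`. -/
theorem gam_sylow_good (hP : Good F T P) :
    IsSylowIn p (autInducedBy T P) (h.gam P) := by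
  obtain ⟨P₀, e, hPS, hP₀, he, ψ, hψ, hag, hsur⟩ := exists_good_map h.grp h.sat h.sc hP
  have : Finite P := finite_of_le hPS
  have : Finite (MulAut P) := finite_mulAut
  have : Finite P₀ := finite_of_le hP₀.1
  have : Finite (MulAut P₀) := finite_mulAut
  have hP₀T : P₀ ≤ T := conj_le h.sc hP.1 he.isConj
  refine isSylowIn_of_card_le ((isPGroup_autInducedBy h.grp P).to_le (autInducedBy_mono h.le P))
    (h.autInducedBy_le_gam hPS) fun V hV hVg => ?_
  have h1 : Nat.card V ≤ Nat.card (autInducedBy T P₀) := by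
    rw [← Subgroup.card_map_of_injective (f := (MulAut.congr e).toMonoidHom)
      (MulAut.congr e).injective]
    exact (h.gam_sylow hP₀ hP₀T).card_le (h.autInducedBy_le_gam hP₀.1) (hV.map _) (by
      rintro _ ⟨v, hv, rfl⟩
      exact h.gam_congr he (hVg hv))
  refine h1.trans ?_
  rw [← Subgroup.card_map_of_injective (f := (MulAut.congr e).toMonoidHom)
    (MulAut.congr e).injective (K := autInducedBy T P)]
  refine Subgroup.card_le_of_le fun α hα => ?_
  obtain ⟨y, hyN, hyT, rfl⟩ := exists_eq_conjAut hα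
  obtain ⟨x, hxT, rfl⟩ := hsur y ⟨hyT, hyN⟩
  exact ⟨conjAut P x x.2.2, conjAut_mem_autInducedBy hxT _,
    congr_conjAut_eq_of_extends (le_normalizerIn hPS) hag x.2 x.2.2⟩

/-- Restriction from `gam X` to `gam P` when the pair has a Sylow subgroup in `T`. -/
theorem down (hTC : IsTC F T P) (hPX : P ≤ X)
    (hX : X ≤ normalizerIn T P)
    (hsyl : IsSylowIn p (pairAut T X P) (h.gam X ⊓ setStab X P))
    {b : MulAut X} (hb : b ∈ h.gam X ⊓ setStab X P) : resHom hPX ⟨b, hb.2⟩ ∈ h.gam P := by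
  have hPS : P ≤ S := hTC.1.trans h.le
  obtain ⟨P₀, hc, hP₀⟩ := exists_isFullyNormalized F hPS
  obtain ⟨e, he, ψ, hψ, hψN, hag⟩ := exists_normalizer_map h.grp h.sat hP₀ hc
  have hXN : X ≤ normalizerIn S P := hX.trans (inf_le_inf_right _ h.le)
  set X₀ := (ψ.comp (Subgroup.inclusion hXN)).range
  obtain ⟨eX, l, heX⟩ := exists_linked_of_map (restrict_mem hψ hXN) e hPX
    (hX.trans inf_le_right) fun x => hag x
  have hX₀ : X₀ ≤ normalizerIn T P₀ := by
    rintro _ ⟨x, rfl⟩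
    exact ⟨stronglyClosed_apply_mem h.sc hψ (Subgroup.inclusion hXN x) (hX x.2).1, (hψN _).2⟩
  have : Finite X := finite_of_le (hXN.trans (normalizerIn_le S P))
  have : Finite (MulAut X) := finite_mulAut
  have hX₀S : X₀ ≤ S := (hX₀.trans (normalizerIn_le _ _)).trans h.le
  have : Finite X₀ := finite_of_le hX₀S
  have : Finite (MulAut X₀) := finite_mulAut
  have hpair : ∀ σ ∈ pairAut T X P, MulAut.congr eX σ ∈ pairAut T X₀ P₀ := by
    intro σ hσ
    obtain ⟨t, htX, htT, rfl⟩ := exists_eq_conjAut hσ.1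
    have htP := mem_normalizer_of_conjAut_mem_setStab hPX htX hσ.2
    refine ⟨?_, l.congr_mem_setStab hσ.2⟩
    have htm : t ∈ normalizerIn S P := ⟨h.le htT, htP⟩
    rw [congr_conjAut_eq_of_extends hXN (ψ := ψ) (fun x => (heX x).symm) htm htX]
    exact conjAut_mem_autInducedBy (stronglyClosed_apply_mem h.sc hψ ⟨t, htm⟩ htT) _
  have hsyl₀ : IsSylowIn p (pairAut T X₀ P₀) (h.gam X₀ ⊓ setStab X₀ P₀) := by
    refine isSylowIn_of_card_le ((isPGroup_autInducedBy (h.grp.to_le h.le) X₀).to_le inf_le_left)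
      (fun σ hσ => ⟨h.autInducedBy_le_gam hX₀S hσ.1, hσ.2⟩) fun V hV hVg => ?_
    calc Nat.card V = Nat.card (V.map (MulAut.congr eX.symm).toMonoidHom) :=
          (Subgroup.card_map_of_injective (MulAut.congr eX.symm).injective).symm
      _ ≤ Nat.card (pairAut T X P) := hsyl.card_le
          (fun σ hσ => ⟨h.autInducedBy_le_gam (hXN.trans (normalizerIn_le S P)) hσ.1, hσ.2⟩)
          (hV.map _) (by
            rintro _ ⟨v, hv, rfl⟩
            exact ⟨h.gam_congr l.iso.symm (hVg hv).1, l.symm.congr_mem_setStab (hVg hv).2⟩)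
      _ ≤ Nat.card (pairAut T X₀ P₀) :=
          Nat.card_le_card_of_injective (fun σ => ⟨_, hpair σ σ.2⟩) fun σ τ h' =>
            Subtype.ext ((MulAut.congr eX).injective (Subtype.ext_iff.1 h'))
  have h1 := h.down_fc (isFullyCentralized_of_isFullyNormalized h.grp h.sat hP₀)
    (hTC.conj h.sc he.isConj) l.le' hX₀ hsyl₀
    (b := MulAut.congr eX b) ⟨h.gam_congr l.iso hb.1, l.congr_mem_setStab hb.2⟩
  have h2 := h.gam_congr he.symm h1
  convert h2 using 1
  have hex : ∀ y : P, (eX ⟨y, hPX y.2⟩ : Ω) = e y := fun y => (heX _).trans (hag y)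
  refine MulEquiv.ext fun x => e.injective ?_
  rw [congr_apply, MulEquiv.symm_symm, MulEquiv.apply_symm_apply]
  refine Subtype.ext ((hex _).symm.trans ?_)
  show ((eX (b ⟨x, hPX x.2⟩) : X₀) : Ω) = ((eX (b (eX.symm ⟨(e x : Ω), l.le' (e x).2⟩)) : X₀) : Ω)
  rw [show eX.symm ⟨(e x : Ω), l.le' (e x).2⟩ = ⟨x, hPX x.2⟩ from by
    rw [MulEquiv.symm_apply_eq]
    exact Subtype.ext (hex x).symm]

/-- Extension along a chain: the elements of `gam P` carrying `Aut_X(P)` into `Aut_T(P)`. -/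
theorem exists_map_of_gam (hP : F.IsFullyNormalized P) (hTC : IsTC F T P)
    (E : Cfsg.FusionSystem T)
    (hgen : ∀ Y, IsTC F T Y → h.gam Y ≤ E.autGroup Y)
    {c : MulAut P} (hc : c ∈ h.gam P) (hPX : P ≤ X) (hX : X ≤ normalizerIn T P)
    (hact : ∀ x (hx : x ∈ X), c * conjAut P x (hX hx).2 * c⁻¹ ∈ autInducedBy T P) :
    ∃ ψ ∈ E.Hom X, ∀ y : P, ψ (Subgroup.inclusion hPX y) = (c y : Ω) := by
  have hfc := isFullyCentralized_of_isFullyNormalized h.grp h.sat hP
  have hPT := hTC.1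
  have hPS : P ≤ S := hP.1
  have : Finite ↥T := finite_of_le h.le
  have : Finite P := finite_of_le hPS
  have : Finite (MulAut P) := finite_mulAut
  obtain ⟨Pg, hPg⟩ := h.gam_sylow hP hPT
  set NT := normalizerIn T P with hNT
  suffices key : ∀ (A : Set (h.gam P)) (g : h.gam P), AlperinGroup.Chain Pg A g →
      ∀ (X : Subgroup Ω) (hPX : P ≤ X) (hX : X ≤ NT),
        (∀ x (hx : x ∈ X), ∃ z ∈ A, (z : MulAut P) = conjAut P x (hX hx).2) →
        ∃ ψ ∈ E.Hom X, ∀ y : P, ψ (Subgroup.inclusion hPX y) = ((g⁻¹ : h.gam P) : MulAut P) y by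
    set A : Set (h.gam P) := {z | ∃ x, ∃ hx : x ∈ X, (z : MulAut P) = conjAut P x (hX hx).2}
    have hA : A ⊆ (Pg : Set (h.gam P)) := by
      rintro z ⟨x, hx, hz⟩
      rw [SetLike.mem_coe]
      show z ∈ (Pg : Subgroup (h.gam P))
      rw [hPg, Subgroup.mem_subgroupOf, hz]
      exact conjAut_mem_autInducedBy (hX hx).1 _
    have hAg : (fun a => ((⟨c, hc⟩ : h.gam P)⁻¹)⁻¹ * a * (⟨c, hc⟩ : h.gam P)⁻¹) '' A ⊆
        (Pg : Set (h.gam P)) := by
      rintro _ ⟨z, ⟨x, hx, hz⟩, rfl⟩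
      rw [SetLike.mem_coe]
      show _ ∈ (Pg : Subgroup (h.gam P))
      rw [hPg, Subgroup.mem_subgroupOf, inv_inv]
      show c * (z : MulAut P) * c⁻¹ ∈ _
      rw [hz]
      exact hact x hx
    obtain ⟨ψ, hψ, hψx⟩ := key A _ (AlperinGroup.alperin Pg A _ hA hAg) X hPX hX fun x hx =>
      ⟨⟨_, h.autInducedBy_le_gam hPS (conjAut_mem_autInducedBy (hX hx).1 _)⟩, ⟨x, hx, rfl⟩, rfl⟩
    refine ⟨ψ, hψ, fun y => ?_⟩
    rw [hψx, inv_inv]
  intro A g hchain
  induction hchain with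
  | one A =>
    intro X hPX hX _
    exact ⟨X.subtype, subtype_mem E (hX.trans (normalizerIn_le _ _)), fun y => by simp⟩
  | cons A x g Q hA ht hx _ ih =>
    intro X hPX hX hXA
    set V : Subgroup (h.gam P) := (Pg : Subgroup (h.gam P)) ⊓ (Q : Subgroup (h.gam P)) with hV
    set Y := ((V.map (h.gam P).subtype).comap (P.normalizerMonoidHom.comp
      (Subgroup.inclusion (inf_le_right : NT ≤ Subgroup.normalizer (P : Set Ω))))).map NT.subtype
      with hYdef
    have hYN : Y ≤ NT := Subgroup.map_subtype_le _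
    have hYmem : ∀ y (hy : y ∈ NT), y ∈ Y ↔ ∃ v ∈ V, (v : MulAut P) = conjAut P y hy.2 := by
      intro y hy
      constructor
      · rintro ⟨⟨_, hy'⟩, ⟨v, hv, hve⟩, rfl⟩
        exact ⟨v, hv, hve⟩
      · rintro ⟨v, hv, hve⟩
        exact ⟨⟨y, hy⟩, ⟨v, hv, hve⟩, rfl⟩
    have hXY : X ≤ Y := fun y hy => by
      obtain ⟨z, hz, hze⟩ := hXA y hy
      exact (hYmem y (hX hy)).2 ⟨z, hA hz, hze⟩
    have hPY : P ≤ Y := hPX.trans hXY
    have hYT : Y ≤ T := hYN.trans (normalizerIn_le _ _)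
    have hVY : ∀ v ∈ V, ∃ y ∈ Y, ∃ hy : y ∈ NT, (v : MulAut P) = conjAut P y hy.2 := by
      intro v hv
      have h1 : v ∈ (Pg : Subgroup (h.gam P)) := hv.1
      rw [hPg, Subgroup.mem_subgroupOf] at h1
      obtain ⟨y, hyN, hyT, hye⟩ := exists_eq_conjAut h1
      exact ⟨y, (hYmem y ⟨hyT, hyN⟩).2 ⟨v, hv, hye⟩, ⟨hyT, hyN⟩, hye⟩
    set NV := Subgroup.normalizer ((V : Subgroup (h.gam P)) : Set (h.gam P))
    set M : Subgroup NV := ((((E.autGroup Y).comap (setStab Y P).subtype).map (resHom hPY))).comap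
      ((h.gam P).subtype.comp NV.subtype) with hM
    have hMt : M = ⊤ := by
      have hp : IsPGroup p ((Pg : Subgroup (h.gam P)).subgroupOf NV) :=
        IsPGroup.comap_subtype Pg.2
      have hidx : ¬ p ∣ ((Pg : Subgroup (h.gam P)).subgroupOf NV).index := by
        have h1 := ht.1
        rw [Subgroup.inf_relIndex_right] at h1
        exact h1
      refine LayerCore.eq_top_of_sylow_of_coprime M (hp.toSylow hidx) (fun n hn => ?_) fun n hn => ?_
      · have h1 : (n : h.gam P) ∈ (Pg : Subgroup (h.gam P)) := hn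
        rw [hPg, Subgroup.mem_subgroupOf] at h1
        obtain ⟨t, htN, htT, hte⟩ := exists_eq_conjAut h1
        have key : ∀ k : NV, ∀ s, ∀ hs : s ∈ NT, ((k : h.gam P) : MulAut P) = conjAut P s hs.2 →
            ∀ y ∈ Y, s * y * s⁻¹ ∈ Y := by
          intro k s hs hk y hy
          obtain ⟨v, hv, hve⟩ := (hYmem y (hYN hy)).1 hy
          refine (hYmem _ (mul_mem (mul_mem hs (hYN hy)) (NT.inv_mem hs))).2
            ⟨(k : h.gam P) * v * (k : h.gam P)⁻¹, conj_mem_of_mem_normalizer k.2 hv, ?_⟩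
          rw [Subgroup.coe_mul, Subgroup.coe_mul, Subgroup.coe_inv, hk, hve, conjAut_inv hs.2,
            conjAut_mul, conjAut_mul]
        have htY : t ∈ Subgroup.normalizer (Y : Set Ω) := by
          refine Subgroup.mem_normalizer_iff.2 fun y => ⟨key n t ⟨htT, htN⟩ hte y, fun hy => ?_⟩
          have h2 := key n⁻¹ t⁻¹ (NT.inv_mem ⟨htT, htN⟩)
            (by rw [Subgroup.coe_inv, Subgroup.coe_inv, hte, conjAut_inv]) _ hy
          simpa [mul_assoc] using h2
        exact ⟨⟨_, conjAut_mem_setStab htY htN⟩,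
          autInducedBy_le_autGroup E hYT (conjAut_mem_autInducedBy htT htY),
          (MulEquiv.ext fun y => Subtype.ext rfl).trans hte.symm⟩
      · set a : MulAut P := ((n : h.gam P) : MulAut P)
        have hao : (orderOf a).Coprime p := by
          rwa [show orderOf a = orderOf n by rw [Subgroup.orderOf_coe, Subgroup.orderOf_coe]]
        obtain ⟨b, hb, hba⟩ := h.up_coprime hfc hTC hPY hYN (n : h.gam P).2 hao fun y hy => by
          obtain ⟨v, hv, hve⟩ := (hYmem y (hYN hy)).1 hy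
          obtain ⟨y', hy', hy'N, hv'⟩ := hVY _ (conj_mem_of_mem_normalizer n.2 hv)
          rw [← hve]
          have h5 := conjAut_mem_autInducedBy (P := P) hy' hy'N.2
          rw [← hv'] at h5
          exact h5
        have hbst : b ∈ setStab Y P := by
          intro y
          constructor
          · intro hy
            have h1 := hba (a⁻¹ ⟨_, hy⟩)
            rw [MulAut.apply_inv_self] at h1
            rw [← b.injective (h1.trans (Subtype.ext rfl) : b _ = b y)]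
            exact (a⁻¹ ⟨_, hy⟩).2
          · intro hy
            rw [show y = Subgroup.inclusion hPY (⟨(y : Ω), hy⟩ : P) from rfl, hba]
            exact (a _).2
        exact ⟨⟨b, hbst⟩, hgen Y (hTC.mono hPY hYT) hb,
          MulEquiv.ext fun y => Subtype.ext (congrArg Subtype.val (hba y) :)⟩
    have hxinv : (⟨x, hx⟩ : NV)⁻¹ ∈ M := hMt ▸ Subgroup.mem_top _
    obtain ⟨β, hβ, hβe⟩ := hxinv
    have hβh := (mem_autGroup_iff_hom hYT).1 (show (β : MulAut Y) ∈ E.autGroup Y from hβ)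
    set ψ₁ := (Y.subtype.comp (β : MulAut Y).toMonoidHom).comp (Subgroup.inclusion hXY) with hψ₁
    have hψ₁E : ψ₁ ∈ E.Hom X := restrict_mem hβh hXY
    set a : MulAut P := ((x⁻¹ : h.gam P) : MulAut P)
    have hagP : ∀ y : P, ψ₁ ⟨y, hPX y.2⟩ = ((a y : P) : Ω) := fun y =>
      (congrArg Subtype.val (DFunLike.congr_fun hβe y) :)
    have hψN : ∀ z : X, ψ₁ z ∈ NT := fun z => ⟨map_mem hψ₁E z,
      map_mem_normalizer_of_extends (e := (a : P ≃* P)) hPX hagP z.2 (hX z.2).2⟩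
    have hX₁ : ψ₁.range ≤ NT := by
      rintro _ ⟨z, rfl⟩
      exact hψN z
    have hPX₁ : P ≤ ψ₁.range := fun y hy =>
      ⟨⟨(a⁻¹ ⟨y, hy⟩ : P), hPX (a⁻¹ ⟨y, hy⟩).2⟩, by rw [hagP, MulAut.apply_inv_self]⟩
    obtain ⟨ψ₂, hψ₂, hψ₂x⟩ := ih ψ₁.range hPX₁ hX₁ (by
      rintro _ ⟨z, rfl⟩
      obtain ⟨w, hw, hwe⟩ := hXA z z.2
      refine ⟨x⁻¹ * w * x, ⟨w, hw, rfl⟩, ?_⟩
      rw [← congr_conjAut_eq_of_extends (e := (a : P ≃* P)) hPX hagP z.2 (hX z.2).2, congr_eq_conj,
        ← hwe]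
      show _ = a * (w : MulAut P) * a⁻¹
      simp only [a, Subgroup.coe_mul, Subgroup.coe_inv, inv_inv])
    refine ⟨ψ₂.comp (ψ₁.codRestrict ψ₁.range fun z => ⟨z, rfl⟩),
      E.comp_mem hψ₁E hψ₂ (fun z => ⟨z, rfl⟩), fun y => ?_⟩
    show ψ₂ ⟨ψ₁ ⟨y, hPX y.2⟩, _⟩ = _
    refine (congrArg ψ₂ (Subtype.ext (hagP y) : _ = Subgroup.inclusion hPX₁ (a y))).trans
      ((hψ₂x (a y)).trans ?_)
    simp only [a, mul_inv_rev, Subgroup.coe_mul, MulAut.mul_apply]



theorem gam_le_inter (hY : IsTC F T Y) : h.gam Y ≤ h.inter.autGroup Y := by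
  have : Finite Y := finite_of_le (hY.1.trans h.le)
  exact h.isGen_genSys 0 Y hY Nat.card_pos

theorem isGen_twist {n : ℕ} {E : Cfsg.FusionSystem T} (hE : h.IsGen n E)
    {a : MulAut ↥T} (ha : a ∈ F.autGroup T) : h.IsGen n (twistSystem E a) := by
  intro Y hY hn α hα
  obtain ⟨e, he, hex⟩ := exists_autImg_iso h.le ha hY.1
  have h1 := hE _ (hY.conj h.sc he.isConj) (by rwa [← isConj_card_eq he.isConj]) (h.gam_congr he hα)
  refine (mem_autGroup_iff_hom hY.1).2
    ⟨hY.1, Y.subtype_injective.comp α.injective, fun x => hY.1 (α x).2, _,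
      (mem_autGroup_iff_hom (autImg_le a Y)).1 h1, fun x hx hax => ?_⟩
  show ((MulAut.congr e α ⟨_, hax⟩ : autImg a Y) : Ω) = _
  rw [show (⟨_, hax⟩ : autImg a Y) = e x from Subtype.ext (hex x).symm, congr_apply,
    MulEquiv.symm_apply_apply, hex]
  rfl

theorem inter_autInvariant : IsAutInvariant h.inter F := by
  intro P hPT φ hφ a ha
  have haT := (mem_autGroup_iff_hom h.le).1 ha
  obtain ⟨e, he, hex⟩ := exists_autImg_iso (P := P) h.le ha hPT
  have hχ0 : ((T.subtype.comp a.toMonoidHom).comp (φ.codRestrict _ (map_mem hφ))).comp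
      e.symm.toMonoidHom ∈ F.Hom (autImg a P) :=
    mem_of_comp he.symm (mem_of_comp hφ.1 haT (map_mem hφ)
      ((T.subtype.comp a.toMonoidHom).comp (φ.codRestrict _ (map_mem hφ))) fun _ => rfl)
      (fun y => (e.symm y).2) _ fun _ => rfl
  refine ⟨_, ⟨hχ0, autImg_le a P, fun y => (a _).2, fun E hE => ?_⟩, fun x hφx hax => ?_⟩
  · obtain ⟨-, -, hφT, χ, hχ, hχx⟩ := hφ.2.2.2 _ (h.isGen_twist hE ha)
    refine mem_of_restrict hχ le_rfl _ fun y => ?_
    obtain ⟨x, rfl⟩ := e.surjective y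
    have h2 : (⟨((e x : autImg a P) : Ω), (e x).2⟩ : autImg a P) =
        ⟨((a ⟨x, hPT x.2⟩ : ↥T) : Ω), mem_autImg.2 ⟨_, x.2, rfl⟩⟩ := Subtype.ext (hex x)
    rw [h2, hχx x (hPT x.2)]
    show ((a ⟨φ (e.symm (e x)), _⟩ : ↥T) : Ω) = _
    simp
  · show ((a ⟨φ (e.symm ⟨_, hax⟩), _⟩ : ↥T) : Ω) = _
    have : e.symm ⟨_, hax⟩ = x := e.injective (by
      rw [MulEquiv.apply_symm_apply]; exact Subtype.ext (hex x).symm)
    simp [this]

/-- The Frattini condition. -/
theorem inter_factors : ∀ (P : Subgroup Ω), P ≤ T → ∀ φ : P →* Ω, φ ∈ F.Hom P →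
    Factors h.inter F φ := by
  classical
  have hT := h.sc
  have hTS : T ≤ S := h.le
  have hinv := h.inter_autInvariant
  have hS := h.grp
  have hF := h.sat
  have : Finite ↥T := finite_of_le hTS
  have hTp : IsPGroup p ↥T := hS.to_le hTS
  intro P
  induction hn : Nat.card ↥T - Nat.card P using Nat.strong_induction_on generalizing P with
  | _ n ih =>
  intro hPT φ hφ
  obtain ⟨e, he, heφ⟩ := exists_iso hφ rfl
  suffices hh : Factors h.inter F (φ.range.subtype.comp e.toMonoidHom) from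
    factors_restrict le_rfl φ (fun x => (heφ x).symm) hh
  rcases eq_or_lt_of_le hPT with rfl | hlt
  · have hr : φ.range = P :=
      CfsgLib.FusionQuot.eq_of_isConj_of_stronglyClosed hT (isConj_of_mem hφ)
    obtain ⟨α, hα, hαφ⟩ := exists_aut hφ hr
    exact ⟨α, hα, P.subtype, subtype_mem _ le_rfl,
      fun x hx => (heφ x).trans (hαφ _).symm⟩
  have hIH : ∀ (R : Subgroup Ω), R ≤ T → Nat.card P < Nat.card R → ∀ χ : R →* Ω,
      χ ∈ F.Hom R → Factors h.inter F χ := by
    intro R hR hc χ hχ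
    have : Nat.card R ≤ Nat.card ↥T := Subgroup.card_le_of_le hR
    exact ih _ (by omega) R rfl hR χ hχ
  obtain ⟨Q, hPQ, hQ⟩ := exists_isFullyNormalized F (hPT.trans hTS)
  have hQT : Q ≤ T := conj_le hT hPT hPQ
  have hQlt : Q < T := lt_of_le_of_ne hQT fun h' => by
    have h1 := card_lt_card' hTS hlt
    have h2 := isConj_card_eq hPQ
    rw [h'] at h2
    omega
  have hRlt : φ.range < T := lt_of_le_of_ne (conj_le hT hPT (isConj_of_mem hφ)) fun h' => by
    have h1 := card_lt_card' hTS hlt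
    have h2 := isConj_card_eq (isConj_of_mem hφ)
    rw [h'] at h2
    omega
  have hlift : ∀ {R : Subgroup Ω}, F.IsConj R Q → R < T → Nat.card R = Nat.card P →
      ∃ f : R ≃* Q, IsFIso F f ∧ Factors h.inter F (Q.subtype.comp f.toMonoidHom) := by
    intro R hRQ hR hc
    obtain ⟨f, hf, ψ, hψ, -, hag⟩ := exists_normalizer_map hS hF hQ hRQ
    refine ⟨f, hf, ?_⟩
    have hle : normalizerIn T R ≤ normalizerIn S R := inf_le_inf_right _ hTS
    exact factors_restrict (φ := ψ.comp (Subgroup.inclusion hle)) (le_normalizerIn hR.le) _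
      (fun x => (hag x).symm)
      (hIH _ (normalizerIn_le _ R) (hc ▸ card_lt_card' ((normalizerIn_le _ R).trans hTS)
        (lt_normalizerIn hTp hR)) _ (restrict_mem hψ hle))
  obtain ⟨f₁, hf₁, hf₁C⟩ := hlift hPQ hlt rfl
  obtain ⟨f₂, hf₂, hf₂C⟩ := hlift (isConj_trans (isConj_symm (isConj_of_mem hφ)) hPQ) hRlt
    (isConj_card_eq (isConj_of_mem hφ)).symm
  have hQS : Q ≤ S := hQ.1
  have : Finite Q := finite_of_le hQS
  have : Finite (MulAut Q) := finite_mulAut
  have hfc := isFullyCentralized_of_isFullyNormalized hS hF hQ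
  have hrec := isReceptive_of_isFullyNormalized hS hF hQ
  have hauto : ∀ α ∈ F.autGroup Q, Factors h.inter F (Q.subtype.comp α.toMonoidHom) := by
    intro α hα
    have hαiso : IsFIso F (α : Q ≃* Q) := (mem_autGroup_iff hQS).1 hα
    by_cases hC : centralizerIn T Q ≤ Q
    swap
    · set R := Q ⊔ centralizerIn T Q with hR
      have hRT : R ≤ T := sup_le hQT (centralizerIn_le _ _)
      have hRN : R ≤ normalizerIn S Q := sup_le (le_normalizerIn hQS)
        ((inf_le_inf_right _ hTS).trans (centralizerIn_le_normalizerIn S Q))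
      have hle : R ≤ extender S Q (Q.subtype.comp α.toMonoidHom) :=
        sup_le (le_extender hQS fun x => hQS (α x).2)
          ((inf_le_inf_right _ hTS).trans (centralizerIn_le_extender _))
      obtain ⟨ψ, hψ, -, hag⟩ := hαiso.exists_extension hrec le_sup_left hRN fun g hg =>
        (mem_extender_iff_congr (α : Q ≃* Q) (fun _ => rfl) (hRN hg).1 (hRN hg).2).1 (hle hg)
      exact factors_restrict (φ := ψ) le_sup_left _ (fun x => (hag x).symm)
        (hIH R hRT ((isConj_card_eq hPQ).symm ▸ card_lt_card' (hRT.trans hTS)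
          (lt_of_le_of_ne le_sup_left fun h' => hC (le_sup_right.trans h'.ge))) ψ hψ)
    have hTC := isTC_of_fullyCentralized hS hF hT hfc hQT hC
    set A := (h.gam Q).subgroupOf (F.autGroup Q) with hA
    have hAn : A.Normal := ⟨fun c hc β => h.gam_conj hQS β.2 hc⟩
    obtain ⟨-, TS, hTS'⟩ := isFullyAutomized_of_isFullyNormalized hS hF hQ
    have hsyl : IsSylowIn p ((TS : Subgroup (F.autGroup Q)) ⊓ A) A := by
      refine isSylowIn_of_card_le (TS.2.to_le inf_le_left) inf_le_right fun V hV hVA => ?_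
      obtain ⟨g, hg⟩ := exists_conj_le_sylow TS hV
      exact Nat.card_le_card_of_injective
        (fun u : V => (⟨g * u * g⁻¹, hg u u.2, hAn.conj_mem _ (hVA u.2) g⟩ :
          ((TS : Subgroup (F.autGroup Q)) ⊓ A : Subgroup _)))
        fun a b hab => Subtype.ext (mul_left_cancel (mul_right_cancel (Subtype.ext_iff.1 hab)))
    obtain ⟨V, hV⟩ := hsyl
    have hfr := Sylow.normalizer_sup_eq_top V
    have hVmap : (V : Subgroup A).map A.subtype = (TS : Subgroup (F.autGroup Q)) ⊓ A := by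
      rw [hV, Subgroup.map_subgroupOf_eq_of_le inf_le_right]
    rw [sup_comm, hVmap] at hfr
    have hmem : (⟨α, hα⟩ : F.autGroup Q) ∈ (↑(A ⊔ Subgroup.normalizer
        (((TS : Subgroup (F.autGroup Q)) ⊓ A : Subgroup _) : Set _)) : Set _) := by
      rw [hfr]; trivial
    rw [Subgroup.normal_mul] at hmem
    obtain ⟨κ, hκ, β, hβ, hκβ⟩ := hmem
    have hβiso : IsFIso F ((β : MulAut Q) : Q ≃* Q) := (mem_autGroup_iff hQS).1 β.2
    obtain ⟨ψ, hψ, -, hag⟩ := hβiso.exists_extension (R := normalizerIn T Q)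
      hrec (le_normalizerIn hQT) (inf_le_inf_right _ hTS) fun g hg => by
        have hgS : g ∈ S := hTS hg.1
        have hc : (⟨conjAut Q g hg.2,
            autInducedBy_le_autGroup F hQS (conjAut_mem_autInducedBy hgS hg.2)⟩ : F.autGroup Q) ∈
            (TS : Subgroup (F.autGroup Q)) ⊓ A :=
          ⟨by rw [hTS']; exact conjAut_mem_autInducedBy (P := Q) hgS hg.2,
            h.autInducedBy_le_gam hQS (conjAut_mem_autInducedBy hg.1 hg.2)⟩
        have h2 := (conj_mem_of_mem_normalizer hβ hc).1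
        rw [hTS'] at h2
        exact h2
    have hCβ : Factors h.inter F (Q.subtype.comp (β : MulAut Q).toMonoidHom) :=
      factors_restrict (φ := ψ) (le_normalizerIn hQT) _ (fun x => (hag x).symm)
        (hIH _ (normalizerIn_le _ Q) ((isConj_card_eq hPQ).symm ▸ card_lt_card'
          ((normalizerIn_le _ Q).trans hTS) (lt_normalizerIn hTp hQlt)) _ hψ)
    refine factors_comp hinv hTS (fun x => ((β : MulAut Q) x).2) _ (fun x => ?_) hCβ
      (factors_of_mem hTS ((mem_autGroup_iff_hom hQT).1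
        (h.gam_le_inter hTC (show (κ : MulAut Q) ∈ h.gam Q from hκ))))
    exact (congrArg (fun γ : F.autGroup Q => (((γ : MulAut Q) x : Q) : Ω)) hκβ).symm
  have hγ : (f₁.symm.trans (e.trans f₂) : MulAut Q) ∈ F.autGroup Q :=
    (mem_autGroup_iff hQS).2 (hf₁.symm.trans (he.trans hf₂))
  have h12 : Factors h.inter F (Q.subtype.comp (f₁.trans (f₁.symm.trans (e.trans f₂))).toMonoidHom) :=
    factors_comp hinv hTS (fun x => (f₁ x).2) _ (fun x => rfl) hf₁C (hauto _ hγ)
  refine factors_comp hinv hTS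
    (φ := Q.subtype.comp (f₁.trans (f₁.symm.trans (e.trans f₂))).toMonoidHom)
    (fun x => ((f₁.trans (f₁.symm.trans (e.trans f₂))) x).2) _ (fun x => ?_) h12
    (factors_symm hinv hTS hT hf₂ hRlt.le hf₂C)
  simp

theorem inter_isInvariantIn : h.inter.IsInvariantIn F :=
  ⟨h.genSys_sub 0, h.sc, h.inter_autInvariant, h.inter_factors⟩

theorem inter_stronglyInvariant : IsStronglyInvariant h.inter F :=
  stronglyInvariant_of_isInvariantIn h.inter_isInvariantIn

/-- Every conjugate in `F` is the image of a conjugate in the intersection under `Aut_F(T)`. -/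
theorem exists_inter_conj (hP : P ≤ T) (hR : F.IsConj P R) :
    ∃ R₀, h.inter.IsConj P R₀ ∧ ∃ α ∈ F.autGroup T, autImg α R₀ = R := by
  obtain ⟨φ, hφ, rfl⟩ := hR
  obtain ⟨α, hα, φ₀, hφ₀, hx⟩ := h.inter_factors P hP φ hφ
  refine ⟨φ₀.range, isConj_of_mem hφ₀, α, hα, ?_⟩
  ext y
  rw [mem_autImg]
  constructor
  · rintro ⟨s, ⟨x, hxs⟩, rfl⟩
    refine ⟨x, (hx x (map_mem hφ₀ x)).trans ?_⟩
    exact congrArg (fun t : ↥T => ((α t : ↥T) : Ω)) (Subtype.ext hxs)
  · rintro ⟨x, rfl⟩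
    exact ⟨⟨φ₀ x, map_mem hφ₀ x⟩, ⟨x, rfl⟩, (hx x _).symm⟩

/-- The centric subgroups of the intersection are the `T`-centric ones. -/
theorem isCentric_inter_iff : h.inter.IsCentric P ↔ IsTC F T P := by
  refine ⟨fun hc => ⟨hc.1, fun R hR c hc' => ?_⟩,
    fun hc => ⟨hc.1, fun R hR => hc.2 R (CfsgLib.FusionQuot.isConj_of_subsystem (h.genSys_sub 0) hR)⟩⟩
  obtain ⟨R₀, hR₀, α, hα, rfl⟩ := h.exists_inter_conj hc.1 hR
  set d := α⁻¹ ⟨c, hc'.1⟩ with hd
  have hdR : (d : Ω) ∈ R₀ := by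
    refine hc.2 R₀ hR₀ ⟨d.2, Subgroup.mem_centralizer_iff.2 fun y hy => ?_⟩
    have hyT : y ∈ T := isConj_le_right hR₀ hy
    have h1 := Subgroup.mem_centralizer_iff.1 hc'.2 ((α ⟨y, hyT⟩ : ↥T) : Ω)
      (mem_autImg.2 ⟨⟨y, hyT⟩, hy, rfl⟩)
    have h2 : α ⟨y, hyT⟩ * ⟨c, hc'.1⟩ = ⟨c, hc'.1⟩ * α ⟨y, hyT⟩ := Subtype.ext h1
    have h3 := congrArg (α⁻¹ : MulAut ↥T) h2
    rw [map_mul, map_mul, MulAut.inv_apply_self] at h3
    exact congrArg Subtype.val h3
  exact mem_autImg.2 ⟨d, hdR, by rw [hd, MulAut.apply_inv_self]⟩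

/-- Fully normalized subgroups of the intersection are good. -/
theorem good_of_inter_fullyNormalized (hP : h.inter.IsFullyNormalized P) : Good F T P := by
  refine ⟨hP.1, fun R hR => ?_⟩
  obtain ⟨R₀, hR₀, α, hα, rfl⟩ := h.exists_inter_conj hP.1 hR
  refine le_trans ?_ (hP.2 R₀ hR₀)
  have : Finite ↥T := finite_of_le h.le
  have : Finite (normalizerIn T R₀) := finite_of_le (normalizerIn_le _ _)
  have hR₀T : R₀ ≤ T := isConj_le_right hR₀
  refine Nat.card_le_card_of_injective (fun x : normalizerIn T (autImg α R₀) =>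
    (⟨((α⁻¹ ⟨x, x.2.1⟩ : ↥T) : Ω), (α⁻¹ ⟨x, x.2.1⟩).2, ?_⟩ :
      normalizerIn T R₀)) fun a b hab =>
        Subtype.ext (Subtype.ext_iff.1 (α⁻¹.injective (Subtype.ext (Subtype.ext_iff.1 hab :))) :)
  refine Subgroup.mem_normalizer_iff.2 fun y => ?_
  have key : ∀ (g : ↥T), (g : Ω) ∈ Subgroup.normalizer ((autImg α R₀ : Subgroup Ω) : Set Ω) →
      ∀ z ∈ R₀, ((α⁻¹ g : ↥T) : Ω) * z * ((α⁻¹ g : ↥T) : Ω)⁻¹ ∈ R₀ := by
    intro g hg z hz
    have h1 : (g : Ω) * ((α ⟨z, hR₀T hz⟩ : ↥T) : Ω) * (g : Ω)⁻¹ ∈ autImg α R₀ :=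
      conj_mem_of_mem_normalizer hg (mem_autImg.2 ⟨⟨z, hR₀T hz⟩, hz, rfl⟩)
    obtain ⟨w, hw, hwe⟩ := mem_autImg.1 h1
    have h2 : α w = g * α ⟨z, hR₀T hz⟩ * g⁻¹ := Subtype.ext hwe
    have h3 : w = α⁻¹ g * ⟨z, hR₀T hz⟩ * (α⁻¹ g)⁻¹ := α.injective (by
      rw [h2, map_mul, map_mul, map_inv, MulAut.apply_inv_self])
    rw [h3] at hw
    exact hw
  refine ⟨key ⟨x, x.2.1⟩ x.2.2 y, fun hy => ?_⟩
  have h4 := key ⟨x, x.2.1⟩⁻¹ (inv_mem x.2.2) _ hy
  simpa [map_inv, mul_assoc] using h4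

/-- Each map on a `T`-centric subgroup of order `n` is a map of `genSys n` after an element of `gam`. -/
theorem inter_decomp (n : ℕ) {X : Subgroup Ω} {φ : X →* Ω} (hφ : φ ∈ h.inter.Hom X) :
    (∀ (P : Subgroup Ω) (hPX : P ≤ X), IsTC F T P → Nat.card P = n →
      ∃ a ∈ h.gam P, ∃ g ∈ (h.genSys n).Hom P, ∀ x, φ (Subgroup.inclusion hPX x) = g (a x)) ∧
    (n < Nat.card X → φ ∈ (h.genSys n).Hom X) := by
  have : Finite ↥T := finite_of_le h.le
  let E : Cfsg.FusionSystem T :=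
    { Hom := fun X => {φ | φ ∈ h.inter.Hom X ∧
        (∀ (P : Subgroup Ω) (hPX : P ≤ X), IsTC F T P → Nat.card P = n →
          ∃ a ∈ h.gam P, ∃ g ∈ (h.genSys n).Hom P, ∀ x, φ (Subgroup.inclusion hPX x) = g (a x)) ∧
        (n < Nat.card X → φ ∈ (h.genSys n).Hom X)}
      le_of_mem := fun hψ => h.inter.le_of_mem hψ.1
      injective_of_mem := fun hψ => h.inter.injective_of_mem hψ.1
      conj_mem := by
        intro X g hX hg
        exact ⟨h.inter.conj_mem hX hg, fun P hPX hP _ => ⟨1, one_mem _, conjHom P g,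
          (h.genSys n).conj_mem hP.1 hg, fun x => rfl⟩, fun _ => (h.genSys n).conj_mem hX hg⟩
      comp_mem := by
        intro X Y φ ψ hφ hψ hXY
        refine ⟨h.inter.comp_mem hφ.1 hψ.1 hXY, fun P hPX hP hn => ?_, fun hlt => ?_⟩
        · obtain ⟨a, ha, g, hg, hgx⟩ := hφ.2.1 P hPX hP hn
          obtain ⟨f, hf, hfx⟩ := exists_iso hg rfl
          have hRY : g.range ≤ Y := by
            rintro _ ⟨x, rfl⟩
            have := hgx (a⁻¹ x)
            rw [MulAut.apply_inv_self] at this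
            rw [← this]
            exact hXY _
          have hfF : IsFIso F f := h.genSys_sub n _ hf
          obtain ⟨a', ha', g', hg', hgx'⟩ := hψ.2.1 g.range hRY (hP.conj h.sc hfF.isConj)
            ((isConj_card_eq hfF.isConj).symm.trans hn)
          refine ⟨MulAut.congr f.symm a' * a, mul_mem (h.gam_congr hfF.symm ha') ha, _,
            (h.genSys n).comp_mem hg hg' fun x => ⟨x, rfl⟩, fun x => ?_⟩
          show ψ ⟨φ (Subgroup.inclusion hPX x), hXY _⟩ = g' ⟨g ((MulAut.congr f.symm a' * a) x), _⟩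
          have h1 : (⟨φ (Subgroup.inclusion hPX x), hXY _⟩ : Y) =
              Subgroup.inclusion hRY (f (a x)) := Subtype.ext ((hgx x).trans (hfx _).symm)
          rw [h1, hgx']
          refine congrArg g' (Subtype.ext ?_)
          exact (congrArg Subtype.val (show a' (f (a x)) = f ((MulAut.congr f.symm a' * a) x) by
            rw [MulAut.mul_apply, congr_apply, MulEquiv.symm_symm, MulEquiv.apply_symm_apply])).trans
            (hfx _)
        · have : Finite Y := finite_of_le (h.inter.le_of_mem hψ.1).1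
          refine (h.genSys n).comp_mem (hφ.2.2 hlt) (hψ.2.2 (hlt.trans_le ?_)) hXY
          exact Nat.card_le_card_of_injective (fun x => (⟨φ x, hXY x⟩ : Y))
            fun x y hxy => hom_inj hφ.1 (Subtype.ext_iff.1 hxy)
      inv_mem := by
        intro X φ hφ
        obtain ⟨χ, hχ, hχx⟩ := h.inter.inv_mem hφ.1
        refine ⟨χ, ⟨hχ, fun P' hP'X hP' hn => ?_, fun hlt => ?_⟩, hχx⟩
        · obtain ⟨e, he, hex⟩ := exists_iso hφ.1 rfl
          set P := (P'.subgroupOf φ.range).map (X.subtype.comp e.symm.toMonoidHom)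
          have hPX : P ≤ X := by
            rintro _ ⟨y, -, rfl⟩
            exact (e.symm y).2
          have hmem : ∀ x : X, (e x : Ω) ∈ P' ↔ (x : Ω) ∈ P := by
            intro x
            constructor
            · intro hx
              refine ⟨e x, hx, ?_⟩
              show ((e.symm (e x) : X) : Ω) = x
              rw [MulEquiv.symm_apply_apply]
            · rintro ⟨y, hy, hyx⟩
              rw [← show e.symm y = x from Subtype.ext hyx, MulEquiv.apply_symm_apply]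
              exact hy
          set f := restrictIso e hPX hP'X hmem with hfdef
          have hfF : IsFIso F f :=
            (show IsFIso F e from h.genSys_sub 0 _ he).restrict hPX f fun _ => rfl
          obtain ⟨a, ha, g, hg, hgx⟩ := hφ.2.1 P hPX (hP'.conj h.sc hfF.symm.isConj)
            ((isConj_card_eq hfF.isConj).trans hn)
          have hfg : ∀ x : P, (f x : Ω) = g (a x) := fun x => (hex _).trans (hgx x)
          set f' : P ≃* P' := (a⁻¹ : MulAut P).trans f
          have hf' : IsFIso (h.genSys n) f' := by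
            show P'.subtype.comp f'.toMonoidHom ∈ (h.genSys n).Hom P
            rwa [show P'.subtype.comp f'.toMonoidHom = g from MonoidHom.ext fun y => by
              show ((f ((a⁻¹ : MulAut P) y) : P') : Ω) = g y
              rw [hfg, MulAut.apply_inv_self]]
          refine ⟨MulAut.congr f' a⁻¹, h.gam_congr (h.genSys_sub n _ hf') ((h.gam P).inv_mem ha),
            P.subtype.comp f'.symm.toMonoidHom, hf'.symm, fun y => ?_⟩
          obtain ⟨z, rfl⟩ := f.surjective y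
          have h1 : f'.symm (MulAut.congr f' a⁻¹ (f z)) = z := by
            rw [congr_apply, MulEquiv.symm_apply_apply, show f'.symm (f z) = a z from
              f'.injective (by simp [f']), MulAut.inv_apply_self]
          show χ (Subgroup.inclusion hP'X (f z)) = (f'.symm (MulAut.congr f' a⁻¹ (f z)) : Ω)
          rw [h1]
          exact (congrArg χ (show Subgroup.inclusion hP'X (f z) =
            ⟨φ (Subgroup.inclusion hPX z), ⟨_, rfl⟩⟩ from Subtype.ext (hex _))).trans (hχx _)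
        · have hc : Nat.card φ.range = Nat.card X :=
            (Nat.card_congr (MonoidHom.ofInjective (hom_inj hφ.1)).toEquiv).symm
          obtain ⟨χ', hχ', hχ'x⟩ := (h.genSys n).inv_mem (hφ.2.2 (hc ▸ hlt))
          have : χ = χ' := MonoidHom.ext fun ⟨_, x, rfl⟩ => (hχx x).trans (hχ'x x).symm
          exact this ▸ hχ' }
  have hE : h.IsGen 0 E := by
    intro Y hY hY0 a ha
    have hamem := (mem_autGroup_iff_hom hY.1).1 (h.gam_le_inter hY ha)
    refine (mem_autGroup_iff_hom hY.1).2 ⟨hamem, fun P hPY hP hn => ?_, fun hlt => ?_⟩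
    · have : Finite Y := finite_of_le hY.1
      by_cases hYn : n < Nat.card Y
      · exact ⟨1, one_mem _, _, restrict_mem ((mem_autGroup_iff_hom hY.1).1
          (h.isGen_genSys n Y hY hYn ha)) hPY, fun x => rfl⟩
      · obtain rfl : P = Y := Subgroup.eq_of_le_of_card_ge hPY (by omega)
        exact ⟨a, ha, P.subtype, subtype_mem _ hP.1, fun x => rfl⟩
    · exact (mem_autGroup_iff_hom hY.1).1 (h.isGen_genSys n Y hY hlt ha)
  exact (h.genSys_le hE X hφ).2

theorem mem_genSys_of_card {n : ℕ} {X : Subgroup Ω} {φ : X →* Ω} (hφ : φ ∈ h.inter.Hom X)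
    (hn : n < Nat.card X) : φ ∈ (h.genSys n).Hom X := (h.inter_decomp n hφ).2 hn

theorem autGroup_genSys_eq {n : ℕ} (hn : n < Nat.card X) (hX : X ≤ T) :
    (h.genSys n).autGroup X = h.inter.autGroup X := by
  refine le_antisymm (fun a ha => (mem_autGroup_iff_hom hX).2
    (h.genSys_le_inter n X ((mem_autGroup_iff_hom hX).1 ha))) fun a ha => ?_
  exact (mem_autGroup_iff_hom hX).2 (h.mem_genSys_of_card ((mem_autGroup_iff_hom hX).1 ha) hn)

/-- Elements of `gam P` carrying `Aut_X(P)` into `Aut_T(P)` extend, for good `P`. -/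
theorem exists_map_of_good (hgood : Good F T P) (hTC : IsTC F T P) {c : MulAut P}
    (hc : c ∈ h.gam P) (hPX : P ≤ X) (hX : X ≤ normalizerIn T P)
    (hact : ∀ x (hx : x ∈ X), c * conjAut P x (hX hx).2 * c⁻¹ ∈ autInducedBy T P) :
    ∃ ψ ∈ h.inter.Hom X, ∀ y : P, ψ (Subgroup.inclusion hPX y) = (c y : Ω) := by
  obtain ⟨P₀, e, hPS, hP₀, he, ψe, hψe, hag, hsur⟩ := exists_good_map h.grp h.sat h.sc hgood
  have hXS : X ≤ normalizerIn S P := hX.trans (inf_le_inf_right _ h.le)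
  set X₀ := (ψe.comp (Subgroup.inclusion hXS)).range with hX₀def
  have hψN : ∀ z : normalizerIn S P, ψe z ∈ Subgroup.normalizer (P₀ : Set Ω) := fun z =>
    map_mem_normalizer_of_extends (le_normalizerIn hPS) hag z.2 z.2.2
  have hX₀ : X₀ ≤ normalizerIn T P₀ := by
    rintro _ ⟨x, rfl⟩
    exact ⟨stronglyClosed_apply_mem h.sc hψe _ (hX x.2).1, hψN _⟩
  have hP₀X₀ : P₀ ≤ X₀ := fun y hy => by
    obtain ⟨x, hx⟩ := e.surjective ⟨y, hy⟩
    exact ⟨Subgroup.inclusion hPX x, (hag x).trans (congrArg Subtype.val hx)⟩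
  obtain ⟨χ, hχ, hχc⟩ := h.exists_map_of_gam hP₀ (hTC.conj h.sc he.isConj) h.inter
    (fun Y hY => h.gam_le_inter hY) (c := MulAut.congr e c) (h.gam_congr he hc) hP₀X₀ hX₀ (by
      rintro _ ⟨x, rfl⟩
      obtain ⟨t, htN, htT, hte⟩ := exists_eq_conjAut (hact x x.2)
      have htm : t ∈ normalizerIn S P := ⟨h.le htT, htN⟩
      have h1 := congr_conjAut_eq_of_extends (le_normalizerIn hPS) hag (hXS x.2) (hX x.2).2
      have h2 : MulAut.congr e (c * conjAut P x (hX x.2).2 * c⁻¹) ∈ autInducedBy T P₀ := by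
        rw [hte, congr_conjAut_eq_of_extends (le_normalizerIn hPS) hag htm htN]
        exact conjAut_mem_autInducedBy (stronglyClosed_apply_mem h.sc hψe ⟨t, htm⟩ htT) _
      rw [map_mul, map_mul, map_inv, h1] at h2
      exact h2)
  -- back along the inverse of the normalizer map
  obtain ⟨η₀, hη₀, hη₀x⟩ := F.inv_mem hψe
  have hran : normalizerIn T P₀ ≤ ψe.range := fun y hy => by
    obtain ⟨x, -, hx⟩ := hsur y hy
    exact ⟨x, hx⟩
  set η := η₀.comp (Subgroup.inclusion hran)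
  have hηx : ∀ (x : normalizerIn S P) (hm : ψe x ∈ normalizerIn T P₀),
      η ⟨ψe x, hm⟩ = (x : Ω) := fun x hm => hη₀x x
  have hχN : ∀ z : X₀, χ z ∈ normalizerIn T P₀ := fun z => ⟨map_mem hχ z,
    map_mem_normalizer_of_extends (e := (MulAut.congr e c : P₀ ≃* P₀)) hP₀X₀ hχc z.2 (hX₀ z.2).2⟩
  obtain ⟨χ', hχ', hχ'x⟩ := h.inter_stronglyInvariant X₀ _ hX₀ (normalizerIn_le _ _) χ hχ hχN η
    (restrict_mem hη₀ hran)
  have hle : X ≤ (X₀.subgroupOf (normalizerIn T P₀)).map η := fun x hx => by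
    have hm : ψe ⟨x, hXS hx⟩ ∈ X₀ := ⟨⟨x, hx⟩, rfl⟩
    exact ⟨⟨_, hX₀ hm⟩, hm, hηx _ _⟩
  refine ⟨χ'.comp (Subgroup.inclusion hle), restrict_mem hχ' hle, fun y => ?_⟩
  have hm : ψe ⟨y, hXS (hPX y.2)⟩ ∈ X₀ := ⟨⟨y, hPX y.2⟩, rfl⟩
  have h3 := hχ'x ⟨_, hm⟩ ⟨⟨_, hX₀ hm⟩, hm, rfl⟩
  refine (Eq.trans (congrArg χ' (Subtype.ext (hηx ⟨y, hXS (hPX y.2)⟩ (hX₀ hm)).symm)) h3).trans ?_
  have h4 : χ ⟨_, hm⟩ = (e (c y) : Ω) := by
    refine (congrArg χ (Subtype.ext (hag y))).trans ((hχc (e y)).trans ?_)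
    rw [congr_apply, MulEquiv.symm_apply_apply]
  have hm2 : ψe ⟨(c y : Ω), le_normalizerIn hPS (c y).2⟩ ∈ normalizerIn T P₀ := by
    rw [hag, ← h4]
    exact hχN _
  exact (congrArg η (Subtype.ext (h4.trans (hag (c y)).symm))).trans (hηx _ hm2)

theorem inter_main : ∀ (k : ℕ) (R : Subgroup Ω), R ≤ T →
    Nat.card ↥T ≤ Nat.card R + k →
    (∃ R', h.inter.IsConj R R' ∧ h.inter.IsFullyAutomized p R' ∧ h.inter.IsReceptive R') ∧
      (IsTC F T R → h.inter.autGroup R ≤ h.gam R) := by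
  classical
  set G := h.inter with hG
  have hS := h.grp
  have hTS : T ≤ S := h.le
  have : Finite ↥T := finite_of_le hTS
  have hTp : IsPGroup p ↥T := hS.to_le hTS
  intro k
  induction k using Nat.strong_induction_on with
  | _ k ih =>
  intro P₁ hP₁ hk
  obtain ⟨P, hP₁P, hP⟩ := exists_isFullyNormalized G hP₁
  suffices hrep : (G.IsFullyAutomized p P ∧ G.IsReceptive P) ∧
      (IsTC F T P → G.autGroup P ≤ h.gam P) by
    refine ⟨⟨P, hP₁P, hrep.1⟩, fun hTC a ha => ?_⟩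
    obtain ⟨e, he⟩ := exists_iso_of_isConj hP₁P
    have heF : IsFIso F e := h.genSys_sub 0 _ he
    have h1 := h.gam_congr heF.symm (hrep.2 (hTC.conj h.sc heF.isConj) (he.congr_mem ha))
    rwa [congr_symm_congr] at h1
  have hPT : P ≤ T := hP.1
  set n := Nat.card P with hn
  have hcard : Nat.card P₁ = n := isConj_card_eq hP₁P
  have hgood : Good F T P := h.good_of_inter_fullyNormalized hP
  have hIH : ∀ R, R ≤ T → n < Nat.card R →
      (∃ R', G.IsConj R R' ∧ G.IsFullyAutomized p R' ∧ G.IsReceptive R') ∧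
        (IsTC F T R → G.autGroup R ≤ h.gam R) := fun R hR hc => by
    have := Subgroup.card_le_of_le hR
    exact ih (Nat.card ↥T - Nat.card R) (by omega) R hR (by omega)
  have hfaTC : IsTC F T P → G.autGroup P ≤ h.gam P → G.IsFullyAutomized p P := by
    intro hTC hle
    obtain ⟨Sy, hSy⟩ := h.gam_sylow_good hgood
    refine ⟨hPT, ?_⟩
    rw [show G.autGroup P = h.gam P from le_antisymm hle (h.gam_le_inter hTC)]
    exact ⟨Sy, hSy⟩
  have hTtc : IsTC F T T := ⟨le_rfl, fun R hR => by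
    rw [CfsgLib.FusionQuot.eq_of_isConj_of_stronglyClosed h.sc hR]
    exact centralizerIn_le _ _⟩
  -- maps of a class at level `n`
  have hdec : ∀ {Q : Subgroup Ω}, IsTC F T Q → Nat.card Q = n → ∀ φ ∈ G.Hom Q,
      ∃ a ∈ h.gam Q, ∃ g ∈ (h.genSys n).Hom Q, ∀ x, φ x = g (a x) := fun hQ hc φ hφ =>
    (h.inter_decomp n hφ).1 _ le_rfl hQ hc
  rcases eq_or_lt_of_le hPT with heq | hlt
  · -- the whole group
    have hTC : IsTC F T P := heq ▸ hTtc
    have hinner : h.IsGen n (Cfsg.innerFusionSystem T) := fun Y hY hc => by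
      have := Subgroup.card_le_of_le hY.1
      rw [hn, heq] at hc
      omega
    have hle : G.autGroup P ≤ h.gam P := fun α hα => by
      obtain ⟨a, ha, g, hg, hgx⟩ := hdec hTC rfl _ ((mem_autGroup_iff_hom hPT).1 hα)
      obtain ⟨-, t, ht, htx⟩ := h.genSys_le hinner P hg
      have htN : t ∈ Subgroup.normalizer (P : Set Ω) := Subgroup.le_normalizer (heq.ge ht)
      rw [show α = conjAut P t htN * a from MulEquiv.ext fun x => Subtype.ext
        ((hgx x).trans (htx _))]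
      exact mul_mem (h.autInducedBy_le_gam (hPT.trans hTS) (conjAut_mem_autInducedBy ht _)) ha
    refine ⟨⟨hfaTC hTC hle, hPT, fun Q φ hφ hr => ?_⟩, fun _ => hle⟩
    have hQ : T ≤ Q := by
      have h1 : Nat.card Q = Nat.card P := isConj_card_eq ⟨φ, hφ, hr⟩
      have : Finite Q := finite_of_le (dom_le hφ)
      exact (Subgroup.eq_of_le_of_card_ge (dom_le hφ) (by rw [h1, heq])).ge
    have hle' : extender T Q φ ≤ Q :=
      ((Subgroup.closure_le _).2 fun g hg => hg.1).trans hQ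
    exact ⟨φ.comp (Subgroup.inclusion hle'), restrict_mem hφ hle', fun x hxQ hxN => rfl⟩
  by_cases hTC : IsTC F T P
  swap
  · -- not centric
    have hgenG : ∀ E : Cfsg.FusionSystem T,
        (∀ H ∈ {H | IsTC F T H}, G.Hom H ⊆ E.Hom H) → G ≤ E := fun E hE X =>
      h.genSys_le (fun Y hY _ a ha => (mem_autGroup_iff_hom hY.1).2
        (hE Y hY ((mem_autGroup_iff_hom hY.1).1 (h.gam_le_inter hY ha)))) X
    have hout : ∀ Q, G.IsConj P Q → Q ∉ {H | IsTC F T H} := fun Q hQ hQc =>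
      hTC ((show IsTC F T Q from hQc).conj h.sc
        (isConj_symm (CfsgLib.FusionQuot.isConj_of_subsystem (h.genSys_sub 0) hQ)))
    have hbig : Big G p n := fun R hR hc => (hIH R hR hc).1
    have hext : ∀ Q, G.IsConj Q P → ∃ g : Q ≃* P, ExtN G g := fun Q hQ =>
      exists_extN hTp _ hgenG hP hlt hout hbig hQ
    have hK := lt_coreNorm_of_not_centric hTp hPT hext fun hc => hTC (h.isCentric_inter_iff.1 hc)
    exact ⟨saturated_class hTp _ hgenG hP hlt hout hbig hK, fun hc => absurd hc hTC⟩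
  -- centric
  set H := h.genSys n with hH
  have hHG : ∀ X, H.Hom X ⊆ G.Hom X := h.genSys_le_inter n
  have hPn : H.IsFullyNormalized P := ⟨hPT, fun Q hQ =>
    hP.2 Q (CfsgLib.FusionQuot.isConj_of_subsystem hHG hQ)⟩
  set ℋ : Set (Subgroup Ω) := {X | IsTC F T X ∧ n < Nat.card X}
  have hgen : ∀ E : Cfsg.FusionSystem T, (∀ X ∈ ℋ, H.Hom X ⊆ E.Hom X) → H ≤ E :=
    fun E hE X => h.genSys_le (fun Y hY hc a ha => (mem_autGroup_iff_hom hY.1).2
      (hE Y ⟨hY, hc⟩ ((mem_autGroup_iff_hom hY.1).1 (h.isGen_genSys n Y hY hc ha)))) X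
  have hout : ∀ Q, H.IsConj P Q → Q ∉ ℋ := fun Q hQ hQc => by
    have := isConj_card_eq hQ
    have := hQc.2
    omega
  have hbig : Big H p n := fun R hR hc => by
    obtain ⟨⟨R', hRR', hFA, hrec⟩, -⟩ := hIH R hR hc
    have hc' : n < Nat.card R' := isConj_card_eq hRR' ▸ hc
    refine ⟨R', ?_, ⟨hFA.1, ?_⟩, hrec.1, fun Q φ hφ hr => ?_⟩
    · obtain ⟨φ, hφ, hr⟩ := hRR'
      exact ⟨φ, h.mem_genSys_of_card hφ hc, hr⟩
    · rw [h.autGroup_genSys_eq hc' hFA.1]
      exact hFA.2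
    · obtain ⟨ψ, hψ, hψx⟩ := hrec.2 Q φ (hHG Q hφ) hr
      refine ⟨ψ, h.mem_genSys_of_card hψ (lt_of_lt_of_le hc' ?_), hψx⟩
      rw [← isConj_card_eq (⟨φ, hφ, hr⟩ : H.IsConj Q R')]
      have : Finite (extender T Q φ) := finite_of_le (dom_le hψ)
      exact Subgroup.card_le_of_le (le_extender (dom_le hφ) fun x => map_mem hφ x)
  have hext : ∀ Q, H.IsConj Q P → ∃ g : Q ≃* P, ExtN H g := fun Q hQ =>
    exists_extN hTp ℋ hgen hPn hlt hout hbig hQ
  have hautbig : ∀ X, IsTC F T X → n < Nat.card X → H.autGroup X = h.gam X := by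
    intro X hX hc
    rw [h.autGroup_genSys_eq hc hX.1]
    exact le_antisymm ((hIH X hX.1 hc).2 hX) (h.gam_le_inter hX)
  have hclaim : ∀ (R R' : Subgroup Ω) (e : R ≃* R') (l : Linked H P P e), P < R →
      l.res ∈ h.gam P := by
    intro R
    induction hk : Nat.card ↥T - Nat.card R using Nat.strong_induction_on generalizing R with
    | _ m ihm =>
    intro R' e l hPR
    have hRT : R ≤ T := l.iso.le_left
    have hR'T : R' ≤ T := l.iso.le_right
    have hRn : n < Nat.card R := Descent.card_lt_card_of_lt hRT hPR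
    have hRN : R ≤ normalizerIn T P := linked_le_normalizerIn l
    have hR'N : R' ≤ normalizerIn T P := linked_le_normalizerIn l.symm
    obtain ⟨R₀, U₀, e₀, l₀, hB⟩ := exists_best (U := P) (hbig R hRT hRn) l.le l.norm
    have hR₀n : n < Nat.card R₀ := Nat.card_congr e₀.toEquiv ▸ hRn
    have hU₀F : IsFIso F l₀.res := h.genSys_sub n _ l₀.res_iso
    have hU₀TC : IsTC F T U₀ := hTC.conj h.sc hU₀F.isConj
    have hR₀TC : IsTC F T R₀ := hU₀TC.mono hB.le hB.leS
    have hR₀N : R₀ ≤ normalizerIn T U₀ := le_inf hB.leS hB.norm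
    have hstab : pairStab H R₀ U₀ = h.gam R₀ ⊓ setStab R₀ U₀ := by
      rw [pairStab, hautbig R₀ hR₀TC hR₀n]
    have hd : ∀ β (hβ : β ∈ pairStab H R₀ U₀), resHom hB.le ⟨β, hβ.2⟩ ∈ h.gam U₀ := fun β hβ =>
      h.down hU₀TC hB.le hR₀N (hstab ▸ hB.sylow) (hstab ▸ hβ)
    have : Finite (normalizerIn T P) := finite_of_le (normalizerIn_le _ _)
    by_cases hRfull : normalizerIn T P ≤ R
    · obtain rfl : R = R' := by
        have : Finite R := finite_of_le hRT
        refine (Subgroup.eq_of_le_of_card_ge (hR'N.trans hRfull) ?_).symm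
        rw [Nat.card_congr e.toEquiv]
      have hmem : MulAut.congr e₀ (e : MulAut R) ∈ pairStab H R₀ U₀ :=
        l₀.congr_mem_pairStab ⟨(mem_autGroup_iff hRT).2 l.iso, l.compat⟩
      have h1 := h.gam_congr hU₀F.symm (hd _ hmem)
      convert h1 using 1
      refine MulEquiv.ext fun x => l₀.res.injective (Subtype.ext ?_)
      rw [congr_apply, MulEquiv.symm_symm, MulEquiv.apply_symm_apply, Linked.res_apply]
      show (e₀ ⟨(l.res x : Ω), _⟩ : Ω) = (e₀ (e (e₀.symm ⟨(l₀.res x : Ω), _⟩)) : Ω)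
      have h2 : e₀.symm ⟨(l₀.res x : Ω), l₀.le' (l₀.res x).2⟩ = ⟨(x : Ω), l₀.le x.2⟩ := by
        rw [MulEquiv.symm_apply_eq]
        exact Subtype.ext (l₀.res_apply x)
      rw [h2]
      exact congrArg (fun z : R => (e₀ z : Ω)) (Subtype.ext (l.res_apply x))
    · obtain ⟨g, hg⟩ := hext U₀ (isConj_symm l₀.res_iso.isConj)
      have hgF : IsFIso F g := h.genSys_sub n _ hg.iso
      obtain ⟨hU₀S, ψg, hψg, hgag⟩ := id hg
      have hside : ∀ {R₁ : Subgroup Ω} {e₁ : R₁ ≃* R₀} (l₁ : Linked H P U₀ e₁), P < R₁ →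
          Nat.card R₁ = Nat.card R → ∃ b, ∃ hb : b ∈ pairStab H R₀ U₀,
            ((l₁.res.trans (resHom hB.le ⟨b, hb.2⟩ : U₀ ≃* U₀)).trans g : MulAut P) ∈ h.gam P := by
        intro R₁ e₁ l₁ hPR₁ hc₁
        set X₁ := pairNorm T R₁ P with hX₁
        obtain ⟨b, hb, ψ, hψ, hψN, hag⟩ := hB.exists_map hTp l₁
        refine ⟨b, hb, ?_⟩
        have hR₁T : R₁ ≤ T := l₁.iso.le_left
        have hR₁N : R₁ ≤ normalizerIn T P := linked_le_normalizerIn l₁
        have hR₁lt : R₁ < normalizerIn T P := lt_of_le_of_ne hR₁N fun heq => by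
          have hc₂ : Nat.card (normalizerIn T P) = Nat.card R := by rw [← heq, hc₁]
          exact hRfull (Subgroup.eq_of_le_of_card_ge hRN hc₂.le).ge
        have hR₁X : R₁ < X₁ := lt_of_lt_of_le
          (lt_normalizerIn (hTp.to_le (normalizerIn_le T P)) hR₁lt)
          fun y hy => ⟨⟨hy.1.1, hy.2⟩, hy.1.2⟩
        have hψ' : ∀ z, ψ z ∈ normalizerIn T U₀ := fun z => pairNorm_le_left (hψN z)
        set u : P ≃* P := (l₁.res.trans (resHom hB.le ⟨b, hb.2⟩ : U₀ ≃* U₀)).trans g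
        have hagu : ∀ y : P, (ψg.comp (ψ.codRestrict _ hψ')) ⟨y, hR₁X.le (l₁.le y.2)⟩ = (u y : Ω) := by
          intro y
          refine (congrArg ψg (Subtype.ext ?_)).trans (hgag _)
          exact hag ⟨y, l₁.le y.2⟩ (hR₁X.le (l₁.le y.2))
        obtain ⟨e', l', he'⟩ := exists_linked_of_map (H.comp_mem hψ hψg hψ') u
          (l₁.le.trans hR₁X.le) inf_le_right hagu
        have hX₁T : X₁ ≤ T := pairNorm_le
        have h1 := Descent.card_lt_card_of_lt hX₁T hR₁X
        have h2 := Subgroup.card_le_of_le hX₁T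
        have h3 := ihm _ (by omega) X₁ rfl _ e' l' (hPR₁.trans hR₁X)
        rwa [show l'.res = u from MulEquiv.ext fun y => Subtype.ext ((he' _).trans (hagu y))] at h3
      obtain ⟨b₁, hb₁, hu₁⟩ := hside l₀ hPR rfl
      obtain ⟨b₂, hb₂, hu₂⟩ := hside (l.symm.trans l₀) (l.lt' hPR) (Nat.card_congr e.toEquiv).symm
      have hdd := hd _ ((pairStab H R₀ U₀).mul_mem hb₂ ((pairStab H R₀ U₀).inv_mem hb₁))
      have h1 := mul_mem (mul_mem ((h.gam P).inv_mem hu₂) (h.gam_congr hgF hdd)) hu₁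
      convert h1 using 1
      refine MulEquiv.ext fun x => ?_
      set r₀ := l₀.res
      set a := l.res
      set B₁ := resHom hB.le ⟨b₁, hb₁.2⟩
      set B₂ := resHom hB.le ⟨b₂, hb₂.2⟩
      have hr : (l.symm.trans l₀).res = a.symm.trans r₀ := MulEquiv.ext fun y => by
        refine Subtype.ext ?_
        obtain ⟨z, rfl⟩ := a.surjective y
        rw [Linked.res_apply, MulEquiv.trans_apply, MulEquiv.trans_apply, MulEquiv.symm_apply_apply]
        refine Eq.trans ?_ (l₀.res_apply z).symm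
        exact congrArg (fun w : R => (e₀ w : Ω)) (e.injective (by
          rw [MulEquiv.apply_symm_apply]
          exact Subtype.ext (l.res_apply z)))
      have hB' : ∀ y, resHom hB.le ⟨b₂ * b₁⁻¹, (setStab R₀ U₀).mul_mem hb₂.2
          ((setStab R₀ U₀).inv_mem hb₁.2)⟩ y = (B₂ * B₁⁻¹) y := fun y =>
        DFunLike.congr_fun ((map_mul (resHom hB.le) ⟨b₂, hb₂.2⟩ ⟨b₁, hb₁.2⟩⁻¹).trans
          (congrArg (B₂ * ·) (map_inv (resHom hB.le) ⟨b₁, hb₁.2⟩))) y
      rw [hr, MulAut.mul_apply, MulAut.mul_apply]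
      simp only [MulEquiv.trans_apply, congr_apply, MulEquiv.symm_apply_apply]
      rw [hB', MulAut.mul_apply, MulAut.inv_apply_self]
      symm
      refine (MulEquiv.symm_apply_eq _).2 ?_
      simp
  have hGle : H.autGroup P ≤ h.gam P := by
    have hmain : ∀ {Q Q' : Subgroup Ω} (e : Q ≃* Q'), H.IsConj P Q → IsFIso H e →
        ∀ (f : Q ≃* P) (f' : Q' ≃* P), ExtN H f → ExtN H f' →
          (f.symm.trans (e.trans f') : MulAut P) ∈ h.gam P := by
      refine class_induction hTp ℋ hgen hlt hout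
        (fun {Q Q'} e => ∀ (f : Q ≃* P) (f' : Q' ≃* P), ExtN H f → ExtN H f' →
          (f.symm.trans (e.trans f') : MulAut P) ∈ h.gam P) ?_ ?_ ?_
      · intro Q Q' Q'' e g hQ he hg h₁ h₂ f f'' hf hf''
        obtain ⟨f', hf'⟩ := hext Q' (isConj_symm (isConj_trans hQ he.isConj))
        have h3 := mul_mem (h₂ f' f'' hf' hf'') (h₁ f f' hf hf')
        have heq : (f.symm.trans ((e.trans g).trans f'') : MulAut P) =
            (f'.symm.trans (g.trans f'') : MulAut P) * (f.symm.trans (e.trans f') : MulAut P) :=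
          MulEquiv.ext fun x => by simp [MulAut.mul_apply]
        exact heq ▸ h3
      · intro Q Q' e hQ he h' f f' hf hf'
        have h1 := (h.gam P).inv_mem (h' f' f hf' hf)
        have heq : (f.symm.trans (e.symm.trans f') : MulAut P) =
            (f'.symm.trans (e.trans f) : MulAut P)⁻¹ := by
          refine (inv_eq_of_mul_eq_one_right (MulEquiv.ext fun x => ?_)).symm
          simp [MulAut.mul_apply]
        exact heq ▸ h1
      · intro R R' Q Q' e l hQR hQ r hr f f' hf hf'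
        obtain ⟨hQS, ψ, hψ, hag⟩ := hf
        obtain ⟨hQ'S, ψ', hψ', hag'⟩ := hf'
        have hR : R ≤ normalizerIn T Q := linked_le_normalizerIn l
        have hR' : R' ≤ normalizerIn T Q' := linked_le_normalizerIn l.symm
        obtain ⟨e₁, l₁, he₁⟩ := exists_linked_of_map (restrict_mem hψ hR) f l.le l.norm
          fun x => hag x
        obtain ⟨e₂, l₂, he₂⟩ := exists_linked_of_map (restrict_mem hψ' hR') f' l.le' l.norm'
          fun x => hag' x
        have h3 := hclaim _ _ _ (l₁.symm.trans (l.trans l₂)) (l₁.lt' hQR)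
        have heq : ((l₁.symm.trans (l.trans l₂)).res : MulAut P) =
            (f.symm.trans (r.trans f') : MulAut P) := by
          refine MulEquiv.ext fun x => Subtype.ext ?_
          have h1 : e₁.symm ⟨x, l₁.le' x.2⟩ = ⟨(f.symm x : Ω), l.le (f.symm x).2⟩ := by
            apply e₁.injective
            rw [MulEquiv.apply_symm_apply]
            refine Subtype.ext ?_
            rw [he₁]
            exact (congrArg Subtype.val (f.apply_symm_apply x)).symm.trans (hag _).symm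
          have h2 : e ⟨(f.symm x : Ω), l.le (f.symm x).2⟩ =
              ⟨(r (f.symm x) : Ω), l.le' (r (f.symm x)).2⟩ :=
            Subtype.ext (hr _ _).symm
          rw [Linked.res_apply, MulEquiv.trans_apply, MulEquiv.trans_apply, h1, h2, he₂]
          exact hag' _
        exact heq ▸ h3
    intro α hα
    exact hmain (α : P ≃* P) (isConj_refl H hPT) ((mem_autGroup_iff hPT).1 hα)
      (MulEquiv.refl P) (MulEquiv.refl P) (ExtN.refl hPT) (ExtN.refl hPT)
  have hle : G.autGroup P ≤ h.gam P := fun α hα => by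
    obtain ⟨a, ha, g, hg, hgx⟩ := hdec hTC rfl _ ((mem_autGroup_iff_hom hPT).1 hα)
    have hgm : (α * a⁻¹ : MulAut P) ∈ H.autGroup P := (mem_autGroup_iff_hom hPT).2 (by
      rwa [show P.subtype.comp (α * a⁻¹ : MulAut P).toMonoidHom = g from MonoidHom.ext fun y => by
        show ((α ((a⁻¹ : MulAut P) y) : P) : Ω) = g y
        exact (hgx _).trans (by rw [MulAut.apply_inv_self])])
    have h1 := mul_mem (hGle hgm) ha
    rwa [inv_mul_cancel_right] at h1
  refine ⟨⟨hfaTC hTC hle, hPT, fun Q φ hφ hr => ?_⟩, fun _ => hle⟩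
  obtain ⟨f, hf, hfx⟩ := exists_iso hφ hr
  have hQTC : IsTC F T Q := hTC.conj h.sc (isConj_symm
    (CfsgLib.FusionQuot.isConj_of_subsystem (h.genSys_sub 0) ⟨φ, hφ, hr⟩))
  obtain ⟨a, ha, g, hg, hgx⟩ := hdec hQTC (isConj_card_eq (⟨φ, hφ, hr⟩ : G.IsConj Q P)) φ hφ
  have hgr : g.range = P := by
    rw [← hr]
    refine le_antisymm ?_ ?_ <;> rintro _ ⟨x, rfl⟩
    · exact ⟨a⁻¹ x, by rw [hgx, MulAut.apply_inv_self]⟩
    · exact ⟨a x, (hgx x).symm⟩
  obtain ⟨g₀, hg₀⟩ := hext Q ⟨g, hg, hgr⟩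
  have hg₀G : IsFIso G g₀ := hHG _ hg₀.iso
  set c : MulAut P := g₀.symm.trans f with hcdef
  have hc : c ∈ h.gam P := hle ((mem_autGroup_iff hPT).2 (hg₀G.symm.trans hf))
  obtain ⟨hQS, ψ₀, hψ₀, hag₀⟩ := id hg₀
  have hEN : extender T Q φ ≤ normalizerIn T Q := extender_le_normalizerIn φ
  set θ := ψ₀.comp (Subgroup.inclusion hEN) with hθ
  have hθN : θ.range ≤ normalizerIn T P := by
    rintro _ ⟨x, rfl⟩
    exact ExtN.map_mem (hQ := hQS) hψ₀ hag₀ _
  have hQE : Q ≤ extender T Q φ := le_extender hQS fun x => map_mem hφ x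
  have hPθ : P ≤ θ.range := fun y hy => by
    obtain ⟨x, hx⟩ := g₀.surjective ⟨y, hy⟩
    exact ⟨Subgroup.inclusion hQE x, (hag₀ x).trans (congrArg Subtype.val hx)⟩
  obtain ⟨χ, hχ, hχc⟩ := h.exists_map_of_good hgood hTC hc hPθ hθN (by
    rintro _ ⟨⟨x, hx⟩, rfl⟩
    have hxn := hEN hx
    have h1 := (mem_extender_iff_congr f (fun y => (hfx y).symm) hxn.1 hxn.2).1 hx
    have h2 : MulAut.congr (c : P ≃* P) (MulAut.congr g₀ (conjAut Q x hxn.2)) =
        MulAut.congr f (conjAut Q x hxn.2) := MulEquiv.ext fun y => by simp [hcdef]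
    rw [congr_conjAut_eq_of_extends (le_normalizerIn hQS) hag₀ hxn hxn.2, congr_eq_conj] at h2
    exact (h2 ▸ h1 : _))
  refine ⟨_, G.comp_mem (restrict_mem (hHG _ hψ₀) hEN) hχ fun x => ⟨x, rfl⟩, fun x hxQ hxN => ?_⟩
  show χ ⟨θ ⟨x, hxN⟩, _⟩ = _
  refine (congrArg χ (Subtype.ext (hag₀ ⟨x, hxQ⟩) : _ = Subgroup.inclusion hPθ (g₀ ⟨x, hxQ⟩))).trans
    ((hχc _).trans ?_)
  simp [hcdef, hfx]

/-- The intersection is saturated. -/
theorem inter_isSaturated : h.inter.IsSaturated p := fun R hR =>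
  (h.inter_main (Nat.card ↥T) R hR (Nat.le_add_left _ _)).1

/-- The automizers of the intersection at `T`-centric subgroups. -/
theorem autGroup_inter_eq (hR : IsTC F T R) : h.inter.autGroup R = h.gam R :=
  le_antisymm ((h.inter_main (Nat.card ↥T) R hR.1 (Nat.le_add_left _ _)).2 hR)
    (h.gam_le_inter hR)

/-- The generated system is weakly normal. -/
theorem system_isWeaklyNormalIn : h.inter.IsWeaklyNormalIn F p :=
  ⟨h.inter_isSaturated, h.sat, h.inter_isInvariantIn⟩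

end Family

end CfsgLib.Fusion.Balance
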