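import Cfsg.Agent.Lib.Fusion.Balance.Up

/-!
# The automizer generated by `Aut_W` and the automorphisms trivial modulo a normal subsystem

`Jgen F D p Y` is generated by the conjugates of `Aut_W` and the `Tr` automorphisms of `Y`.  For
centric `Y` it meets `Aut_S(Y)` in `Aut_W(Y)` and its coprime elements are `Tr` (`hull_main`).
-/

set_option autoImplicit false
set_option linter.unusedSectionVars false

namespace CfsgLib.Fusion.Balance

open Cfsg Cfsg.FusionSystem CfsgLib.Fusion CfsgLib.Fusion.Inter CfsgLib.Fusion.SatCriterion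
open scoped Pointwise commutatorElement

variable {Ω : Type*} [Group Ω] {S W : Subgroup Ω} {F : Cfsg.FusionSystem S}
variable {D : Cfsg.FusionSystem W} {p : ℕ}
variable {Y Y₀ G : Subgroup Ω}

/-- The group generated by the conjugates of `Aut_W` and the `Tr` automorphisms. -/
def Jgen (F : Cfsg.FusionSystem S) (D : Cfsg.FusionSystem W) (p : ℕ) (Y : Subgroup Ω) :
    Subgroup (MulAut Y) :=
  Subgroup.closure (aGens F W Y ∪ {a | Tr F D p Y a})

theorem aGens_subset_jgen {a : MulAut Y} (ha : a ∈ aGens F W Y) : a ∈ Jgen F D p Y :=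
  Subgroup.subset_closure (Or.inl ha)

theorem tr_mem_jgen {a : MulAut Y} (ha : Tr F D p Y a) : a ∈ Jgen F D p Y :=
  Subgroup.subset_closure (Or.inr ha)

theorem autInducedBy_le_jgen (hYS : Y ≤ S) : autInducedBy W Y ≤ Jgen F D p Y := fun _ ha =>
  aGens_subset_jgen (autInducedBy_subset_aGens hYS ha)

theorem jgen_congr {e : Y ≃* Y₀} (he : IsFIso F e) {a : MulAut Y} (ha : a ∈ Jgen F D p Y) :
    MulAut.congr e a ∈ Jgen F D p Y₀ := by
  have hle : Jgen F D p Y ≤ (Jgen F D p Y₀).comap (MulAut.congr e).toMonoidHom := by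
    refine (Subgroup.closure_le _).2 fun a ha => ?_
    rcases ha with ha | ha
    · exact aGens_subset_jgen (aGens_congr he ha)
    · exact tr_mem_jgen (tr_congr he ha)
  exact hle ha

theorem jgen_le_autGroup (hW : F.StronglyClosed W) : Jgen F D p Y ≤ F.autGroup Y := by
  refine (Subgroup.closure_le _).2 fun a ha => ?_
  rcases ha with ha | ha
  · exact aGens_le_autGroup hW.1 ha
  · exact ha.mem_autGroup

theorem jgen_conj (hYS : Y ≤ S) {b a : MulAut Y} (hb : b ∈ F.autGroup Y)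
    (ha : a ∈ Jgen F D p Y) : b * a * b⁻¹ ∈ Jgen F D p Y := by
  rw [← congr_eq_conj]
  exact jgen_congr ((mem_autGroup_iff hYS).1 hb) ha

/-- The two properties of `Jgen` at `Y`. -/
def Hull (F : Cfsg.FusionSystem S) (D : Cfsg.FusionSystem W) (p : ℕ) (Y : Subgroup Ω) : Prop :=
  (∀ s ∈ S, ∀ hs : s ∈ Subgroup.normalizer (Y : Set Ω), conjAut Y s hs ∈ Jgen F D p Y →
    ∃ z ∈ Y, z ∈ Subgroup.centralizer (Y : Set Ω) ∧ s * z ∈ W) ∧
  ∀ j ∈ Jgen F D p Y, (orderOf j).Coprime p → Tr F D p Y j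

/-- `Hull` is carried along isomorphisms extending to the normalizer. -/
theorem hull_of_map (hW : F.StronglyClosed W) {e : Y ≃* Y₀} (he : IsFIso F e)
    {ψ : normalizerIn S Y →* Ω} (hψ : ψ ∈ F.Hom (normalizerIn S Y))
    (hψe : ∀ x : Y, ψ (Subgroup.inclusion (le_normalizerIn he.le_left) x) = (e x : Ω))
    (h : Hull F D p Y₀) : Hull F D p Y := by
  refine ⟨fun s hs hsN hj => ?_, fun j hj hco => ?_⟩
  · have hsm : s ∈ normalizerIn S Y := ⟨hs, hsN⟩
    have h1 := jgen_congr he hj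
    rw [congr_conjAut_eq_of_extends (le_normalizerIn he.le_left) hψe hsm hsN] at h1
    obtain ⟨z, hz, hzC, hsz⟩ := h.1 _ (map_mem hψ _) _ h1
    set z' := e.symm ⟨z, hz⟩ with hz'
    refine ⟨z', z'.2, Subgroup.mem_centralizer_iff.2 fun y hy => ?_, ?_⟩
    · have h2 : (⟨y, hy⟩ : Y) * z' = z' * ⟨y, hy⟩ := by
        refine e.injective ?_
        rw [map_mul, map_mul, hz', MulEquiv.apply_symm_apply]
        exact Subtype.ext (Subgroup.mem_centralizer_iff.1 hzC _ (e _).2)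
      exact congrArg Subtype.val h2
    · refine (CfsgLib.FusionQuot.stronglyClosed_apply_iff hW hψ
        (⟨s, hsm⟩ * Subgroup.inclusion (le_normalizerIn he.le_left) z')).1 ?_
      rw [map_mul, hψe, hz', MulEquiv.apply_symm_apply]
      exact hsz
  · have h1 := tr_congr he.symm (h.2 _ (jgen_congr he hj) (by rwa [orderOf_congr]))
    rwa [congr_symm_congr] at h1

variable [Finite S] [Fact p.Prime]

/-- `b` carries `Aut_G(Y)` into itself. -/
def Carries (G Y : Subgroup Ω) (b : MulAut Y) : Prop :=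
  ∀ g ∈ G, ∀ hN : g ∈ Subgroup.normalizer (Y : Set Ω), b * conjAut Y g hN * b⁻¹ ∈ autInducedBy G Y

/-- Automorphisms carrying `Aut_G(Y)` into itself extend to `G`. -/
theorem exists_ext_of_act (hS : IsPGroup p S) (hF : F.IsSaturated p) (hc : F.IsCentric Y)
    (hYG : Y ≤ G) (hGN : G ≤ normalizerIn S Y) {b : MulAut Y} (hb : b ∈ F.autGroup Y)
    (hact : Carries G Y b) : ∃ b' ∈ F.autGroup G, Agree hYG b' b := by
  have hGS : G ≤ S := hGN.trans (normalizerIn_le S Y)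
  obtain ⟨ψ, hψ, hag, hval⟩ := exists_ext_aut hS hF hc hb hYG hGN fun g hg =>
    autInducedBy_mono hGS Y (hact g hg (hGN hg).2)
  have hmap : ∀ x : G, ψ x ∈ G := by
    rintro ⟨g, hg⟩
    obtain ⟨hN, hv⟩ := hval g hg
    obtain ⟨k, hkN, hk, hkeq⟩ := exists_eq_conjAut (hact g hg (hGN hg).2)
    rw [hkeq] at hv
    have h1 := inv_mul_mem_centralizerIn (U := S) le_rfl (hGS hk) (map_mem hψ _) hv.symm
    have h2 := G.mul_mem hk (hYG (centralizerIn_le_of_isCentric hc h1))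
    rwa [mul_inv_cancel_left] at h2
  obtain ⟨b', hb', hb'x⟩ := LayerCore.exists_aut_of_mapsTo hψ hmap
  exact ⟨b', hb', fun x => Subtype.ext ((hb'x _).trans (hag x))⟩

/-- An element whose conjugation carries `Aut_G(Y)` into itself normalizes `G`. -/
theorem mem_normalizer_of_carries (hc : F.IsCentric Y) (hYG : Y ≤ G) (hGN : G ≤ normalizerIn S Y)
    (h : ∀ s ∈ S, ∀ hs : s ∈ Subgroup.normalizer (Y : Set Ω), Carries G Y (conjAut Y s hs))
    {s : Ω} (hs : s ∈ normalizerIn S Y) : s ∈ Subgroup.normalizer (G : Set Ω) := by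
  have key : ∀ s ∈ normalizerIn S Y, ∀ g ∈ G, s * g * s⁻¹ ∈ G := by
    intro s hs g hg
    have h1 := h s hs.1 hs.2 g hg (hGN hg).2
    rw [conjAut_inv hs.2, conjAut_mul, conjAut_mul] at h1
    obtain ⟨k, hkN, hk, hkeq⟩ := exists_eq_conjAut h1
    have h2 := inv_mul_mem_centralizerIn (U := S) le_rfl (hGN hk).1
      (S.mul_mem (S.mul_mem hs.1 (hGN hg).1) (S.inv_mem hs.1)) hkeq.symm
    have h3 := G.mul_mem hk (hYG (centralizerIn_le_of_isCentric hc h2))
    rwa [mul_inv_cancel_left] at h3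
  refine Subgroup.mem_normalizer_iff.2 fun g => ⟨key s hs g, fun hg => ?_⟩
  have h1 := key s⁻¹ ((normalizerIn S Y).inv_mem hs) _ hg
  simpa [mul_assoc] using h1

/-- Extension of an automorphism along one element. -/
theorem exists_ext_zpowers (hS : IsPGroup p S) (hF : F.IsSaturated p) (hc : F.IsCentric Y)
    {β : MulAut Y} (hβ : β ∈ F.autGroup Y) {g : Ω} (hg : g ∈ S)
    (hgY : g ∈ Subgroup.normalizer (Y : Set Ω))
    (hmem : β * conjAut Y g hgY * β⁻¹ ∈ autInducedBy S Y) :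
    ∃ ψ ∈ F.Hom (Y ⊔ Subgroup.zpowers g),
      (∀ y : Y, ψ (Subgroup.inclusion le_sup_left y) = (β y : Ω)) ∧
      ∃ hN : ψ ⟨g, Subgroup.mem_sup_right (Subgroup.mem_zpowers g)⟩ ∈
          Subgroup.normalizer (Y : Set Ω),
        conjAut Y _ hN = β * conjAut Y g hgY * β⁻¹ := by
  have hYS := hc.1
  have hX : Y ⊔ Subgroup.zpowers g ≤ normalizerIn S Y :=
    sup_le (le_normalizerIn hYS) (Subgroup.zpowers_le.2 ⟨hg, hgY⟩)
  let K : Subgroup (Subgroup.normalizer (Y : Set Ω)) :=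
    (autInducedBy S Y).comap ((MulAut.conj β).toMonoidHom.comp Y.normalizerMonoidHom)
  have hK : Y ⊔ Subgroup.zpowers g ≤ K.map (Subgroup.normalizer (Y : Set Ω)).subtype := by
    refine sup_le (fun w hw => ⟨⟨w, Subgroup.le_normalizer hw⟩, ?_, rfl⟩)
      (Subgroup.zpowers_le.2 ⟨⟨g, hgY⟩, hmem, rfl⟩)
    show β * conjAut Y w _ * β⁻¹ ∈ autInducedBy S Y
    rw [conj_conjAut_self β ⟨w, hw⟩ _ (Subgroup.le_normalizer (β _).2)]
    exact conjAut_mem_autInducedBy (hYS (β _).2) _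
  obtain ⟨ψ, hψ, hag, hval⟩ := exists_ext_aut hS hF hc hβ le_sup_left hX fun k hk => by
    obtain ⟨k', hk', hkk⟩ := hK hk
    subst hkk
    exact hk'
  exact ⟨ψ, hψ, fun y => hag y, hval g _⟩

/-- A conjugate of an element of `Aut_W` lying in `Aut_S` lies in `Aut_W`. -/
theorem conj_mem_autInducedBy (hS : IsPGroup p S) (hF : F.IsSaturated p) (hW : F.StronglyClosed W)
    (hc : F.IsCentric Y) {γ : MulAut Y} (hγ : γ ∈ F.autGroup Y) {w : Ω} (hw : w ∈ W)
    (hwY : w ∈ Subgroup.normalizer (Y : Set Ω))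
    (hmem : γ * conjAut Y w hwY * γ⁻¹ ∈ autInducedBy S Y) :
    γ * conjAut Y w hwY * γ⁻¹ ∈ autInducedBy W Y := by
  obtain ⟨ψ, hψ, -, hN, hval⟩ := exists_ext_zpowers hS hF hc hγ (hW.1 hw) hwY hmem
  rw [← hval]
  exact conjAut_mem_autInducedBy (stronglyClosed_apply_mem hW hψ ⟨w, _⟩ hw) _

/-- The generators coming from `Aut_W` at a fully normalized subgroup. -/
theorem exists_conj_of_aGens (hS : IsPGroup p S) (hF : F.IsSaturated p) (hW : F.StronglyClosed W)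
    (hY : F.IsFullyNormalized Y) {a : MulAut Y} (ha : a ∈ aGens F W Y) :
    ∃ b ∈ F.autGroup Y, ∃ w ∈ W, ∃ hwN : w ∈ Subgroup.normalizer (Y : Set Ω),
      a = b * conjAut Y w hwN * b⁻¹ := by
  obtain ⟨Q, f, hf, t, ht, htN, heq⟩ := ha
  obtain ⟨e, he, ψ, hψ, hψN, hag⟩ := exists_normalizer_map hS hF hY (isConj_symm hf.isConj)
  have htm : t ∈ normalizerIn S Q := ⟨hW.1 ht, htN⟩
  have hb₀ : (f.trans e : MulAut Y) ∈ F.autGroup Y := (mem_autGroup_iff hY.1).2 (hf.trans he)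
  refine ⟨(f.trans e : MulAut Y)⁻¹, inv_mem hb₀, ψ ⟨t, htm⟩,
    stronglyClosed_apply_mem hW hψ ⟨t, htm⟩ ht, (hψN ⟨t, htm⟩).2, ?_⟩
  have h1 : conjAut Y (ψ ⟨t, htm⟩) (hψN ⟨t, htm⟩).2 = MulAut.congr (f.trans e) a := by
    rw [← congr_congr, heq]
    exact (congr_conjAut_eq_of_extends (le_normalizerIn hf.le_right) hag htm htN).symm
  rw [h1, congr_eq_conj]
  group

/-- `Hull` passes down from an overgroup to which the generators lift. -/
theorem hull_of_ext (hS : IsPGroup p S) (hF : F.IsSaturated p) (hD : D.IsNormalIn F p)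
    (hc : F.IsCentric Y) (hYG : Y ≤ G) (hGN : G ≤ normalizerIn S Y)
    (hnor : ∀ s ∈ S, ∀ hs : s ∈ Subgroup.normalizer (Y : Set Ω), Carries G Y (conjAut Y s hs))
    (hA : ∀ a ∈ aGens F W Y, ∃ b ∈ F.autGroup Y, Carries G Y b ∧ ∃ w ∈ W,
      ∃ hwN : w ∈ Subgroup.normalizer (Y : Set Ω), a = b * conjAut Y w hwN * b⁻¹)
    (hT : ∀ a, Tr F D p Y a → Carries G Y a)
    (hG : Hull F D p G) : Hull F D p Y := by
  have hW : F.StronglyClosed W := hD.1.2.2.2.1
  have hYS := hc.1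
  have hGS : G ≤ S := hGN.trans (normalizerIn_le S Y)
  have : Finite G := finite_of_le hGS
  have : Finite (MulAut G) := finite_mulAut
  have hnG : ∀ {s : Ω}, s ∈ normalizerIn S Y → s ∈ Subgroup.normalizer (G : Set Ω) := fun hs =>
    mem_normalizer_of_carries hc hYG hGN hnor hs
  -- lifts
  let L : Subgroup (MulAut Y) :=
    { carrier := {a | ∃ a' ∈ Jgen F D p G, Agree hYG a' a}
      one_mem' := ⟨1, one_mem _, fun _ => rfl⟩
      mul_mem' := by
        rintro a b ⟨a', ha', haa⟩ ⟨b', hb', hbb⟩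
        exact ⟨a' * b', mul_mem ha' hb', haa.mul hbb⟩
      inv_mem' := by
        rintro a ⟨a', ha', haa⟩
        exact ⟨a'⁻¹, inv_mem ha', haa.inv⟩ }
  have hlift : Jgen F D p Y ≤ L := by
    refine (Subgroup.closure_le _).2 fun a ha => ?_
    rcases ha with ha | ha
    · obtain ⟨b, hb, hbG, w, hw, hwN, rfl⟩ := hA a ha
      obtain ⟨b', hb', hbb⟩ := exists_ext_of_act hS hF hc hYG hGN hb hbG
      have hwG := hnG (s := w) ⟨hW.1 hw, hwN⟩
      refine ⟨b' * conjAut G w hwG * b'⁻¹,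
        jgen_conj hGS hb' (autInducedBy_le_jgen hGS (conjAut_mem_autInducedBy hw _)), ?_⟩
      exact (hbb.mul (agree_conjAut hYG hwG hwN)).mul hbb.inv
    · obtain ⟨ν, hν, hνco, hνa⟩ := exists_aut_sup hS hF hc ha.mem_autGroup ha.1 hYG hGN
        fun g hg => hT a ha g hg _
      exact ⟨ν, tr_mem_jgen (tr_up hS hF hD Y hc G hYG hGS ν hν hνco a hνa ha), hνa⟩
  refine ⟨fun s hs hsN hj => ?_, fun j hj hco => ?_⟩
  · obtain ⟨j, hjG, hag⟩ := hlift hj
    have hsG := hnG (s := s) ⟨hs, hsN⟩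
    have hjF := jgen_le_autGroup hW hjG
    have hag' : Agree hYG (j⁻¹ * conjAut G s hsG) 1 := by
      have := hag.inv.mul (agree_conjAut hYG hsG hsN)
      rwa [inv_mul_cancel] at this
    obtain ⟨z, hzY, hzC, hz⟩ := eq_conj_of_fix_centric hS hF hc ((mem_autGroup_iff_hom hGS).1
      (mul_mem (inv_mem hjF) (autInducedBy_le_autGroup F hGS (conjAut_mem_autInducedBy hs hsG))))
      hYG fun x hx => congrArg Subtype.val (hag' ⟨(x : Ω), hx⟩)
    have hzG : z ∈ Subgroup.normalizer (G : Set Ω) := Subgroup.le_normalizer (hYG hzY)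
    have h1 : j⁻¹ * conjAut G s hsG = conjAut G z hzG :=
      MulEquiv.ext fun x => Subtype.ext (hz x)
    have hj' : j = conjAut G (s * z⁻¹) (mul_mem hsG (inv_mem hzG)) := by
      rw [← conjAut_mul hsG (inv_mem hzG), ← conjAut_inv hzG, ← h1, mul_inv_rev, inv_inv,
        mul_inv_cancel_left]
    obtain ⟨z₂, hz₂G, hz₂C, hsz⟩ := hG.1 _ (S.mul_mem hs (S.inv_mem (hYS hzY))) _ (hj' ▸ hjG)
    have hz₂C' : z₂ ∈ Subgroup.centralizer (Y : Set Ω) :=
      Subgroup.centralizer_le (SetLike.coe_subset_coe.2 hYG) hz₂C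
    refine ⟨z⁻¹ * z₂, Y.mul_mem (Y.inv_mem hzY)
      (centralizerIn_le_of_isCentric hc ⟨hGS hz₂G, hz₂C'⟩),
      mul_mem (inv_mem hzC) hz₂C', ?_⟩
    rwa [← mul_assoc]
  · obtain ⟨j', hjG, hag⟩ := hlift hj
    obtain ⟨n, hn, hnag⟩ := exists_coprime_pow hYG hco j' hag
    exact tr_restrict hYG hnag (hG.2 _ (pow_mem hjG n) hn)

/-- The subgroup of automorphisms fixing the part in `W`. -/
def fixPart (F : Cfsg.FusionSystem S) (W Y : Subgroup Ω) : Subgroup (MulAut Y) where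
  carrier := {β | β ∈ F.autGroup Y ∧ ∀ x : Y, (x : Ω) ∈ W → β x = x}
  one_mem' := ⟨one_mem _, fun _ _ => rfl⟩
  mul_mem' := by
    rintro β β' ⟨hβ, hf⟩ ⟨hβ', hf'⟩
    exact ⟨mul_mem hβ hβ', fun x hx => by rw [MulAut.mul_apply, hf' x hx, hf x hx]⟩
  inv_mem' := by
    rintro β ⟨hβ, hf⟩
    exact ⟨inv_mem hβ, fun x hx => β.injective (by rw [MulAut.apply_inv_self, hf x hx])⟩

theorem conj_mem_fixPart (hW : F.StronglyClosed W) (hYS : Y ≤ S) {γ β : MulAut Y}
    (hγ : γ ∈ F.autGroup Y) (hβ : β ∈ fixPart F W Y) : γ * β * γ⁻¹ ∈ fixPart F W Y := by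
  refine ⟨mul_mem (mul_mem hγ hβ.1) (inv_mem hγ), fun x hx => ?_⟩
  obtain ⟨y, rfl⟩ := γ.surjective x
  rw [MulAut.mul_apply, MulAut.mul_apply, MulAut.inv_apply_self,
    hβ.2 y ((mem_iff_of_iso ((mem_autGroup_iff hYS).1 hγ) hW y).1 hx)]

theorem disp_conj (hW : F.StronglyClosed W) (hYS : Y ≤ S) {γ β : MulAut Y}
    (hγ : γ ∈ F.autGroup Y) (hβ : ∀ x : Y, (x : Ω)⁻¹ * ((β x : Y) : Ω) ∈ W) (x : Y) :
    (x : Ω)⁻¹ * (((γ * β * γ⁻¹) x : Y) : Ω) ∈ W := by
  obtain ⟨y, rfl⟩ := γ.surjective x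
  rw [MulAut.mul_apply, MulAut.mul_apply, MulAut.inv_apply_self, ← Subgroup.coe_inv,
    ← Subgroup.coe_mul, ← map_inv, ← map_mul]
  exact (mem_iff_of_iso ((mem_autGroup_iff hYS).1 hγ) hW _).2 (hβ y)

/-- The case of a good subgroup not containing the centralizer of its part in `W`. -/
theorem hull_centralizer (hS : IsPGroup p S) (hF : F.IsSaturated p) (hD : D.IsNormalIn F p)
    (hgood : IsGood F W Y) (hY : F.IsFullyNormalized Y) (hV : F.IsFullyNormalized (Y ⊓ W))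
    (hC : ¬ centralizerIn S (Y ⊓ W) ≤ Y)
    (hIH : ∀ G : Subgroup Ω, F.IsCentric G → Nat.card Y < Nat.card G → Hull F D p G) :
    Hull F D p Y := by
  have hinv := hD.1.2.2
  have hW : F.StronglyClosed W := hinv.2.1
  have hc := hgood.centric
  have hYS : Y ≤ S := hc.1
  have : Finite Y := finite_of_le hYS
  have : Finite (MulAut Y) := finite_mulAut
  set V := Y ⊓ W with hVdef
  set C := centralizerIn S V with hCdef
  have hVn : ∀ g ∈ normalizerIn S Y, g ∈ Subgroup.normalizer (V : Set Ω) :=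
    fun g hg => Subgroup.mem_normalizer_iff.2 fun x => by
      simp only [hVdef, Subgroup.mem_inf]
      exact and_congr (Subgroup.mem_normalizer_iff.1 hg.2 x)
        (Subgroup.mem_normalizer_iff.1 (stronglyClosed_le_normalizer hW hg.1) x)
  set C' := normalizerIn C Y with hC'
  set Y₂ := Y ⊔ C' with hY₂
  have hY₂N : Y₂ ≤ normalizerIn S Y :=
    sup_le (le_normalizerIn hYS) fun g hg => ⟨hg.1.1, hg.2⟩
  have hlt : Y < Y₂ := by
    refine lt_of_le_of_ne le_sup_left fun heq => hC fun x hx => ?_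
    by_contra hxY
    have hYC : Y ≤ Subgroup.normalizer (C : Set Ω) := fun y hy =>
      mem_normalizer_centralizerIn (hYS hy) (hVn y (le_normalizerIn hYS hy))
    have hAS : C ⊔ Y ≤ S := sup_le (centralizerIn_le S V) hYS
    have : Finite ↥(C ⊔ Y) := finite_of_le hAS
    obtain ⟨g, hgN, hgY⟩ := SetLike.exists_of_lt (lt_normalizerIn (hS.to_le hAS)
      (lt_of_le_of_ne le_sup_right fun h => hxY (h.ge (Subgroup.mem_sup_left hx))))
    have hgA : g ∈ ((C ⊔ Y : Subgroup Ω) : Set Ω) := hgN.1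
    rw [Subgroup.coe_mul_of_right_le_normalizer_left C Y hYC] at hgA
    obtain ⟨c, hc', y, hy, rfl⟩ := hgA
    have hcN : c ∈ Subgroup.normalizer (Y : Set Ω) := by
      have := Subgroup.mul_mem _ hgN.2 (Subgroup.inv_mem _ (Subgroup.le_normalizer hy))
      rwa [mul_inv_cancel_right] at this
    exact hgY (Y.mul_mem (heq.ge (Subgroup.mem_sup_right ⟨hc', hcN⟩)) hy)
  set T := fixPart F W Y ⊓ autInducedBy S Y with hT
  have hTC : ∀ τ ∈ T, ∃ g, ∃ hN : g ∈ Subgroup.normalizer (Y : Set Ω), g ∈ C' ∧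
      τ = conjAut Y g hN := by
    intro τ hτ
    obtain ⟨g, hN, hg, rfl⟩ := exists_eq_conjAut hτ.2
    refine ⟨g, hN, ⟨⟨hg, Subgroup.mem_centralizer_iff.2 fun y hy => ?_⟩, hN⟩, rfl⟩
    have h1 : g * y * g⁻¹ = y := congrArg Subtype.val (hτ.1.2 ⟨y, hy.1⟩ hy.2)
    calc y * g = g * y * g⁻¹ * g := by rw [h1]
      _ = g * y := by group
  have hCT : ∀ g ∈ C', ∀ hN : g ∈ Subgroup.normalizer (Y : Set Ω), conjAut Y g hN ∈ T := by
    intro g hg hN
    have hgS : g ∈ S := hg.1.1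
    refine ⟨⟨autInducedBy_le_autGroup F hYS (conjAut_mem_autInducedBy hgS hN), fun x hx =>
      Subtype.ext ?_⟩, conjAut_mem_autInducedBy hgS hN⟩
    show g * (x : Ω) * g⁻¹ = x
    rw [← Subgroup.mem_centralizer_iff.1 hg.1.2 x ⟨x.2, hx⟩, mul_inv_cancel_right]
  have hcar : ∀ b : MulAut Y, (∀ τ ∈ T, b * τ * b⁻¹ ∈ T) → Carries Y₂ Y b := fun b hb g hg _ =>
    act_of_sup (hY₂N.trans inf_le_right) (fun y hy => by
        rw [conj_conjAut_self b ⟨y, hy⟩ _ (Subgroup.le_normalizer (b _).2)]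
        exact conjAut_mem_autInducedBy (Subgroup.mem_sup_left (b _).2) _)
      (fun c hc₂ => by
        obtain ⟨g', hN, hg', he⟩ := hTC _ (hb _ (hCT c hc₂ hc₂.2))
        rw [he]
        exact conjAut_mem_autInducedBy (Subgroup.mem_sup_right hg') _) g hg
  refine hull_of_ext hS hF hD hc le_sup_left hY₂N (fun s hs hsN => hcar _ fun τ hτ => ?_)
    (fun a ha => ?_) (fun a ha => hcar _ fun τ hτ => ?_)
    (hIH Y₂ (isCentric_mono hc le_sup_left (hY₂N.trans (normalizerIn_le S Y)))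
      (card_lt_card' (hY₂N.trans (normalizerIn_le S Y)) hlt))
  · have hsA : conjAut Y s hsN ∈ autInducedBy S Y := conjAut_mem_autInducedBy hs hsN
    exact ⟨conj_mem_fixPart hW hYS (autInducedBy_le_autGroup F hYS hsA) hτ.1,
      mul_mem (mul_mem hsA hτ.2) ((autInducedBy S Y).inv_mem hsA)⟩
  · obtain ⟨γ, hγ, w, hw, hwN, rfl⟩ := exists_conj_of_aGens hS hF hW hY ha
    have hK : ∀ U : Subgroup (MulAut Y), IsPGroup p U → U ≤ fixPart F W Y →
        Nat.card U ≤ Nat.card T := by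
      intro U hU hUK
      obtain ⟨m, hm, hmS⟩ := IsSylowIn.exists_conj_le
        (isFullyAutomized_of_isFullyNormalized hS hF hY).2 hU (hUK.trans fun β hβ => hβ.1)
      exact Nat.card_le_card_of_injective (fun u : U => (⟨m * u * m⁻¹,
        conj_mem_fixPart hW hYS hm (hUK u.2), hmS u u.2⟩ : T)) fun u v huv =>
          Subtype.ext (mul_left_cancel (mul_right_cancel (Subtype.ext_iff.1 huv)))
    have hTp : IsPGroup p T := (isPGroup_autInducedBy hS Y).to_le inf_le_right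
    have hsyl : IsSylowIn p T (fixPart F W Y) := isSylowIn_of_card_le hTp inf_le_left hK
    set T' := T.map (MulAut.conj γ⁻¹).toMonoidHom with hT'
    obtain ⟨m, hm, hmT⟩ := hsyl.exists_conj_le (U := T') (hTp.map _) (by
      rintro _ ⟨τ, hτ, rfl⟩
      exact conj_mem_fixPart hW hYS (inv_mem hγ) hτ.1)
    have hn' : T.map (MulAut.conj (m * γ⁻¹)).toMonoidHom ≤ T := by
      rintro _ ⟨τ, hτ, rfl⟩
      have := hmT _ ⟨τ, hτ, rfl⟩
      show m * γ⁻¹ * τ * (m * γ⁻¹)⁻¹ ∈ T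
      rwa [show m * γ⁻¹ * τ * (m * γ⁻¹)⁻¹ = m * (γ⁻¹ * τ * γ⁻¹⁻¹) * m⁻¹ by group]
    have hn'eq : T.map (MulAut.conj (m * γ⁻¹)).toMonoidHom = T :=
      Subgroup.eq_of_le_of_card_ge hn'
        (Subgroup.card_map_of_injective (MulAut.conj (m * γ⁻¹)).injective).ge
    have hmF : m ∈ F.autGroup Y := hm.1
    have hn : ∀ τ ∈ T, γ * m⁻¹ * τ * (γ * m⁻¹)⁻¹ ∈ T := by
      intro τ hτ
      obtain ⟨σ, hσ, rfl⟩ := hn'eq.ge hτ
      show γ * m⁻¹ * (m * γ⁻¹ * σ * (m * γ⁻¹)⁻¹) * (γ * m⁻¹)⁻¹ ∈ T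
      rwa [show γ * m⁻¹ * (m * γ⁻¹ * σ * (m * γ⁻¹)⁻¹) * (γ * m⁻¹)⁻¹ = σ by group]
    have hcw : conjAut Y w hwN ∈ autInducedBy S Y := conjAut_mem_autInducedBy (hW.1 hw) hwN
    have hcwF := autInducedBy_le_autGroup F hYS hcw
    have hcwd : ∀ x : Y, (x : Ω)⁻¹ * ((conjAut Y w hwN x : Y) : Ω) ∈ W := fun x => by
      show (x : Ω)⁻¹ * (w * x * w⁻¹) ∈ W
      rw [← mul_assoc, ← mul_assoc]
      exact W.mul_mem ((Subgroup.mem_normalizer_iff''.1
        (stronglyClosed_le_normalizer hW (hYS x.2)) w).1 hw) (W.inv_mem hw)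
    set k := m * conjAut Y w hwN * m⁻¹ with hk
    have hkd := disp_conj hW hYS hmF hcwd
    have hchain : (conjAut Y w hwN)⁻¹ * k ∈ chainSub F W Y := by
      refine mem_chainSub.2 ⟨mul_mem (inv_mem hcwF) (mul_mem (mul_mem hmF hcwF) (inv_mem hmF)),
        fun x => ?_, ?_⟩
      · have h1 := hcwd (((conjAut Y w hwN)⁻¹ * k) x)
        rw [MulAut.mul_apply, MulAut.apply_inv_self] at h1
        have h2 := W.mul_mem (hkd x) (W.inv_mem h1)
        rwa [mul_inv_rev, inv_inv, mul_assoc, mul_inv_cancel_left] at h2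
      · have h1 : (conjAut Y w hwN)⁻¹ * k ∈ fixPart F W Y := by
          rw [hk, ← mul_assoc, ← mul_assoc]
          refine mul_mem ?_ (inv_mem hm)
          have := conj_mem_fixPart hW hYS (inv_mem hcwF) hm
          rwa [inv_inv] at this
        exact h1.2
    have hkS : k ∈ autInducedBy S Y := by
      have h1 := mul_mem hcw (le_autInducedBy_of_normal hS hF hY (chainSub_isPGroup hS hYS)
        (fun β hβ => hβ.1) (fun δ hδ β hβ => conj_mem_chainSub hW hYS hδ hβ) hchain)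
      rwa [mul_inv_cancel_left] at h1
    obtain ⟨w', hw'N, hw', hkw⟩ :=
      exists_eq_conjAut (conj_mem_autInducedBy hS hF hW hc hmF hw hwN hkS)
    refine ⟨γ * m⁻¹, mul_mem hγ (inv_mem hmF), hcar _ hn, w', hw', hw'N, ?_⟩
    rw [← hkw]
    group
  · obtain ⟨g, hN, hg, rfl⟩ := hTC τ hτ
    obtain ⟨ν, hν, -, hνa, -⟩ := exists_base hS hF hD hgood hY hV (ha.mem_sideSub hinv) ha.1 le_rfl
      (le_normalizerIn hYS) (κ := a) fun _ => rfl
    obtain ⟨hN', he⟩ := conj_conjAut_of_agree (le_sup_left : Y ≤ Y ⊔ centralizerIn S V) hνa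
      (Subgroup.mem_sup_right hg.1) hN
    refine ⟨conj_mem_fixPart hW hYS ha.mem_autGroup hτ.1, ?_⟩
    rw [he]
    exact conjAut_mem_autInducedBy (sup_le hYS (centralizerIn_le S V) (ν _).2) _

/-- The case of a good subgroup containing the centralizer of its part in `W`. -/
theorem hull_big (hS : IsPGroup p S) (hF : F.IsSaturated p) (hD : D.IsNormalIn F p)
    (hgood : IsGood F W Y) (hY : F.IsFullyNormalized Y) (hV : F.IsFullyNormalized (Y ⊓ W))
    (hC : centralizerIn S (Y ⊓ W) ≤ Y) : Hull F D p Y := by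
  have hinv := hD.1.2.2
  have hW : F.StronglyClosed W := hinv.2.1
  have hc := hgood.centric
  have hYS : Y ≤ S := hc.1
  have : Finite Y := finite_of_le hYS
  have : Finite (MulAut Y) := finite_mulAut
  set J := Jgen F D p Y with hJdef
  have hJF : J ≤ F.autGroup Y := jgen_le_autGroup hW
  set V := Y ⊓ W with hVdef
  have hVn : ∀ g ∈ normalizerIn S Y, g ∈ Subgroup.normalizer (V : Set Ω) :=
    fun g hg => Subgroup.mem_normalizer_iff.2 fun x => by
      simp only [hVdef, Subgroup.mem_inf]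
      exact and_congr (Subgroup.mem_normalizer_iff.1 hg.2 x)
        (Subgroup.mem_normalizer_iff.1 (stronglyClosed_le_normalizer hW hg.1) x)
  have hWside : ∀ w (hw : w ∈ W) (hwN : w ∈ Subgroup.normalizer (Y : Set Ω)),
      conjAut Y w hwN ∈ sideSub F D Y := by
    intro w hw hwN
    refine Balance.mem_sideSub.2 ⟨autInducedBy_le_autGroup F hYS
      (conjAut_mem_autInducedBy (hW.1 hw) hwN), fun x => ?_, ?_⟩
    · show (x : Ω)⁻¹ * (w * x * w⁻¹) ∈ W
      rw [← mul_assoc, ← mul_assoc]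
      exact W.mul_mem ((Subgroup.mem_normalizer_iff''.1
        (stronglyClosed_le_normalizer hW (hYS x.2)) w).1 hw) (W.inv_mem hw)
    · have hwV := hVn w ⟨hW.1 hw, hwN⟩
      exact ⟨conjAut V w hwV, autInducedBy_le_autGroup D inf_le_right
        (conjAut_mem_autInducedBy hw hwV), agree_conjAut inf_le_left hwN hwV⟩
  have hJside : J ≤ sideSub F D Y := by
    refine (Subgroup.closure_le _).2 fun a ha => ?_
    rcases ha with ha | ha
    · obtain ⟨b, hb, w, hw, hwN, rfl⟩ := exists_conj_of_aGens hS hF hW hY ha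
      exact conj_mem_sideSub hinv hYS hb (hWside w hw hwN)
    · exact ha.mem_sideSub hinv
  refine ⟨fun s hs hsN hj => ?_, fun j hj hco => tr_of_good hgood (hJside hj) hco⟩
  -- transfer
  set RQ := autInducedBy S Y with hRQ
  have hsylQ : IsSylowIn p RQ (F.autGroup Y) := (isFullyAutomized_of_isFullyNormalized hS hF hY).2
  have hRQp : IsPGroup p RQ := isPGroup_autInducedBy hS Y
  have hR : IsSylowIn p (RQ ⊓ J) J := isSylowIn_of_card_le (hRQp.to_le inf_le_left) inf_le_right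
    fun U hU hUJ => by
      obtain ⟨m, hm, hmR⟩ := hsylQ.exists_conj_le hU (hUJ.trans hJF)
      exact Nat.card_le_card_of_injective (fun v : U =>
        (⟨m * v * m⁻¹, hmR v v.2, jgen_conj hYS hm (hUJ v.2)⟩ : (RQ ⊓ J : Subgroup _)))
        fun a b hab => Subtype.ext (mul_left_cancel (mul_right_cancel (Subtype.ext_iff.1 hab)))
  obtain ⟨R₀, hR₀⟩ := hR
  set RT := autInducedBy W Y with hRT
  have hRTQ : RT ≤ RQ := autInducedBy_mono hW.1 Y
  have hRTJ : RT ≤ J := autInducedBy_le_jgen hYS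
  set Pg : Subgroup J := ((R₀ : Sylow p J) : Subgroup J) with hPgdef
  have hPg : ∀ y : J, y ∈ Pg ↔ (y : MulAut Y) ∈ RQ := fun y => by
    show y ∈ Pg ↔ _
    rw [hR₀, Subgroup.mem_subgroupOf]
    exact ⟨fun hy => hy.1, fun hy => ⟨hy, y.2⟩⟩
  have hnormal : ∀ y ∈ RQ, ∀ c ∈ RT, y * c * y⁻¹ ∈ RT := by
    intro y hy c hc'
    obtain ⟨g, hgN, hg, rfl⟩ := exists_eq_conjAut hy
    obtain ⟨t, htN, ht, rfl⟩ := exists_eq_conjAut hc'
    rw [conjAut_inv, conjAut_mul, conjAut_mul]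
    exact conjAut_mem_autInducedBy (conj_mem_of_stronglyClosed hW hg ht) _
  set Tn : Subgroup Pg := (RT.subgroupOf J).subgroupOf Pg
  have hTnn : Tn.Normal := ⟨fun n hn y => hnormal _ ((hPg _).1 y.2) _ hn⟩
  have hfoc : Pg.focalSubgroupOf ≤ Tn := by
    intro z hz
    have hz' : (z : J) ∈ Pg.focalSubgroup := hz
    suffices Pg.focalSubgroup ≤ RT.subgroupOf J from this hz'
    rw [Subgroup.focalSubgroup_def, Subgroup.closure_le]
    rintro w ⟨hw, x, hx, u, rfl⟩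
    show ((⁅x, u⁆ : J) : MulAut Y) ∈ RT
    have hxQ := (hPg x).1 hx
    have huxQ : (u : MulAut Y) * x * (u : MulAut Y)⁻¹ ∈ RQ := by
      have h1 := RQ.inv_mem (RQ.mul_mem (RQ.inv_mem hxQ) ((hPg _).1 hw))
      simpa [commutatorElement_def, mul_assoc] using h1
    obtain ⟨x₀, hx₀N, hx₀, hxs⟩ := exists_eq_conjAut hxQ
    obtain ⟨ψ, hψ, hag, hN, hval⟩ :=
      exists_ext_zpowers hS hF hc (hJF u.2) hx₀ hx₀N (hxs ▸ huxQ)
    obtain ⟨-, -, γ, hγ, hxγ⟩ := Balance.mem_sideSub.1 (hJside x.2)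
    have hx₀V := hVn x₀ ⟨hx₀, hx₀N⟩
    obtain ⟨w₀, hw₀N, hw₀, hγw⟩ := exists_eq_conjAut (mem_autInducedBy_of_normal hS hF hD
      inf_le_right hV hγ (by
        rw [hxs] at hxγ
        rw [Agree.unique hxγ (agree_conjAut inf_le_left hx₀N hx₀V)]
        exact conjAut_mem_autInducedBy hx₀ hx₀V))
    rw [hxs] at hxγ
    have hcy : w₀⁻¹ * x₀ ∈ Y := hC (inv_mul_mem_centralizerIn (U := S) le_rfl (hW.1 hw₀) hx₀
      (hγw.symm.trans (Agree.unique hxγ (agree_conjAut inf_le_left hx₀N hx₀V))))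
    set c := w₀⁻¹ * x₀ with hcdef
    have hx₀X : x₀ ∈ Y ⊔ Subgroup.zpowers x₀ :=
      Subgroup.mem_sup_right (Subgroup.mem_zpowers x₀)
    have hcX : c ∈ Y ⊔ Subgroup.zpowers x₀ := Subgroup.mem_sup_left hcy
    have hw₀X : w₀ ∈ Y ⊔ Subgroup.zpowers x₀ := by
      have := mul_mem hx₀X (inv_mem hcX)
      rwa [show x₀ * c⁻¹ = w₀ by rw [hcdef]; group] at this
    set r := ψ ⟨x₀, hx₀X⟩ with hrdef
    have hψw : ψ ⟨w₀, hw₀X⟩ ∈ W := stronglyClosed_apply_mem hW hψ ⟨w₀, hw₀X⟩ hw₀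
    have hψc : ψ ⟨c, hcX⟩ = (((u : MulAut Y) ⟨c, hcy⟩ : Y) : Ω) := hag ⟨c, hcy⟩
    have hr : r = ψ ⟨w₀, hw₀X⟩ * (((u : MulAut Y) ⟨c, hcy⟩ : Y) : Ω) := by
      rw [← hψc, ← map_mul, hrdef]
      exact congrArg ψ (Subtype.ext (by
        show x₀ = w₀ * c
        rw [hcdef, mul_inv_cancel_left]))
    have hd : c⁻¹ * (((u : MulAut Y) ⟨c, hcy⟩ : Y) : Ω) ∈ W :=
      (Balance.mem_sideSub.1 (hJside u.2)).2.1 ⟨c, hcy⟩
    have hmem : x₀ * r⁻¹ ∈ W := by
      have h2 : c * (c⁻¹ * (((u : MulAut Y) ⟨c, hcy⟩ : Y) : Ω))⁻¹ * c⁻¹ ∈ W :=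
        conj_mem_of_stronglyClosed hW (hYS hcy) (W.inv_mem hd)
      have h3 := W.mul_mem (W.mul_mem hw₀ h2) (W.inv_mem hψw)
      rw [hr]
      refine (congrArg (fun t => t * (ψ ⟨w₀, hw₀X⟩ * (((u : MulAut Y) ⟨c, hcy⟩ : Y) : Ω))⁻¹ ∈ W)
        (show x₀ = w₀ * c by rw [hcdef, mul_inv_cancel_left])).mpr ?_
      rwa [show w₀ * (c * (c⁻¹ * (((u : MulAut Y) ⟨c, hcy⟩ : Y) : Ω))⁻¹ * c⁻¹) *
        (ψ ⟨w₀, hw₀X⟩)⁻¹ =
          w₀ * c * (ψ ⟨w₀, hw₀X⟩ * (((u : MulAut Y) ⟨c, hcy⟩ : Y) : Ω))⁻¹ by group] at h3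
    have hcom : ((⁅x, u⁆ : J) : MulAut Y) = conjAut Y x₀ hx₀N * (conjAut Y r hN)⁻¹ := by
      rw [hval, ← hxs, commutatorElement_def]
      simp only [Subgroup.coe_mul, Subgroup.coe_inv]
      group
    rw [hcom, conjAut_inv, conjAut_mul]
    exact conjAut_mem_autInducedBy hmem _
  let τ : J →* Pg ⧸ Tn :=
    (QuotientGroup.lift Pg.focalSubgroupOf (QuotientGroup.mk' Tn)
      (by rwa [QuotientGroup.ker_mk'])).comp Pg.transferFocal
  have hτ : ∀ y : Pg, τ (y : J) = (QuotientGroup.mk' Tn y) ^ Pg.index := fun y => by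
    show QuotientGroup.lift Pg.focalSubgroupOf (QuotientGroup.mk' Tn)
      (by rwa [QuotientGroup.ker_mk']) (Pg.transferFocal y) = _
    rw [Pg.transferFocal_eq_pow, map_pow]
    rfl
  have hker : J ≤ τ.ker.map J.subtype := by
    refine (Subgroup.closure_le _).2 ?_
    rintro x hx
    have hxJ : x ∈ J := Subgroup.subset_closure hx
    refine ⟨⟨x, hxJ⟩, ?_, rfl⟩
    rcases hx with hxA | hxT
    · obtain ⟨γ, hγ, w, hw, hwN, rfl⟩ := exists_conj_of_aGens hS hF hW hY hxA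
      set y : J := ⟨γ * conjAut Y w hwN * γ⁻¹, hxJ⟩ with hy
      have hyp : IsPGroup p (Subgroup.zpowers (y : MulAut Y)) := by
        have h1 : IsPGroup p (Subgroup.zpowers (conjAut Y w hwN)) :=
          hRQp.to_le (Subgroup.zpowers_le.2 (conjAut_mem_autInducedBy (hW.1 hw) hwN))
        refine (h1.map (MulAut.conj γ).toMonoidHom).to_le ?_
        rw [Subgroup.zpowers_le]
        exact ⟨_, Subgroup.mem_zpowers _, rfl⟩
      obtain ⟨m, hm, hconj⟩ :=
        IsSylowIn.exists_conj_le ⟨R₀, hR₀⟩ hyp (Subgroup.zpowers_le.2 y.2)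
      have hQ1 := (hconj _ (Subgroup.mem_zpowers _)).1
      have hyPg : (⟨m, hm⟩ * y * ⟨m, hm⟩⁻¹ : J) ∈ Pg := (hPg _).2 hQ1
      have e : m * (γ * conjAut Y w hwN * γ⁻¹) * m⁻¹ =
          (m * γ) * conjAut Y w hwN * (m * γ)⁻¹ := by group
      have hyT : m * (γ * conjAut Y w hwN * γ⁻¹) * m⁻¹ ∈ RT := by
        rw [e]
        exact conj_mem_autInducedBy hS hF hW hc (mul_mem (hJF hm) hγ) hw hwN (e ▸ hQ1)
      have h1 : τ (⟨m, hm⟩ * y * ⟨m, hm⟩⁻¹) = 1 := by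
        refine (hτ ⟨_, hyPg⟩).trans ?_
        rw [show QuotientGroup.mk' Tn ⟨_, hyPg⟩ = 1 from (QuotientGroup.eq_one_iff _).2 hyT, one_pow]
      rw [map_mul, map_mul, map_inv, conj_eq_one_iff] at h1
      exact h1
    · refine CfsgLib.Transfer.pResidual_le_ker_of_isPGroup ((R₀.2).to_quotient Tn) τ
        (CfsgLib.Transfer.mem_pResidual_of_coprime ?_)
      rw [← Subgroup.orderOf_coe]
      exact hxT.1
  have hin : RQ ⊓ J ≤ RT := by
    intro x hx
    obtain ⟨y, hy, rfl⟩ := hker hx.2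
    have hyPg : y ∈ Pg := (hPg y).2 hx.1
    have h1 : (QuotientGroup.mk' Tn ⟨y, hyPg⟩) ^ Pg.index = 1 := (hτ ⟨y, hyPg⟩).symm.trans hy
    obtain ⟨k, hk⟩ := (R₀.2).to_quotient Tn (QuotientGroup.mk' Tn ⟨y, hyPg⟩)
    have hcop : Nat.Coprime Pg.index (p ^ k) :=
      (((Fact.out : p.Prime).coprime_iff_not_dvd.2 R₀.not_dvd_index).symm).pow_right k
    have h2 : orderOf (QuotientGroup.mk' Tn ⟨y, hyPg⟩) = 1 :=
      Nat.eq_one_of_dvd_coprimes hcop (orderOf_dvd_of_pow_eq_one h1) (orderOf_dvd_of_pow_eq_one hk)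
    exact (QuotientGroup.eq_one_iff (⟨y, hyPg⟩ : Pg)).1 (orderOf_eq_one_iff.1 h2)
  obtain ⟨w, hwN, hw, hweq⟩ := exists_eq_conjAut (hin ⟨conjAut_mem_autInducedBy hs hsN, hj⟩)
  have hz : s⁻¹ * w ∈ centralizerIn S Y :=
    inv_mul_mem_centralizerIn (U := S) le_rfl hs (hW.1 hw) hweq
  exact ⟨s⁻¹ * w, centralizerIn_le_of_isCentric hc hz, hz.2, by rwa [mul_inv_cancel_left]⟩

/-- The properties of `Jgen` at centric subgroups. -/
theorem hull_main (hS : IsPGroup p S) (hF : F.IsSaturated p) (hD : D.IsNormalIn F p) :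
    ∀ Y : Subgroup Ω, F.IsCentric Y → Hull F D p Y := by
  intro Y
  induction hn : Nat.card S - Nat.card Y using Nat.strong_induction_on generalizing Y with
  | _ n ih =>
  intro hc₀
  have hW : F.StronglyClosed W := hD.1.2.2.2.1
  obtain ⟨Y₁, e, he, hY, hV, ψ, hψ, -, hψe⟩ := exists_fullyNormalized_pair hS hF hW hc₀.1
  refine hull_of_map hW he hψ hψe ?_
  have hc : F.IsCentric Y₁ := isCentric_of_isConj hc₀ he.isConj
  have hIH : ∀ G : Subgroup Ω, F.IsCentric G → Nat.card Y₁ < Nat.card G → Hull F D p G := by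
    intro G hG hlt
    have : Nat.card G ≤ Nat.card S := Subgroup.card_le_of_le hG.1
    have : Nat.card Y = Nat.card Y₁ := Nat.card_congr e.toEquiv
    exact ih _ (by omega) G rfl hG
  by_cases hg : IsGood F W Y₁
  · by_cases hC : centralizerIn S (Y₁ ⊓ W) ≤ Y₁
    · exact hull_big hS hF hD hg hY hV hC
    · exact hull_centralizer hS hF hD hg hY hV hC hIH
  have hgN := grow_le (W := W) (F := F) hc.1
  have hgS := hgN.trans (normalizerIn_le S Y₁)
  have hcar : ∀ b ∈ F.autGroup Y₁, Carries (grow F W Y₁) Y₁ b := fun b hb g hg' _ =>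
    conj_mem_aut_grow hS hF hW hY hb hg'
  refine hull_of_ext hS hF hD hc le_grow hgN
    (fun s hs hsN => hcar _ (autInducedBy_le_autGroup F hc.1 (conjAut_mem_autInducedBy hs hsN)))
    (fun a ha => ?_) (fun a ha => hcar a ha.mem_autGroup)
    (hIH _ (isCentric_mono hc le_grow hgS) (card_lt_card' hgS (lt_grow hS hF hW hc hV hg)))
  obtain ⟨b, hb, w, hw, hwN, rfl⟩ := exists_conj_of_aGens hS hF hW hY ha
  exact ⟨b, hb, hcar b hb, w, hw, hwN, rfl⟩

end CfsgLib.Fusion.Balance
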