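import Cfsg.Agent.Lib.Fusion.Balance.Hull
import Cfsg.Agent.Lib.Fusion.Balance.Family
import Cfsg.Agent.Lib.Fusion.Comp.Main

/-!
# The trace of a normal subsystem on a local subsystem

For a normal subsystem `D` over `W` and the normalizer system `N` over `N_S(X)` of a fully normalized
`X`: a normal subsystem of `N` over `W ⊓ N_S(X)` with maps in `D` (`exists_local_normal`).
-/

set_option autoImplicit false
set_option linter.unusedSectionVars false
set_option linter.unusedVariables false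

namespace CfsgLib.Fusion.Balance

open Cfsg Cfsg.FusionSystem CfsgLib.Fusion CfsgLib.Fusion.SatCriterion
open CfsgLib.Fusion.Inter hiding Setup

variable {Ω : Type*} [Group Ω] {S W X : Subgroup Ω} {F : Cfsg.FusionSystem S}
variable {D : Cfsg.FusionSystem W} {N : Cfsg.FusionSystem (normalizerIn S X)} {p : ℕ}
variable {P Q R U Y Z : Subgroup Ω}

/-- The data. -/
structure Loc (F : Cfsg.FusionSystem S) (D : Cfsg.FusionSystem W)
    (N : Cfsg.FusionSystem (normalizerIn S X)) (p : ℕ) : Prop where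
  grp : IsPGroup p S
  sat : F.IsSaturated p
  nor : D.IsNormalIn F p
  fn : F.IsFullyNormalized X
  norm : F.IsNormalizerSystem X N

/-- `Q C(Q) X` in the local group. -/
abbrev upSub (S X Q : Subgroup Ω) : Subgroup Ω :=
  (Q ⊔ centralizerIn (normalizerIn S X) Q) ⊔ X

theorem left_le_upSub : Q ≤ upSub S X Q :=
  (le_sup_left : Q ≤ Q ⊔ centralizerIn (normalizerIn S X) Q).trans le_sup_left

namespace Loc

variable (h : Loc F D N p)
include h

theorem hW : F.StronglyClosed W := h.nor.1.2.2.2.1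

theorem le_loc : X ≤ normalizerIn S X := le_normalizerIn h.fn.1

theorem sub : N.IsSubsystemOf F := fun P φ hφ => by
  rw [h.norm P] at hφ
  exact hφ.1

theorem iso {f : Q ≃* R} (hf : IsFIso N f) : IsFIso F f := h.sub _ hf

theorem autGroup_le (hU : U ≤ normalizerIn S X) : N.autGroup U ≤ F.autGroup U := fun a ha =>
  (mem_autGroup_iff_hom (hU.trans (normalizerIn_le S X))).2
    (h.sub U ((mem_autGroup_iff_hom hU).1 ha))

theorem sc : N.StronglyClosed (W ⊓ normalizerIn S X) :=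
  ⟨inf_le_right, fun P hP φ hφ x =>
    ⟨h.hW.2 P (hP.trans inf_le_left) φ (h.sub P hφ) x, map_mem hφ x⟩⟩

variable [Finite S]

/-- A map of `F` inside `N_S(X)` preserving `X` is a map of `N`. -/
theorem mem_hom_of_map (hXP : X ≤ P) (hP : P ≤ normalizerIn S X) {θ : P →* Ω} (hθ : θ ∈ F.Hom P)
    (hθX : ∀ x : P, (x : Ω) ∈ X → θ x ∈ X) : θ ∈ N.Hom P := by
  obtain ⟨e, -, hex⟩ := LayerCore.exists_aut_of_mapsTo (restrict_mem hθ hXP)
    fun x => hθX _ x.2
  rw [h.norm P]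
  refine ⟨hθ, hP, fun x => ⟨map_mem hθ x, map_mem_normalizer_of_extends (e := (e : X ≃* X)) hXP
    (fun y => (hex y).symm) x.2 (hP x.2).2⟩, θ.comp (Subgroup.inclusion (sup_le le_rfl hXP)),
    restrict_mem hθ _, fun x => rfl, ?_⟩
  ext y
  rw [mem_map_subgroupOf]
  constructor
  · rintro ⟨x, hx, hxX, rfl⟩
    exact hθX _ hxX
  · intro hy
    obtain ⟨x, hx⟩ := e.surjective ⟨y, hy⟩
    exact ⟨x, Subgroup.mem_sup_right x.2, x.2, (hex x).symm.trans (congrArg Subtype.val hx)⟩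

/-- Maps of `N` extend over `X`. -/
theorem exists_ext {φ : P →* Ω} (hφ : φ ∈ N.Hom P) :
    ∃ ψ ∈ N.Hom (P ⊔ X), (∀ x : P, ψ (Subgroup.inclusion le_sup_left x) = φ x) ∧
      ∀ x : ↥(P ⊔ X), (x : Ω) ∈ X → ψ x ∈ X := by
  have hφ' := hφ
  rw [h.norm P] at hφ'
  obtain ⟨-, hPN, -, ψ, hψ, hag, hmap⟩ := hφ'
  have hX : ∀ x : ↥(P ⊔ X), (x : Ω) ∈ X → ψ x ∈ X := fun x hx =>
    mem_of_map_subgroupOf_sup_eq hmap ⟨(x : Ω), hx⟩
  exact ⟨ψ, h.mem_hom_of_map le_sup_right (sup_le hPN h.le_loc) hψ hX, hag, hX⟩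

theorem map_mem_X (hXP : X ≤ P) {φ : P →* Ω} (hφ : φ ∈ N.Hom P) (x : P) (hx : (x : Ω) ∈ X) :
    φ x ∈ X := by
  obtain ⟨ψ, -, hag, hψX⟩ := h.exists_ext hφ
  rw [← hag x]
  exact hψX _ hx

theorem aut_mem_X (hXP : X ≤ P) (hP : P ≤ normalizerIn S X) {a : MulAut P} (ha : a ∈ N.autGroup P)
    (x : P) (hx : (x : Ω) ∈ X) : ((a x : P) : Ω) ∈ X :=
  h.map_mem_X hXP ((mem_autGroup_iff_hom hP).1 ha) x hx

/-- Automorphisms of `N` extend over `X`. -/
theorem exists_ext_aut' (hU : U ≤ normalizerIn S X) {γ : MulAut U} (hγ : γ ∈ N.autGroup U) :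
    ∃ γ' ∈ N.autGroup (U ⊔ X), Agree le_sup_left γ' γ := by
  obtain ⟨ψ, hψ, hag, hψX⟩ := h.exists_ext ((mem_autGroup_iff_hom hU).1 hγ)
  have : Finite (normalizerIn S X) := finite_of_le (normalizerIn_le S X)
  obtain ⟨γ', hγ', hγ'x⟩ := LayerCore.exists_aut_of_mapsTo hψ (forall_mem_of_sup
    (fun x => Subgroup.mem_sup_left (by rw [hag]; exact (γ x).2))
    fun x => Subgroup.mem_sup_right (hψX _ x.2))
  exact ⟨γ', hγ', fun x => Subtype.ext ((hγ'x _).trans (hag x))⟩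

variable [Fact p.Prime]

theorem Ngrp : IsPGroup p (normalizerIn S X) := h.grp.to_le (normalizerIn_le S X)

theorem Nsat : N.IsSaturated p := isSaturated_normalizerSystem h.grp h.sat h.fn h.norm

theorem upSub_le (hQ : Q ≤ normalizerIn S X) : upSub S X Q ≤ normalizerIn S X :=
  sup_le (sup_centralizerIn_le hQ) h.le_loc

theorem upSub_leS (hQ : Q ≤ normalizerIn S X) : upSub S X Q ≤ S :=
  (h.upSub_le hQ).trans (normalizerIn_le S X)

/-- `Q C(Q) X` is centric in the whole system. -/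
theorem upSub_centric (hQ : N.IsFullyCentralized Q) : F.IsCentric (upSub S X Q) := by
  have : Finite (normalizerIn S X) := finite_of_le (normalizerIn_le S X)
  have hZS' := h.upSub_le hQ.1
  set U := Q ⊔ centralizerIn (normalizerIn S X) Q with hU
  have hUc : N.IsCentric U := isCentric_sup h.Ngrp h.Nsat hQ
  refine ⟨h.upSub_leS hQ.1, fun Z' hZ' => ?_⟩
  obtain ⟨φ, hφ, rfl⟩ := hZ'
  have hXZ : X ≤ upSub S X Q := le_sup_right
  set X' := (φ.comp (Subgroup.inclusion hXZ)).range with hX'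
  obtain ⟨f, hf, hfx⟩ := exists_iso (Q := X') (restrict_mem hφ hXZ) rfl
  obtain ⟨e, he, χ, hχ, hχN, hχe⟩ :=
    exists_normalizer_map h.grp h.sat h.fn (isConj_symm hf.isConj)
  have hmapN : ∀ z, φ z ∈ normalizerIn S X' := fun z => ⟨map_mem hφ z,
    map_mem_normalizer_of_extends (e := f) hXZ (fun x => (hfx x).symm) z.2 (hZS' z.2).2⟩
  obtain ⟨θ, hθ, hθx⟩ : ∃ θ ∈ F.Hom (upSub S X Q), ∀ z, θ z = χ ⟨φ z, hmapN z⟩ :=
    ⟨_, F.comp_mem hφ hχ hmapN, fun z => rfl⟩
  have hθX : ∀ z : ↥(upSub S X Q), (z : Ω) ∈ X → θ z ∈ X := fun z hz => by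
    rw [hθx]
    have h1 := hχe ⟨φ z, ⟨⟨(z : Ω), hz⟩, rfl⟩⟩
    exact (congrArg (· ∈ X) h1).mpr (e _).2
  have hθN := h.mem_hom_of_map hXZ hZS' hθ hθX
  have hC := hUc.2 _ (isConj_of_mem (restrict_mem hθN (le_sup_left : U ≤ upSub S X Q)))
  intro c hc
  have hX'le : X' ≤ φ.range := by
    rintro _ ⟨x, rfl⟩
    exact ⟨_, rfl⟩
  have hcm : c ∈ normalizerIn S X' :=
    ⟨hc.1, centralizer_le_normalizer X' (Subgroup.centralizer_le (SetLike.coe_subset_coe.2 hX'le) hc.2)⟩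
  obtain ⟨u, hu⟩ := hC ⟨hχN ⟨c, hcm⟩, Subgroup.mem_centralizer_iff.2 (by
    rintro _ ⟨u, rfl⟩
    show θ (Subgroup.inclusion le_sup_left u) * _ = _ * θ (Subgroup.inclusion le_sup_left u)
    rw [hθx, ← map_mul, ← map_mul]
    exact congrArg χ (Subtype.ext (Subgroup.mem_centralizer_iff.1 hc.2 _ ⟨_, rfl⟩)))⟩
  change θ (Subgroup.inclusion le_sup_left u) = χ ⟨c, hcm⟩ at hu
  rw [hθx] at hu
  exact ⟨_, Subtype.ext_iff.1 (hom_inj hχ hu)⟩

/-- Isomorphisms between fully centralized subgroups extend to the subgroups `upSub`. -/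
theorem exists_iso_up (hQ : N.IsFullyCentralized Q) (hR : N.IsFullyCentralized R) {f : Q ≃* R}
    (hf : IsFIso N f) : ∃ (g₀ : ↥(Q ⊔ centralizerIn (normalizerIn S X) Q) ≃*
        ↥(R ⊔ centralizerIn (normalizerIn S X) R)) (g : ↥(upSub S X Q) ≃* ↥(upSub S X R)),
      IsFIso N g₀ ∧ IsFIso N g ∧
      (∀ x : Q, (g₀ (Subgroup.inclusion le_sup_left x) : Ω) = f x) ∧
      (∀ w, (g₀ w : Ω) ∈ R ↔ (w : Ω) ∈ Q) ∧
      ∀ w, (g (Subgroup.inclusion le_sup_left w) : Ω) = g₀ w := by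
  have : Finite (normalizerIn S X) := finite_of_le (normalizerIn_le S X)
  obtain ⟨g₀, hg₀, hgQ, h₁, -, -⟩ := exists_iso_sup h.Ngrp h.Nsat hQ hR hf
  obtain ⟨ψ, hψ, hag, hψX⟩ := h.exists_ext hg₀
  have hrange : ψ.range = upSub S X R := by
    refine le_antisymm ?_ (sup_le (fun y hy => ?_) ?_)
    · rintro _ ⟨w, rfl⟩
      exact forall_mem_of_sup (φ := ψ) (fun x => Subgroup.mem_sup_left (by
        rw [hag]; exact (g₀ x).2)) (fun x => Subgroup.mem_sup_right (hψX _ x.2)) w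
    · exact ⟨_, (hag (g₀.symm ⟨y, hy⟩)).trans (congrArg Subtype.val (g₀.apply_symm_apply ⟨y, hy⟩))⟩
    · have hle : (ψ.comp (Subgroup.inclusion (le_sup_right : X ≤ upSub S X Q))).range = X := by
        have : Finite X := finite_of_le h.fn.1
        exact range_eq_of_le (hom_inj (restrict_mem hψ le_sup_right)) fun x => hψX _ x.2
      intro y hy
      obtain ⟨x, hx⟩ := hle.ge hy
      exact ⟨_, hx⟩
  obtain ⟨g, hg, hgx⟩ := exists_iso hψ hrange
  exact ⟨g₀, g, hg₀, hg, hgQ, h₁, fun w => (hgx _).trans (hag w)⟩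

/-- The elements of `Aut(Q C(Q))` lifting into `Jgen`. -/
def lev (_h : Loc F D N p) (Q : Subgroup Ω) : Subgroup (MulAut ↥(Q ⊔ centralizerIn (normalizerIn S X) Q)) where
  carrier := {γ | γ ∈ pairStab N (Q ⊔ centralizerIn (normalizerIn S X) Q) Q ∧
    ∃ j ∈ Jgen F D p (upSub S X Q), j ∈ N.autGroup (upSub S X Q) ∧ Agree le_sup_left j γ}
  one_mem' := ⟨one_mem _, 1, one_mem _, one_mem _, fun _ => rfl⟩
  mul_mem' := by
    rintro γ γ' ⟨hγ, j, hj, hjN, hag⟩ ⟨hγ', j', hj', hjN', hag'⟩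
    exact ⟨mul_mem hγ hγ', j * j', mul_mem hj hj', mul_mem hjN hjN', hag.mul hag'⟩
  inv_mem' := by
    rintro γ ⟨hγ, j, hj, hjN, hag⟩
    exact ⟨inv_mem hγ, j⁻¹, inv_mem hj, inv_mem hjN, hag.inv⟩

theorem lev_le (Q : Subgroup Ω) :
    h.lev Q ≤ pairStab N (Q ⊔ centralizerIn (normalizerIn S X) Q) Q := fun _ hγ => hγ.1

theorem lev_congr (hQ : N.IsFullyCentralized Q) (hR : N.IsFullyCentralized R) {f : Q ≃* R}
    (hf : IsFIso N f) {γ : MulAut ↥(Q ⊔ centralizerIn (normalizerIn S X) Q)} (hγ : γ ∈ h.lev Q)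
    {a : MulAut Q} (ha : Agree le_sup_left γ a) :
    ∃ γ' ∈ h.lev R, Agree le_sup_left γ' (MulAut.congr f a) := by
  obtain ⟨g₀, g, hg₀, hg, hgQ, h₁, hgg⟩ := h.exists_iso_up hQ hR hf
  obtain ⟨⟨hγN, hγst⟩, j, hj, hjN, hag⟩ := hγ
  refine ⟨MulAut.congr g₀ γ, ⟨⟨hg₀.congr_mem hγN, fun y => ?_⟩, MulAut.congr g j,
    jgen_congr (h.iso hg) hj, hg.congr_mem hjN, agree_congr hag g₀ g le_sup_left hgg⟩,
    agree_congr ha f g₀ le_sup_left hgQ⟩
  obtain ⟨x, rfl⟩ := g₀.surjective y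
  rw [congr_apply, MulEquiv.symm_apply_apply, h₁, h₁]
  exact hγst x

theorem lev_conj (hQ : Q ≤ normalizerIn S X) {γ δ : MulAut ↥(Q ⊔ centralizerIn (normalizerIn S X) Q)}
    (hγ : γ ∈ pairStab N (Q ⊔ centralizerIn (normalizerIn S X) Q) Q) (hδ : δ ∈ h.lev Q) :
    γ * δ * γ⁻¹ ∈ h.lev Q := by
  obtain ⟨hδN, j, hj, hjN, hag⟩ := hδ
  obtain ⟨γ', hγ', hγγ⟩ := h.exists_ext_aut' (sup_centralizerIn_le hQ) hγ.1
  exact ⟨mul_mem (mul_mem hγ hδN) ((pairStab N _ Q).inv_mem hγ), γ' * j * γ'⁻¹,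
    jgen_conj (h.upSub_leS hQ) (h.autGroup_le (h.upSub_le hQ) hγ') hj,
    mul_mem (mul_mem hγ' hjN) (inv_mem hγ'), (hγγ.mul hag).mul hγγ.inv⟩

theorem conjAut_mem_lev (hQ : Q ≤ normalizerIn S X) {t : Ω} (ht : t ∈ W ⊓ normalizerIn S X)
    (htN : t ∈ Subgroup.normalizer (Q : Set Ω))
    (htW : t ∈ Subgroup.normalizer
      ((Q ⊔ centralizerIn (normalizerIn S X) Q : Subgroup Ω) : Set Ω)) :
    conjAut _ t htW ∈ h.lev Q := by
  have htZ : t ∈ Subgroup.normalizer ((upSub S X Q : Subgroup Ω) : Set Ω) :=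
    normalizer_sup_of_mem htW ht.2.2
  exact ⟨⟨autInducedBy_le_autGroup N (sup_centralizerIn_le hQ) (conjAut_mem_autInducedBy ht.2 htW),
    conjAut_mem_setStab htW htN⟩, conjAut _ t htZ,
    autInducedBy_le_jgen (h.upSub_leS hQ) (conjAut_mem_autInducedBy ht.1 htZ),
    autInducedBy_le_autGroup N (h.upSub_le hQ) (conjAut_mem_autInducedBy ht.2 htZ),
    agree_conjAut le_sup_left htZ htW⟩

/-- Coprime elements of `lev` lift to `Tr` automorphisms. -/
theorem exists_tr_lift (hQ : N.IsFullyCentralized Q)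
    {γ : MulAut ↥(Q ⊔ centralizerIn (normalizerIn S X) Q)} (hγ : γ ∈ h.lev Q)
    (hco : (orderOf γ).Coprime p) :
    ∃ j ∈ N.autGroup (upSub S X Q), (orderOf j).Coprime p ∧ Tr F D p (upSub S X Q) j ∧
      Agree le_sup_left j γ := by
  obtain ⟨-, j, hj, hjN, hag⟩ := hγ
  have : Finite ↥(upSub S X Q) := finite_of_le (h.upSub_leS hQ.1)
  obtain ⟨n, hn, hnag⟩ := exists_coprime_pow le_sup_left hco j hag
  exact ⟨j ^ n, pow_mem hjN n, hn,
    (hull_main h.grp h.sat h.nor _ (h.upSub_centric hQ)).2 _ (pow_mem hj n) hn, hnag⟩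

/-- An element of `lev` fixing a `W`-centric fully centralized subgroup is inner by its
centralizer. -/
theorem exists_conjAut_of_fix (hP : N.IsFullyCentralized P)
    (hTC : IsTC N (W ⊓ normalizerIn S X) P)
    {β : MulAut ↥(P ⊔ centralizerIn (normalizerIn S X) P)} (hβ : β ∈ cenFix N P)
    (hβs : β ∈ h.lev P) :
    β ∈ autInducedBy (centralizerIn (normalizerIn S X) P)
      (P ⊔ centralizerIn (normalizerIn S X) P) := by
  have : Finite (normalizerIn S X) := finite_of_le (normalizerIn_le S X)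
  have hUS := sup_centralizerIn_le hP.1
  have : Finite ↥(P ⊔ centralizerIn (normalizerIn S X) P) := finite_of_le hUS
  have : Finite (MulAut ↥(P ⊔ centralizerIn (normalizerIn S X) P)) := finite_mulAut
  refine exists_eq_conjAut_of_normal h.Ngrp h.Nsat hP (V := cenFix N P ⊓ h.lev P) ?_
    inf_le_left (fun γ hγ v hv => ⟨mul_mem (mul_mem hγ hv.1) ((cenFix N P).inv_mem hγ),
      h.lev_conj hP.1 ⟨hγ.1, cenFix_setStab hγ⟩ hv.2⟩) ⟨hβ, hβs⟩
  refine Stability.isPGroup_of_coprime_eq_one fun v hv => Subtype.ext ?_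
  rw [← Subgroup.orderOf_coe] at hv
  obtain ⟨j, -, -, hjT, hjv⟩ := h.exists_tr_lift hP v.2.2 hv
  refine aut_eq_one_of_sup v.2.1.2 fun c => ?_
  refine Stability.eq_self_of_disp_fixed (h.Ngrp.to_le hUS) _ hv ?_
  have hd : (c : Ω)⁻¹ * (((v : MulAut ↥(P ⊔ centralizerIn (normalizerIn S X) P))
      (Subgroup.inclusion le_sup_right c) : ↥(P ⊔ centralizerIn (normalizerIn S X) P)) : Ω) ∈ W := by
    have h1 := hjT.disp h.hW (Subgroup.inclusion le_sup_left (Subgroup.inclusion le_sup_right c))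
    rwa [hjv] at h1
  have hdC : (((Subgroup.inclusion le_sup_right c)⁻¹ *
      (v : MulAut _) (Subgroup.inclusion le_sup_right c) :
      ↥(P ⊔ centralizerIn (normalizerIn S X) P)) : Ω) ∈ centralizerIn (normalizerIn S X) P :=
    mul_mem (inv_mem c.2) ((setStab_cen hP.1 (cenFix_setStab v.2.1) _).2 c.2)
  have hdP := hTC.self inf_le_right ⟨⟨hd, hdC.1⟩, hdC.2⟩
  exact v.2.1.2 ⟨_, hdP⟩

/-- The generators of the automizer. -/
def gamGens (_h : Loc F D N p) (Q : Subgroup Ω) : Set (MulAut Q) :=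
  aGens N (W ⊓ normalizerIn S X) Q ∪
    {a | ∃ (Q₀ : Subgroup Ω) (_ : N.IsFullyCentralized Q₀) (f : Q ≃* Q₀), IsFIso N f ∧
      ∃ β ∈ N.autGroup (upSub S X Q₀), (orderOf β).Coprime p ∧ Tr F D p (upSub S X Q₀) β ∧
        Agree left_le_upSub β (MulAut.congr f a)}

/-- The automizer at `Q`. -/
def gam (_h : Loc F D N p) (Q : Subgroup Ω) : Subgroup (MulAut Q) := Subgroup.closure (_h.gamGens Q)

theorem gam_congr {g : Q ≃* R} (hg : IsFIso N g) {a : MulAut Q} (ha : a ∈ h.gam Q) :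
    MulAut.congr g a ∈ h.gam R := by
  have hle : h.gam Q ≤ (h.gam R).comap (MulAut.congr g).toMonoidHom := by
    refine (Subgroup.closure_le _).2 fun a ha => Subgroup.subset_closure ?_
    rcases ha with ha | ⟨Q₀, hQ₀, f, hf, β, hβ, hco, hT, hag⟩
    · exact Or.inl (aGens_congr hg ha)
    · refine Or.inr ⟨Q₀, hQ₀, g.symm.trans f, hg.symm.trans hf, β, hβ, hco, hT, ?_⟩
      show Agree left_le_upSub β (MulAut.congr (g.symm.trans f) (MulAut.congr g a))
      rwa [← congr_congr, congr_symm_congr]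
  exact hle ha

theorem gam_le_autGroup : h.gam Q ≤ N.autGroup Q := by
  refine (Subgroup.closure_le _).2 fun a ha => ?_
  rcases ha with ha | ⟨Q₀, hQ₀, f, hf, β, hβ, -, -, hag⟩
  · exact aGens_le_autGroup inf_le_right ha
  · refine hf.congr_mem_iff.1 ((mem_autGroup_iff_hom hQ₀.1).2 (mem_of_restrict
      ((mem_autGroup_iff_hom (h.upSub_le hQ₀.1)).1 hβ) left_le_upSub _ fun x => ?_))
    exact (congrArg Subtype.val (hag x)).symm

theorem gam_conj {b a : MulAut Q} (hQ : Q ≤ normalizerIn S X) (hb : b ∈ N.autGroup Q)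
    (ha : a ∈ h.gam Q) : b * a * b⁻¹ ∈ h.gam Q := by
  rw [← congr_eq_conj]
  exact h.gam_congr ((mem_autGroup_iff hQ).1 hb) ha

theorem autInducedBy_le_gam (hQ : Q ≤ normalizerIn S X) :
    autInducedBy (W ⊓ normalizerIn S X) Q ≤ h.gam Q := fun _ ha =>
  Subgroup.subset_closure (Or.inl (autInducedBy_subset_aGens hQ ha))

/-- The elements of the automizer lift into `lev`. -/
theorem exists_lev_of_gam (hQ : N.IsFullyCentralized Q) {a : MulAut Q} (ha : a ∈ h.gam Q) :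
    ∃ γ ∈ h.lev Q, Agree le_sup_left γ a := by
  have : Finite (normalizerIn S X) := finite_of_le (normalizerIn_le S X)
  let L : Subgroup (MulAut Q) :=
    { carrier := {a | ∃ γ ∈ h.lev Q, Agree le_sup_left γ a}
      one_mem' := ⟨1, one_mem _, fun _ => rfl⟩
      mul_mem' := by
        rintro a b ⟨γ, hγ, hγa⟩ ⟨δ, hδ, hδb⟩
        exact ⟨γ * δ, mul_mem hγ hδ, hγa.mul hδb⟩
      inv_mem' := by
        rintro a ⟨γ, hγ, hγa⟩
        exact ⟨γ⁻¹, inv_mem hγ, hγa.inv⟩ }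
  suffices hle : h.gam Q ≤ L from hle ha
  refine (Subgroup.closure_le _).2 fun a ha => ?_
  rcases ha with ⟨Q', f, hf, t, ht, htN, heq⟩ | ⟨Q₀, hQ₀, f, hf, β, hβ, hco, hT, hag⟩
  · obtain ⟨P, hc, hP⟩ := exists_isFullyNormalized N hf.le_right
    obtain ⟨e, he, φ, hφ, hφN, hφe⟩ := exists_normalizer_map h.Ngrp h.Nsat hP hc
    have htm : t ∈ normalizerIn (normalizerIn S X) Q' := ⟨ht.2, htN⟩
    have h1 : MulAut.congr (f.trans e) a = conjAut P (φ ⟨t, htm⟩) (hφN ⟨t, htm⟩).2 := by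
      rw [← congr_congr, heq]
      exact congr_conjAut_eq_of_extends (le_normalizerIn hf.le_right) hφe htm htN
    have hPfc := isFullyCentralized_of_isFullyNormalized h.Ngrp h.Nsat hP
    have htW := normalizer_sup_centralizerIn (hφN ⟨t, htm⟩).1 (hφN ⟨t, htm⟩).2
    obtain ⟨γ', hγ', hγa⟩ := h.lev_congr hPfc hQ (hf.trans he).symm
      (h.conjAut_mem_lev hP.1 (stronglyClosed_apply_mem h.sc hφ ⟨t, htm⟩ ht) (hφN ⟨t, htm⟩).2 htW)
      (a := conjAut P (φ ⟨t, htm⟩) (hφN ⟨t, htm⟩).2) (agree_conjAut le_sup_left htW _)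
    rw [← h1, congr_symm_congr] at hγa
    exact ⟨γ', hγ', hγa⟩
  · have hZ := h.upSub_le hQ₀.1
    obtain ⟨γ, hγ, hβγ⟩ := exists_res (F := N)
      (le_sup_left : Q₀ ⊔ centralizerIn (normalizerIn S X) Q₀ ≤ upSub S X Q₀) hZ hβ
      (forall_mem_of_sup (φ := ((upSub S X Q₀).subtype.comp β.toMonoidHom).comp
        (Subgroup.inclusion le_sup_left))
        (fun y => Subgroup.mem_sup_left
          ((setStab_of_agree left_le_upSub hag _).2 y.2))
        fun c => Subgroup.mem_sup_right (cen_mem hZ left_le_upSub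
          (setStab_of_agree left_le_upSub hag) c.2))
    have hγa : Agree (le_sup_left : Q₀ ≤ Q₀ ⊔ centralizerIn (normalizerIn S X) Q₀) γ
        (MulAut.congr f a) := agree_of_agree hβγ hag
    obtain ⟨γ', hγ', hγa'⟩ := h.lev_congr hQ₀ hQ hf.symm
      (γ := γ) ⟨⟨hγ, setStab_of_agree le_sup_left hγa⟩, β, tr_mem_jgen hT, hβ, hβγ⟩ hγa
    rw [congr_symm_congr] at hγa'
    exact ⟨γ', hγ', hγa'⟩

theorem exists_coprime_lev (hQ : N.IsFullyCentralized Q) {a : MulAut Q} (ha : a ∈ h.gam Q)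
    (hco : (orderOf a).Coprime p) : ∃ γ ∈ h.lev Q, (orderOf γ).Coprime p ∧
      Agree le_sup_left γ a := by
  obtain ⟨γ, hγ, hγa⟩ := h.exists_lev_of_gam hQ ha
  have : Finite ↥(Q ⊔ centralizerIn (normalizerIn S X) Q) :=
    finite_of_le ((sup_centralizerIn_le hQ.1).trans (normalizerIn_le S X))
  obtain ⟨n, hn, hna⟩ := exists_coprime_pow le_sup_left hco γ hγa
  exact ⟨γ ^ n, pow_mem hγ n, hn, hna⟩

/-- A coprime automorphism of a common overgroup compatible at `R` gives an element of `gam Y`. -/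
theorem mem_gam_of_common (hY : N.IsFullyCentralized Y) (hR : N.IsFullyCentralized R)
    (hU : U ≤ normalizerIn S X) (hWY : Y ⊔ centralizerIn (normalizerIn S X) Y ≤ U)
    (hWR : R ⊔ centralizerIn (normalizerIn S X) R ≤ U) {κ : MulAut U} (hκ : κ ∈ N.autGroup U)
    (hco : (orderOf κ).Coprime p) {a : MulAut Y} (ha : Agree (le_sup_left.trans hWY) κ a)
    {β : MulAut ↥(R ⊔ centralizerIn (normalizerIn S X) R)} (hβ : β ∈ h.lev R)
    (hag : Agree hWR κ β) : a ∈ h.gam Y := by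
  have : Finite (normalizerIn S X) := finite_of_le (normalizerIn_le S X)
  obtain ⟨j, hjN, hjco, hjT, hjβ⟩ := h.exists_tr_lift hR hβ (coprime_of_agree hWR hag hco)
  obtain ⟨κ₁, hκ₁, hκ₁κ⟩ := h.exists_ext_aut' hU hκ
  have hUX : U ⊔ X ≤ normalizerIn S X := sup_le hU h.le_loc
  have : Finite ↥(U ⊔ X) := finite_of_le hUX
  obtain ⟨n, hn, hnκ⟩ := exists_coprime_pow le_sup_left hco κ₁ hκ₁κ
  set κ' := κ₁ ^ n
  have hκ' : κ' ∈ N.autGroup (U ⊔ X) := pow_mem hκ₁ n
  have hnκ' : Agree le_sup_left κ' κ := hnκ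
  have hmX : ∀ x : X, ((κ' (Subgroup.inclusion le_sup_right x) : ↥(U ⊔ X)) : Ω) ∈ X := fun x =>
    h.aut_mem_X le_sup_right hUX hκ' _ x.2
  have hZR : upSub S X R ≤ U ⊔ X := sup_le_sup_right hWR X
  obtain ⟨μ, hμ, hκμ⟩ := exists_res (F := N) hZR hUX hκ'
    (forall_mem_of_sup (φ := ((U ⊔ X).subtype.comp κ'.toMonoidHom).comp (Subgroup.inclusion hZR))
      (fun u => by
        show ((κ' (Subgroup.inclusion le_sup_left (Subgroup.inclusion hWR u)) : _) : Ω) ∈ _
        rw [hnκ', hag]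
        exact Subgroup.mem_sup_left (β u).2)
      fun x => Subgroup.mem_sup_right (hmX x))
  have hμβ : Agree le_sup_left μ β := agree_of_agree hκμ fun u => by
    show κ' (Subgroup.inclusion le_sup_left (Subgroup.inclusion hWR u)) = _
    rw [hnκ', hag]
    rfl
  obtain ⟨z, hz, -, -, hzμ⟩ := exists_conj_of_agree h.Ngrp h.Nsat (isCentric_sup h.Ngrp h.Nsat hR)
    le_sup_left (h.upSub_le hR.1) hjN hμ hjco (coprime_of_agree hZR hκμ hn) hjβ hμβ
  have hμT : Tr F D p (upSub S X R) μ := by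
    rw [hzμ, ← congr_eq_conj]
    exact tr_congr ((mem_autGroup_iff (h.upSub_leS hR.1)).1 (autInducedBy_le_autGroup F
      (h.upSub_leS hR.1) (conjAut_mem_autInducedBy (h.upSub_leS hR.1 hz) _))) hjT
  have hκ'T : Tr F D p (U ⊔ X) κ' := tr_up h.grp h.sat h.nor _ (h.upSub_centric hR) (U ⊔ X) hZR
    (hUX.trans (normalizerIn_le S X)) κ' (h.autGroup_le hUX hκ') hn μ hκμ hμT
  have hZY : upSub S X Y ≤ U ⊔ X := sup_le_sup_right hWY X
  have hκ'a : Agree (left_le_upSub.trans hZY) κ' a := fun y => by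
    show κ' (Subgroup.inclusion le_sup_left (Subgroup.inclusion (le_sup_left.trans hWY) y)) = _
    rw [hnκ', ha]
    rfl
  obtain ⟨ν, hν, hκν⟩ := exists_res (F := N) hZY hUX hκ'
    (forall_mem_of_sup (φ := ((U ⊔ X).subtype.comp κ'.toMonoidHom).comp (Subgroup.inclusion hZY))
      (forall_mem_of_sup (φ := (((U ⊔ X).subtype.comp κ'.toMonoidHom).comp
          (Subgroup.inclusion hZY)).comp (Subgroup.inclusion le_sup_left))
        (fun y => Subgroup.mem_sup_left (Subgroup.mem_sup_left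
          ((setStab_of_agree _ hκ'a _).2 y.2)))
        fun c => Subgroup.mem_sup_left (Subgroup.mem_sup_right
          (cen_mem hUX (left_le_upSub.trans hZY) (setStab_of_agree _ hκ'a) c.2)))
      fun x => Subgroup.mem_sup_right (hmX x))
  exact Subgroup.subset_closure (Or.inr ⟨Y, hY, MulEquiv.refl Y, IsFIso.refl hY.1, ν, hν,
    coprime_of_agree hZY hκν hn, tr_restrict hZY hκν hκ'T,
    by rw [congr_refl]; exact agree_of_agree hκν hκ'a⟩)

/-- Extension of coprime elements normalizing `Aut_Y(P)`. -/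
theorem up_coprime (hP : N.IsFullyCentralized P) (hTC : IsTC N (W ⊓ normalizerIn S X) P)
    (hPY : P ≤ Y) (hY : Y ≤ normalizerIn (W ⊓ normalizerIn S X) P) {a : MulAut P}
    (ha : a ∈ h.gam P) (hco : (orderOf a).Coprime p)
    (hn : ∀ x (hx : x ∈ Y), a * conjAut P x (hY hx).2 * a⁻¹ ∈ autInducedBy Y P) :
    ∃ b ∈ h.gam Y, Agree hPY b a := by
  have : Finite (normalizerIn S X) := finite_of_le (normalizerIn_le S X)
  have hYT : Y ≤ W ⊓ normalizerIn S X := hY.trans (normalizerIn_le _ _)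
  have hYS : Y ≤ normalizerIn S X := hYT.trans inf_le_right
  set V := P ⊔ centralizerIn (normalizerIn S X) P with hV
  obtain ⟨β, hβ, hβco, hβx⟩ := h.exists_coprime_lev hP ha hco
  have hVc : N.IsCentric V := isCentric_sup h.Ngrp h.Nsat hP
  have hCN : centralizerIn (normalizerIn S X) P ≤ Subgroup.normalizer (Y : Set Ω) :=
    cen_le_normalizer h.sc hTC hPY hY
  set U := Y ⊔ centralizerIn (normalizerIn S X) P with hU
  have hVU : V ≤ U := sup_le_sup_right hPY _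
  have hUN : U ≤ normalizerIn (normalizerIn S X) V :=
    sup_le (fun x hx => ⟨hYS hx, normalizer_sup_centralizerIn (hYS hx) (hY hx).2⟩)
      fun c hc => ⟨hc.1, Subgroup.le_normalizer (Subgroup.mem_sup_right hc)⟩
  have hUS : U ≤ normalizerIn S X := hUN.trans (normalizerIn_le _ V)
  have hUT : ∀ g ∈ U, g ∈ W ⊓ normalizerIn S X → g ∈ Y := by
    intro g hg hgT
    rw [← SetLike.mem_coe, hU, Subgroup.coe_mul_of_right_le_normalizer_left Y _ hCN] at hg
    obtain ⟨x, hx, c, hc, rfl⟩ := hg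
    refine Y.mul_mem hx (hPY (hTC.self inf_le_right ⟨?_, hc.2⟩))
    have h1 := (W ⊓ normalizerIn S X).mul_mem ((W ⊓ normalizerIn S X).inv_mem (hYT hx)) hgT
    rwa [inv_mul_cancel_left] at h1
  obtain ⟨κ, hκ, hκco, hκV⟩ := exists_aut_sup h.Ngrp h.Nsat hVc hβ.1.1 hβco hVU hUN
    (act_of_sup (hUN.trans inf_le_right) (fun x hx => by
      have hxV := (hUN (Subgroup.mem_sup_left hx)).2
      obtain ⟨x', hx'N, hx', hx'eq⟩ := exists_eq_conjAut (hn x hx)
      have hx'V := normalizer_sup_centralizerIn (hYS hx') hx'N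
      set δ := (conjAut V x' hx'V)⁻¹ * (β * conjAut V x hxV * β⁻¹) with hδ
      have hδs : δ ∈ h.lev P := mul_mem
        ((h.lev P).inv_mem (h.conjAut_mem_lev hP.1 (hYT hx') hx'N hx'V))
        (mul_mem (mul_mem hβ (h.conjAut_mem_lev hP.1 (hYT hx) (hY hx).2 hxV))
          ((h.lev P).inv_mem hβ))
      have hδa : Agree (le_sup_left : P ≤ V) δ
          ((conjAut P x' hx'N)⁻¹ * (a * conjAut P x (hY hx).2 * a⁻¹)) :=
        (agree_conjAut _ hx'V hx'N).inv.mul
          ((hβx.mul (agree_conjAut _ hxV (hY hx).2)).mul hβx.inv)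
      rw [← hx'eq, inv_mul_cancel] at hδa
      obtain ⟨c, hcN, hc, hceq⟩ := exists_eq_conjAut
        (h.exists_conjAut_of_fix hP hTC ⟨(h.lev_le P hδs).1, hδa⟩ hδs)
      show β * conjAut V x hxV * β⁻¹ ∈ autInducedBy U V
      rw [show β * conjAut V x hxV * β⁻¹ = conjAut V x' hx'V * δ by rw [hδ, mul_inv_cancel_left],
        hceq, conjAut_mul]
      exact conjAut_mem_autInducedBy
        (U.mul_mem (Subgroup.mem_sup_left hx') (Subgroup.mem_sup_right hc)) _)
      fun c hc => by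
        rw [conj_conjAut_self β ⟨c, Subgroup.mem_sup_right hc⟩ _ (Subgroup.le_normalizer (β _).2)]
        exact conjAut_mem_autInducedBy (hVU (β _).2) _)
  have hYU : Y ≤ U := le_sup_left
  obtain ⟨b, hb, hbx⟩ := exists_res (F := N) hYU hUS hκ fun x =>
    hUT _ (κ (Subgroup.inclusion hYU x)).2 (Stability.aut_mem h.sc hUS hκ (hYT x.2))
  refine ⟨b, h.mem_gam_of_common
    (isFullyCentralized_of_between h.Ngrp h.Nsat h.sc hP hTC hPY hY) hP hUS
    (sup_le le_sup_left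
      ((inf_le_inf_left _ (Subgroup.centralizer_le hPY)).trans le_sup_right))
    hVU hκ hκco hbx hβ hκV, fun y => Subgroup.inclusion_injective hYU ?_⟩
  rw [← hbx]
  exact (hκV (Subgroup.inclusion le_sup_left y)).trans (congrArg (Subgroup.inclusion hVU) (hβx y))

/-- Restriction of coprime elements of `gam Y` stabilizing `P`. -/
theorem down_coprime (hP : N.IsFullyCentralized P) (hTC : IsTC N (W ⊓ normalizerIn S X) P)
    (hPY : P ≤ Y) (hY : Y ≤ normalizerIn (W ⊓ normalizerIn S X) P)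
    (hsyl : IsSylowIn p (pairAut (W ⊓ normalizerIn S X) Y P) (h.gam Y ⊓ setStab Y P))
    {b : MulAut Y} (hb : b ∈ h.gam Y) (hbst : b ∈ setStab Y P) (hco : (orderOf b).Coprime p) :
    resHom hPY ⟨b, hbst⟩ ∈ h.gam P := by
  have : Finite (normalizerIn S X) := finite_of_le (normalizerIn_le S X)
  have hYT : Y ≤ W ⊓ normalizerIn S X := hY.trans (normalizerIn_le _ _)
  have hYS : Y ≤ normalizerIn S X := hYT.trans inf_le_right
  have : Finite Y := finite_of_le hYS
  have : Finite (MulAut Y) := finite_mulAut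
  have hYc : N.IsFullyCentralized Y :=
    isFullyCentralized_of_between h.Ngrp h.Nsat h.sc hP hTC hPY hY
  set V := Y ⊔ centralizerIn (normalizerIn S X) Y with hV
  obtain ⟨β, hβ, hβco, hβx⟩ := h.exists_coprime_lev hYc hb hco
  set a := resHom hPY ⟨b, hbst⟩ with hadef
  have hba : Agree hPY b a := fun y => Subtype.ext rfl
  have hVc : N.IsCentric V := isCentric_sup h.Ngrp h.Nsat hYc
  have hCN : centralizerIn (normalizerIn S X) P ≤ Subgroup.normalizer (Y : Set Ω) :=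
    cen_le_normalizer h.sc hTC hPY hY
  have hCY : centralizerIn (normalizerIn S X) Y ≤ centralizerIn (normalizerIn S X) P :=
    inf_le_inf_left _ (Subgroup.centralizer_le hPY)
  set U := Y ⊔ centralizerIn (normalizerIn S X) P with hU
  have hVU : V ≤ U := sup_le le_sup_left (hCY.trans le_sup_right)
  have hUN : U ≤ normalizerIn (normalizerIn S X) V :=
    sup_le (fun x hx => ⟨hYS hx,
      normalizer_sup_centralizerIn (hYS hx) (Subgroup.le_normalizer hx)⟩)
      fun c hc => ⟨hc.1, normalizer_sup_centralizerIn hc.1 (hCN hc)⟩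
  have hUS : U ≤ normalizerIn S X := hUN.trans (normalizerIn_le _ V)
  set K : Subgroup (MulAut Y) :=
    { carrier := {γ | γ ∈ h.gam Y ⊓ setStab Y P ∧
        ∀ y : P, γ (Subgroup.inclusion hPY y) = Subgroup.inclusion hPY y}
      one_mem' := ⟨one_mem _, fun _ => rfl⟩
      mul_mem' := by
        rintro γ γ' ⟨h1, h2⟩ ⟨h3, h4⟩
        exact ⟨mul_mem h1 h3, fun y => by rw [MulAut.mul_apply, h4, h2]⟩
      inv_mem' := by
        rintro γ ⟨h1, h2⟩
        exact ⟨inv_mem h1, fun y => γ.injective (by rw [MulAut.apply_inv_self, h2])⟩ } with hK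
  have hKp : IsPGroup p K := Stability.isPGroup_of_coprime_eq_one fun γ hγ => by
    rw [← Subgroup.orderOf_coe] at hγ
    refine Subtype.ext (MulEquiv.ext fun x => ?_)
    refine Stability.eq_self_of_disp_fixed (h.Ngrp.to_le hYS) _ hγ ?_
    have hd : ((x⁻¹ * (γ : MulAut Y) x : Y) : Ω) ∈ centralizerIn (W ⊓ normalizerIn S X) P := by
      refine ⟨hYT (x⁻¹ * (γ : MulAut Y) x).2, Subgroup.mem_centralizer_iff.2 fun y hy => ?_⟩
      have hyx : (x : Ω) * y * (x : Ω)⁻¹ ∈ P := conj_mem_of_mem_normalizer (hY x.2).2 hy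
      have h1 := γ.2.2 ⟨_, hyx⟩
      rw [show Subgroup.inclusion hPY (⟨_, hyx⟩ : P) = x * Subgroup.inclusion hPY ⟨y, hy⟩ * x⁻¹ from
        Subtype.ext rfl, map_mul, map_mul, map_inv, γ.2.2 ⟨y, hy⟩] at h1
      have h2 : ((γ : MulAut Y) x : Ω) * y * ((γ : MulAut Y) x : Ω)⁻¹ = (x : Ω) * y * (x : Ω)⁻¹ :=
        congrArg Subtype.val h1
      show y * ((x : Ω)⁻¹ * ((γ : MulAut Y) x : Ω)) = (x : Ω)⁻¹ * ((γ : MulAut Y) x : Ω) * y
      calc y * ((x : Ω)⁻¹ * ((γ : MulAut Y) x : Ω))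
          = (x : Ω)⁻¹ * ((x : Ω) * y * (x : Ω)⁻¹) * ((γ : MulAut Y) x : Ω) := by group
        _ = _ := by rw [← h2]; group
    exact γ.2.2 ⟨_, hTC.self inf_le_right hd⟩
  have hKinn : ∀ γ ∈ K, ∃ z, ∃ hz : z ∈ Subgroup.normalizer (Y : Set Ω),
      z ∈ P ∧ γ = conjAut Y z hz := by
    intro γ hγ
    obtain ⟨m, hm, hmU⟩ := hsyl.exists_conj_le hKp fun _ h' => h'.1
    have hmem : m⁻¹ * γ * m ∈ K := by
      refine ⟨mul_mem (mul_mem ((h.gam Y ⊓ setStab Y P).inv_mem hm) hγ.1) hm, fun y => ?_⟩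
      set r := resHom hPY ⟨m, hm.2⟩
      have hmy : m (Subgroup.inclusion hPY y) = Subgroup.inclusion hPY (r y) := Subtype.ext rfl
      rw [MulAut.mul_apply, MulAut.mul_apply, hmy, hγ.2, ← hmy, MulAut.inv_apply_self]
    have h1 := hmU _ hmem
    rw [show m * (m⁻¹ * γ * m) * m⁻¹ = γ by group] at h1
    obtain ⟨t, htY, htT, rfl⟩ := exists_eq_conjAut h1.1
    refine ⟨t, htY, hTC.self inf_le_right ⟨htT, Subgroup.mem_centralizer_iff.2 fun y hy => ?_⟩, rfl⟩
    have h2 : t * y * t⁻¹ = y := congrArg Subtype.val (hγ.2 ⟨y, hy⟩)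
    calc y * t = t * y * t⁻¹ * t := by rw [h2]
      _ = t * y := by group
  have hactC : ∀ u (hu : u ∈ centralizerIn (normalizerIn S X) P),
      β * conjAut V u (hUN (Subgroup.mem_sup_right hu)).2 * β⁻¹ ∈ autInducedBy U V := by
    intro u hu
    have huY : u ∈ Subgroup.normalizer (Y : Set Ω) := hCN hu
    have huV := (hUN (Subgroup.mem_sup_right hu)).2
    have huS := hu.1
    set e := conjAut V u huV with he
    have heG : e ∈ pairStab N V Y := ⟨autInducedBy_le_autGroup N (sup_centralizerIn_le hYS)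
      (conjAut_mem_autInducedBy huS huV), conjAut_mem_setStab huV huY⟩
    set δ := β * (e * β⁻¹ * e⁻¹) with hδ
    have hδs : δ ∈ h.lev Y :=
      mul_mem hβ (h.lev_conj hYS heG ((h.lev Y).inv_mem hβ))
    set cu := conjAut Y u huY with hcu
    set d := b * (cu * b⁻¹ * cu⁻¹) with hd
    have hδd : Agree (le_sup_left : Y ≤ V) δ d :=
      hβx.mul (((agree_conjAut _ huV huY).mul hβx.inv).mul (agree_conjAut _ huV huY).inv)
    have huP : ∀ y : P, cu (Subgroup.inclusion hPY y) = Subgroup.inclusion hPY y := fun y =>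
      Subtype.ext (by
        show u * (y : Ω) * u⁻¹ = y
        rw [← Subgroup.mem_centralizer_iff.1 hu.2 y y.2, mul_inv_cancel_right])
    have huP' : ∀ y : P, cu⁻¹ (Subgroup.inclusion hPY y) = Subgroup.inclusion hPY y := fun y =>
      cu.injective (by rw [MulAut.apply_inv_self, huP])
    have hcust : cu ∈ setStab Y P := conjAut_mem_setStab huY (centralizer_le_normalizer P hu.2)
    have hdK : d ∈ K := by
      refine ⟨⟨mul_mem hb (h.gam_conj hYS (autInducedBy_le_autGroup N hYS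
        (conjAut_mem_autInducedBy huS huY)) ((h.gam Y).inv_mem hb)),
        mul_mem hbst (mul_mem (mul_mem hcust ((setStab Y P).inv_mem hbst))
          ((setStab Y P).inv_mem hcust))⟩, fun y => ?_⟩
      rw [hd, MulAut.mul_apply, MulAut.mul_apply, MulAut.mul_apply, huP', hba.inv, huP, hba,
        MulAut.apply_inv_self]
    obtain ⟨z, hzY, hzP, hdz⟩ := hKinn d hdK
    have hzV : z ∈ V := Subgroup.mem_sup_left (hPY hzP)
    set ε := δ * (conjAut V z (Subgroup.le_normalizer hzV))⁻¹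
    have hεs : ε ∈ h.lev Y := mul_mem hδs ((h.lev Y).inv_mem
      (h.conjAut_mem_lev hYS (hTC.1 hzP) hzY _))
    have hεd : Agree (le_sup_left : Y ≤ V) ε (d * (conjAut Y z hzY)⁻¹) :=
      hδd.mul (agree_conjAut _ _ hzY).inv
    rw [hdz, mul_inv_cancel] at hεd
    obtain ⟨c, hcN, hc, hceq⟩ := exists_eq_conjAut
      (h.exists_conjAut_of_fix hYc (hTC.mono hPY hYT) ⟨(h.lev_le Y hεs).1, hεd⟩ hεs)
    rw [show β * conjAut V u (hUN (Subgroup.mem_sup_right hu)).2 * β⁻¹ =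
        ε * conjAut V z (Subgroup.le_normalizer hzV) * e by
      show β * e * β⁻¹ = _
      rw [inv_mul_cancel_right, hδ]
      group, hceq, conjAut_mul, conjAut_mul]
    exact conjAut_mem_autInducedBy (U.mul_mem (U.mul_mem (hVU (Subgroup.mem_sup_right hc))
      (hVU hzV)) (Subgroup.mem_sup_right hu)) _
  obtain ⟨κ, hκ, hκco, hκV⟩ := exists_aut_sup h.Ngrp h.Nsat hVc hβ.1.1 hβco hVU hUN
    (act_of_sup (hUN.trans inf_le_right) (fun x hx => by
      rw [conj_conjAut_self β ⟨x, Subgroup.mem_sup_left hx⟩ _ (Subgroup.le_normalizer (β _).2)]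
      exact conjAut_mem_autInducedBy (hVU (β _).2) _) hactC)
  refine h.mem_gam_of_common hP hYc hUS (sup_le_sup_right hPY _) hVU hκ hκco (fun y => ?_) hβ hκV
  exact ((hκV (Subgroup.inclusion le_sup_left (Subgroup.inclusion hPY y))).trans
    (congrArg (Subgroup.inclusion hVU) ((hβx _).trans (congrArg _ (hba y)))) :)

/-- Restriction from `gam Y` to `gam P`. -/
theorem down_fc (hP : N.IsFullyCentralized P) (hTC : IsTC N (W ⊓ normalizerIn S X) P)
    (hPY : P ≤ Y) (hY : Y ≤ normalizerIn (W ⊓ normalizerIn S X) P)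
    (hsyl : IsSylowIn p (pairAut (W ⊓ normalizerIn S X) Y P) (h.gam Y ⊓ setStab Y P))
    {b : MulAut Y} (hb : b ∈ h.gam Y ⊓ setStab Y P) :
    resHom hPY ⟨b, hb.2⟩ ∈ h.gam P := by
  have hYS : Y ≤ normalizerIn S X := (hY.trans (normalizerIn_le _ _)).trans inf_le_right
  have : Finite Y := finite_of_le (hYS.trans (normalizerIn_le S X))
  have : Finite (MulAut Y) := finite_mulAut
  set M := (h.gam P).comap ((resHom hPY).comp
    (Subgroup.inclusion (inf_le_right : h.gam Y ⊓ setStab Y P ≤ setStab Y P))) with hM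
  obtain ⟨Sy, hSy⟩ := hsyl
  suffices hMt : M = ⊤ by
    exact (hMt.symm ▸ Subgroup.mem_top _ : (⟨b, hb⟩ : ↥(h.gam Y ⊓ setStab Y P)) ∈ M)
  refine LayerCore.eq_top_of_sylow_of_coprime M Sy (fun c hc => ?_) fun c hc => ?_
  · rw [hSy] at hc
    obtain ⟨t, ht, htx⟩ := mem_autInducedBy_iff.1
      (show (c : MulAut Y) ∈ autInducedBy (W ⊓ normalizerIn S X) Y from hc.1)
    exact h.autInducedBy_le_gam (hPY.trans hYS)
      (mem_autInducedBy_iff.2 ⟨t, ht, fun y => htx (Subgroup.inclusion hPY y)⟩)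
  · exact h.down_coprime hP hTC hPY hY ⟨Sy, hSy⟩ c.2.1 c.2.2 (by rwa [Subgroup.orderOf_coe])

/-- The automorphisms of `P` induced by `S` and lying in `gam P` come from `W`. -/
theorem gam_sylow (hP : N.IsFullyNormalized P) (hPT : P ≤ W ⊓ normalizerIn S X) :
    IsSylowIn p (autInducedBy (W ⊓ normalizerIn S X) P) (h.gam P) := by
  have : Finite (normalizerIn S X) := finite_of_le (normalizerIn_le S X)
  have hfc := isFullyCentralized_of_isFullyNormalized h.Ngrp h.Nsat hP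
  have hPS := hP.1
  set V := P ⊔ centralizerIn (normalizerIn S X) P with hV
  have hVS : V ≤ normalizerIn S X := sup_centralizerIn_le hPS
  have hVc : N.IsCentric V := isCentric_sup h.Ngrp h.Nsat hfc
  have hZS := h.upSub_le hPS
  have : Finite P := finite_of_le hPS
  have : Finite (MulAut P) := finite_mulAut
  have : Finite V := finite_of_le hVS
  have : Finite (MulAut V) := finite_mulAut
  set J := h.lev P
  have hJG : J ≤ pairStab N V P := h.lev_le P
  set RQ := pairAut (normalizerIn S X) V P with hRQ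
  have hsylQ : IsSylowIn p RQ (pairStab N V P) := pairAut_sylow h.Ngrp h.Nsat hP
  have hRQp : IsPGroup p RQ := (isPGroup_autInducedBy h.Ngrp V).to_le inf_le_left
  have hR : IsSylowIn p (RQ ⊓ J) J := isSylowIn_of_card_le (hRQp.to_le inf_le_left) inf_le_right
    fun U hU hUJ => by
      obtain ⟨m, hm, hmR⟩ := hsylQ.exists_conj_le hU (hUJ.trans hJG)
      exact Nat.card_le_card_of_injective (fun v : U =>
        (⟨m * v * m⁻¹, hmR v v.2, h.lev_conj hPS hm (hUJ v.2)⟩ : (RQ ⊓ J : Subgroup _)))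
        fun a b hab => Subtype.ext (mul_left_cancel (mul_right_cancel (Subtype.ext_iff.1 hab)))
  obtain ⟨RS, hRS⟩ := hR
  set f : J →* MulAut P := (pairRes le_sup_left).comp (Subgroup.inclusion hJG)
  have hrange : h.gam P ≤ f.range := by
    intro a ha
    obtain ⟨γ, hγ, hγa⟩ := h.exists_lev_of_gam hfc ha
    exact ⟨⟨γ, hγ⟩, MulEquiv.ext fun x => Subtype.ext ((congrArg Subtype.val (hγa x)) :)⟩
  refine isSylowIn_of_card_le
    ((isPGroup_autInducedBy h.Ngrp P).to_le (autInducedBy_mono inf_le_right P))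
    (h.autInducedBy_le_gam hPS) fun U hU hUg => ?_
  have hsur : Function.Surjective f.rangeRestrict := f.rangeRestrict_surjective
  have hcard : Nat.card U ≤ Nat.card ((RS : Subgroup J).map f) := by
    have hsylI : IsSylowIn p ((RS : Subgroup J).map f) f.range := by
      refine ⟨RS.mapSurjective hsur, ?_⟩
      rw [Sylow.coe_mapSurjective]
      ext y
      constructor
      · rintro ⟨j, hj, rfl⟩
        exact ⟨j, hj, rfl⟩
      · rintro ⟨j, hj, hjy⟩
        exact ⟨j, hj, Subtype.ext hjy⟩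
    exact hsylI.card_le (Subgroup.map_le_range _ _) hU (hUg.trans hrange)
  refine hcard.trans (Subgroup.card_le_of_le ?_)
  rintro _ ⟨γ, hγ, rfl⟩
  rw [hRS] at hγ
  replace hγ : (γ : MulAut V) ∈ RQ ⊓ J := hγ
  obtain ⟨hγQ, hγJ⟩ := hγ
  obtain ⟨s, hsV, hs, hγs⟩ := exists_eq_conjAut hγQ.1
  have hsP : s ∈ Subgroup.normalizer (P : Set Ω) :=
    mem_normalizer_of_conjAut_mem_setStab le_sup_left hsV (hγs ▸ hγQ.2)
  obtain ⟨-, j, hj, hjN, hjγ⟩ := hγJ
  rw [hγs] at hjγ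
  have hsZ : s ∈ Subgroup.normalizer ((upSub S X P : Subgroup Ω) : Set Ω) :=
    normalizer_sup_of_mem hsV hs.2
  have hfix : Agree (le_sup_left : V ≤ upSub S X P) (j⁻¹ * conjAut _ s hsZ) 1 := by
    have := hjγ.inv.mul (agree_conjAut le_sup_left hsZ hsV)
    rwa [inv_mul_cancel] at this
  obtain ⟨z, hzV, hzC, hz⟩ := eq_conj_of_fix_centric h.Ngrp h.Nsat hVc
    ((mem_autGroup_iff_hom hZS).1 (mul_mem (inv_mem hjN)
      (autInducedBy_le_autGroup N hZS (conjAut_mem_autInducedBy hs hsZ))))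
    le_sup_left fun x hx => congrArg Subtype.val (hfix ⟨(x : Ω), hx⟩)
  have hzZ : z ∈ Subgroup.normalizer ((upSub S X P : Subgroup Ω) : Set Ω) :=
    Subgroup.le_normalizer (Subgroup.mem_sup_left hzV)
  have h1 : j⁻¹ * conjAut _ s hsZ = conjAut _ z hzZ := MulEquiv.ext fun x => Subtype.ext (hz x)
  have hj' : j = conjAut _ (s * z⁻¹) (mul_mem hsZ (inv_mem hzZ)) := by
    rw [← conjAut_mul hsZ (inv_mem hzZ), ← conjAut_inv hzZ, ← h1, mul_inv_rev, inv_inv,
      mul_inv_cancel_left]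
  obtain ⟨z₂, hz₂Z, hz₂C, hsz⟩ := (hull_main h.grp h.sat h.nor _ (h.upSub_centric hfc)).1 _
    (S.mul_mem hs.1 (S.inv_mem (hVS hzV).1)) _ (hj' ▸ hj)
  have hzP : z ∈ Subgroup.centralizer (P : Set Ω) :=
    Subgroup.centralizer_le (SetLike.coe_subset_coe.2 le_sup_left) hzC
  have hz₂P : z₂ ∈ Subgroup.centralizer (P : Set Ω) :=
    Subgroup.centralizer_le (SetLike.coe_subset_coe.2 left_le_upSub) hz₂C
  refine mem_autInducedBy_iff.2 ⟨s * z⁻¹ * z₂, ⟨hsz, (normalizerIn S X).mul_mem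
    ((normalizerIn S X).mul_mem hs ((normalizerIn S X).inv_mem (hVS hzV))) (hZS hz₂Z)⟩,
    fun y => ?_⟩
  have hc : ∀ c ∈ Subgroup.centralizer (P : Set Ω), c * (y : Ω) * c⁻¹ = y := fun c hc => by
    rw [← Subgroup.mem_centralizer_iff.1 hc y y.2, mul_inv_cancel_right]
  have hval : ((f γ y : P) : Ω) = s * y * s⁻¹ := by
    show (((γ : MulAut V) (Subgroup.inclusion le_sup_left y) : V) : Ω) = _
    rw [hγs]
    rfl
  rw [hval, show s * z⁻¹ * z₂ * (y : Ω) * (s * z⁻¹ * z₂)⁻¹ =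
    s * (z⁻¹ * (z₂ * (y : Ω) * z₂⁻¹) * z⁻¹⁻¹) * s⁻¹ by group, hc _ hz₂P, hc _ (inv_mem hzP)]

/-- The elements of the automizer lie in `D`. -/
theorem gam_le_D (hY : Y ≤ W ⊓ normalizerIn S X) : h.gam Y ≤ D.autGroup Y := by
  refine (Subgroup.closure_le _).2 fun a ha => ?_
  have hinv := h.nor.1.2.2
  rcases ha with ⟨Q', f, hf, t, ht, htN, heq⟩ | ⟨Q₀, hQ₀, f, hf, β, hβ, -, hT, hag⟩
  · exact aGens_subset_of_invariant hinv le_rfl (hY.trans inf_le_left)
      ⟨Q', f, h.iso hf, t, ht.1, htN, heq⟩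
  · have hQ₀W : Q₀ ≤ W := (conj_le h.sc hY hf.isConj).trans inf_le_left
    have h1 := CfsgLib.FusionQuot.congr_mem_autGroup_of_invariant hinv hQ₀W
      (hY.trans inf_le_left) (h.iso hf).symm (hT.restrict_mem_autGroup hinv left_le_upSub hQ₀W hag)
    rwa [congr_symm_congr] at h1

/-- The family. -/
def family (h : Loc F D N p) : Family N (W ⊓ normalizerIn S X) p where
  grp := h.Ngrp
  sat := h.Nsat
  sc := h.sc
  gam := h.gam
  gam_congr := fun hg _ ha => h.gam_congr hg ha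
  gam_le_autGroup := fun {Q} => h.gam_le_autGroup
  autInducedBy_le_gam := fun hQ => h.autInducedBy_le_gam hQ
  gam_sylow := fun hP hPT => h.gam_sylow hP hPT
  down_fc := fun hP hTC hPX hX hsyl _ hb => h.down_fc hP hTC hPX hX hsyl hb
  up_coprime := fun hP hTC hPX hX _ ha hco hn => h.up_coprime hP hTC hPX hX ha hco hn

end Loc

/-- The part of a system inside a smaller group. -/
def restrictTo {V : Subgroup Ω} (D : Cfsg.FusionSystem W) (hV : V ≤ W) :
    Cfsg.FusionSystem V where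
  Hom P := {φ | φ ∈ D.Hom P ∧ P ≤ V ∧ ∀ x, φ x ∈ V}
  le_of_mem hφ := ⟨hφ.2.1, hφ.2.2⟩
  injective_of_mem hφ := D.injective_of_mem hφ.1
  conj_mem hP hg := ⟨D.conj_mem (hP.trans hV) (hV hg), hP,
    fun x => V.mul_mem (V.mul_mem hg (hP x.2)) (V.inv_mem hg)⟩
  comp_mem hφ hψ hQ := ⟨D.comp_mem hφ.1 hψ.1 hQ, hφ.2.1, fun _ => hψ.2.2 _⟩
  inv_mem := by
    intro P φ hφ
    obtain ⟨ψ, hψ, hx⟩ := D.inv_mem hφ.1
    refine ⟨ψ, ⟨hψ, ?_, ?_⟩, hx⟩
    · rintro _ ⟨x, rfl⟩
      exact hφ.2.2 x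
    · rintro ⟨_, x, rfl⟩
      rw [hx]
      exact hφ.2.1 x.2

variable [Finite S] [Fact p.Prime]

/-- The normal subsystem of `N` over `W ⊓ N_S(X)` inside `D`. -/
theorem exists_local_normal (h : Loc F D N p) :
    ∃ M : Cfsg.FusionSystem (W ⊓ normalizerIn S X), M.IsNormalIn N p ∧
      ∀ P, M.Hom P ⊆ D.Hom P := by
  have : Finite (normalizerIn S X) := finite_of_le (normalizerIn_le S X)
  refine ⟨_, CfsgLib.FusionWeakNormal.residual_isNormalIn h.Ngrp h.family.system_isWeaklyNormalIn,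
    fun P φ hφ => (h.family.genSys_le (E := restrictTo D inf_le_left) ?_ P hφ.1).1⟩
  intro Y hY _ a ha
  exact (mem_autGroup_iff_hom hY.1).2 ⟨(mem_autGroup_iff_hom (hY.1.trans inf_le_left)).1
    (h.gam_le_D hY.1 ha), hY.1, fun x => hY.1 (a x).2⟩

end CfsgLib.Fusion.Balance
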