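import Cfsg.Agent.Lib.Fusion.Balance.Local
import Cfsg.Agent.Lib.Fusion.Balance.Climb
import Cfsg.Agent.Lib.Fusion.CentralizerNormal
import Cfsg.Agent.S5148

/-!
# The layer of a local subsystem lies in the layer

For `X` fully normalized with normalizer system `N`, every component of `N` lies in the trace on `N`
of the layer of the whole system (`layer_balance`).
-/

set_option autoImplicit false
set_option linter.unusedSectionVars false
set_option linter.unusedVariables false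

namespace CfsgLib.Fusion.Balance

open Cfsg Cfsg.FusionSystem CfsgLib.Fusion CfsgLib.Fusion.SatCriterion
open CfsgLib.Fusion.Inter hiding Setup

variable {Ω : Type*} [Group Ω] {S T U X : Subgroup Ω} {F : Cfsg.FusionSystem S} {p : ℕ}
  {E : Cfsg.FusionSystem T} {D : Cfsg.FusionSystem U}

/-- A map of a central product with an inner system displaces into the second factor up to an inner
map. -/
theorem exists_twist (h : GenFitting.Setup F E D) {P : Subgroup Ω} {φ : P →* Ω}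
    (hφ : φ ∈ D.Hom P) : ∃ g ∈ F.core, ∀ x : P, (x : Ω)⁻¹ * (g⁻¹ * φ x * g) ∈ T := by
  obtain ⟨hPU, φ₀, hφ₀, hind⟩ := (h.factor.2.2.2 P φ).1 hφ
  obtain ⟨hpre, φ₁, ⟨-, g, hg, hv₁⟩, e, he, hv⟩ := (h.prod _ φ₀).1 hφ₀
  refine ⟨g, hg, fun x => ?_⟩
  obtain ⟨s, hs⟩ := h.factor.2.2.1.ge (hPU x.2)
  have hsP : (s : Ω × Ω) ∈ preimageAlong h.θ P :=
    CfsgLib.FusionQuot.mem_preimageAlong.2 ⟨s.2, hs.symm ▸ x.2⟩
  obtain ⟨_, _, _, hval⟩ := hind
  have h2 : φ x = h.θ ⟨φ₀ ⟨s, hsP⟩, map_mem hφ₀ _⟩ :=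
    (congrArg φ (Subtype.ext hs.symm)).trans (hval ⟨s, hsP⟩)
  rw [h2, h.theta_apply]
  show (x : Ω)⁻¹ * (g⁻¹ * ((φ₀ ⟨s, hsP⟩).1 * (φ₀ ⟨s, hsP⟩).2) * g) ∈ T
  rw [hv ⟨s, hsP⟩ ⟨_, hsP, rfl⟩ ⟨_, hsP, rfl⟩, hv₁,
    show (x : Ω) = (s : Ω × Ω).1 * (s : Ω × Ω).2 from hs.symm.trans (h.theta_apply s)]
  have hb : (s : Ω × Ω).2 ∈ T := (Subgroup.mem_prod.1 s.2).2
  have he' : e ⟨(s : Ω × Ω).2, ⟨_, hsP, rfl⟩⟩ ∈ T := map_mem he _
  show ((s : Ω × Ω).1 * (s : Ω × Ω).2)⁻¹ *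
    (g⁻¹ * ((g * (s : Ω × Ω).1 * g⁻¹) * e ⟨(s : Ω × Ω).2, ⟨_, hsP, rfl⟩⟩) * g) ∈ T
  have key : g⁻¹ * e ⟨(s : Ω × Ω).2, ⟨_, hsP, rfl⟩⟩ =
      e ⟨(s : Ω × Ω).2, ⟨_, hsP, rfl⟩⟩ * g⁻¹ := h.comm (inv_mem hg) he'
  have : ((s : Ω × Ω).1 * (s : Ω × Ω).2)⁻¹ *
      (g⁻¹ * ((g * (s : Ω × Ω).1 * g⁻¹) * e ⟨(s : Ω × Ω).2, ⟨_, hsP, rfl⟩⟩) * g) =
      (s : Ω × Ω).2⁻¹ * e ⟨(s : Ω × Ω).2, ⟨_, hsP, rfl⟩⟩ := by
    rw [mul_assoc (g * (s : Ω × Ω).1) g⁻¹, key]
    group
  rw [this]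
  exact T.mul_mem (T.inv_mem hb) he'

variable [Finite S] [Fact p.Prime]

/-- Coprime automorphisms in a central product with an inner system displace into the second
factor. -/
theorem disp_mem_of_fitting (hS : IsPGroup p S) (h : GenFitting.Setup F E D) {P : Subgroup Ω}
    (hPU : P ≤ U) {α : MulAut P} (hα : α ∈ D.autGroup P) (hco : (orderOf α).Coprime p) (x : P) :
    (x : Ω)⁻¹ * ((α x : P) : Ω) ∈ T := by
  obtain ⟨g, hg, hgx⟩ := exists_twist h ((mem_autGroup_iff_hom hPU).1 hα)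
  have hcomm : ∀ t ∈ T, g * t = t * g := fun t ht => h.comm hg ht
  have step : ∀ (k : ℕ) (x : P),
      (x : Ω)⁻¹ * ((g ^ k)⁻¹ * (((α ^ k) x : P) : Ω) * g ^ k) ∈ T := by
    intro k
    induction k with
    | zero => exact fun x => by simp
    | succ k ih =>
      intro x
      set y := (α ^ k) x with hy
      have h1 : (y : Ω)⁻¹ * (g⁻¹ * ((α y : P) : Ω) * g) ∈ T := hgx y
      have hc : Commute (g ^ k) ((y : Ω)⁻¹ * (g⁻¹ * ((α y : P) : Ω) * g)) :=
        (show Commute g _ from hcomm _ h1).pow_left k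
      have hk : (α ^ (k + 1)) x = α y := by rw [pow_succ', MulAut.mul_apply]
      have hrw : (x : Ω)⁻¹ * ((g ^ (k + 1))⁻¹ * (((α ^ (k + 1)) x : P) : Ω) * g ^ (k + 1)) =
          ((x : Ω)⁻¹ * ((g ^ k)⁻¹ * (y : Ω) * g ^ k)) *
            ((g ^ k)⁻¹ * ((y : Ω)⁻¹ * (g⁻¹ * ((α y : P) : Ω) * g)) * g ^ k) := by
        rw [hk, pow_succ' g k]
        group
      rw [hrw, hc.inv_left.eq, inv_mul_cancel_right]
      exact T.mul_mem (ih x) h1
  obtain ⟨k, hk⟩ := hS ⟨g, CfsgLib.FusionQuot.core_le F hg⟩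
  have hgk : g ^ p ^ k = 1 := congrArg Subtype.val hk
  obtain ⟨m, hm⟩ := exists_pow_eq_self_of_coprime (Nat.Coprime.pow_left k hco.symm)
  have h2 := step (p ^ k * m) x
  rw [pow_mul, pow_mul, hgk, one_pow, inv_one, one_mul, mul_one, hm] at h2
  exact h2

omit [Finite S] [Fact p.Prime] in
/-- The hyperfocal subgroup is generated by displacements of coprime automorphisms. -/
theorem hyperfocal_le {V : Subgroup Ω} (C : Cfsg.FusionSystem V) {K : Subgroup Ω}
    (h : ∀ P ≤ V, ∀ α ∈ C.autGroup P, (orderOf α).Coprime p →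
      ∀ x : P, (x : Ω)⁻¹ * ((α x : P) : Ω) ∈ K) : C.hyperfocalSubgroup p ≤ K := by
  refine (Subgroup.closure_le _).2 ?_
  rintro _ ⟨P, α, x, hP, hα, rfl⟩
  let L : Subgroup (C.autGroup P) :=
    { carrier := {β | ∀ x : P, (x : Ω)⁻¹ * (((β : MulAut P) x : P) : Ω) ∈ K}
      one_mem' := fun x => by simp
      mul_mem' := fun {a b} ha hb x => by
        have h1 := K.mul_mem (hb x) (ha ((b : MulAut P) x))
        rwa [mul_assoc, mul_inv_cancel_left] at h1
      inv_mem' := fun {a} ha x => by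
        have h1 := K.inv_mem (ha (((a : MulAut P)⁻¹ : MulAut P) x))
        rwa [MulAut.apply_inv_self, mul_inv_rev, inv_inv] at h1 }
  suffices hle : pResidual p (C.autGroup P) ≤ L from hle hα x
  refine (Subgroup.closure_le _).2 fun a ha => ?_
  replace ha : (orderOf (a : MulAut P)).Coprime p := by rw [Subgroup.orderOf_coe]; exact ha
  exact h P hP a a.2 ha

/-- A generalized Fitting subsystem's group contains the focal subgroup of its centralizer. -/
theorem centFocal_fitting_le (hS : IsPGroup p S) (hF : F.IsSaturated p)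
    (hD : D.IsGeneralizedFittingOf F p) : CenSub.centFocal F U ≤ U := by
  have hDn := (Comp.fitting_exists_and_normal hS hF).2 U D hD
  have hUS : U ≤ S := hDn.1.2.2.2.1.1
  have : Finite U := finite_of_le hUS
  have h1 : CenSub.fixSub D F ≤ D.center :=
    (GenFitting.selfCentralizing hS hF hD).2 _ CenSub.fixSub_le
      ((CenSub.isFixed_iff hUS hDn.1.2.2.1 CenSub.fixSub_le).1
        (CenSub.isFixed_fixSub hS hF hDn))
  exact ((CenSub.isFixed_centFocal hS hF hDn).le_fixSub.trans h1).trans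
    (CfsgLib.FusionQuot.isCentral_center D).1

variable {W : Subgroup Ω} {N : Cfsg.FusionSystem (normalizerIn S X)}

/-- A coprime automorphism in the centralizer of the trace of `U` is trivial. -/
theorem eq_one_of_centralizes {D : Cfsg.FusionSystem U} (h : Loc F D N p)
    (hfoc : CenSub.centFocal F U ≤ U)
    {M : Cfsg.FusionSystem (U ⊓ normalizerIn S X)} (hM : M.IsNormalIn N p)
    {V : Subgroup Ω} {C : Cfsg.FusionSystem V} (hC : C.IsComponentIn N p)
    (hVY : V ≤ CenSub.fixSub M N) {P : Subgroup Ω} (hP : P ≤ V) {α : MulAut P}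
    (hα : α ∈ C.autGroup P) (hco : (orderOf α).Coprime p) : α = 1 := by
  classical
  have hNS : normalizerIn S X ≤ S := normalizerIn_le S X
  have : Finite (normalizerIn S X) := finite_of_le hNS
  obtain ⟨K, hK, hKc⟩ := CenNormal.exists_centralizer_normal h.Ngrp h.Nsat hM
  have hYsc : N.StronglyClosed (CenSub.fixSub M N) := hK.1.2.2.2.1
  have hWsc : N.StronglyClosed (U ⊓ normalizerIn S X) := h.sc
  have : Finite (CenSub.fixSub M N) := finite_of_le hYsc.1
  have hYp : IsPGroup p (CenSub.fixSub M N) := h.Ngrp.to_le hYsc.1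
  have hCK : C.IsComponentIn K p := Comp.isComponentIn_of_le h.Ngrp h.Nsat hC hK hVY
  have hXY : K.IsNormal (X ⊓ (CenSub.fixSub M N)) := by
    refine Stability.isNormal_of_restrictions hYp hK.1.1 inf_le_right fun Q hQ φ hφ => ?_
    obtain ⟨ψ, hψ, hag, hψX⟩ := h.exists_ext (hK.1.2.2.1 Q hφ)
    have hle : X ⊓ (CenSub.fixSub M N) ≤ Q ⊔ X := inf_le_left.trans le_sup_right
    obtain ⟨β, -, hβ⟩ := LayerCore.exists_aut_of_mapsTo (restrict_mem hψ hle) fun x =>
      ⟨hψX _ x.2.1, stronglyClosed_apply_mem hYsc (restrict_mem hψ hle) x x.2.2⟩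
    exact ⟨β, fun x => (hag x).symm.trans
      (Eq.trans (congrArg ψ (Subtype.ext rfl)) (hβ ⟨(x : Ω), hQ x.2⟩).symm)⟩
  -- extend `α` to `A`
  obtain ⟨-, -, -, ψ₁, hψ₁, hag₁, hfix₁⟩ := LayerCore.component_le_centralizerHom hCK.1
    inferInstance hCK.2 inferInstance hYp hK.1.1 _ hXY P ((mem_autGroup_iff_hom hP).1 hα)
  obtain ⟨-, -, -, ψ₂, hψ₂, hag₂, hfix₂⟩ := hKc _ hψ₁
  obtain ⟨A, hAN, hPA, hXA, hWA, ψ₃, hψ₃, hψP, hψW, hψXY, hmaps⟩ : ∃ (A : Subgroup Ω)
      (_ : A ≤ normalizerIn S X) (hPA : P ≤ A) (_ : X ≤ A) (_ : U ⊓ normalizerIn S X ≤ A)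
      (ψ₃ : A →* Ω), ψ₃ ∈ N.Hom A ∧
      (∀ x : P, ψ₃ (Subgroup.inclusion hPA x) = ((α x : P) : Ω)) ∧
      (∀ z : A, (z : Ω) ∈ U ⊓ normalizerIn S X → ψ₃ z = z) ∧
      (∀ z : A, (z : Ω) ∈ X ⊓ CenSub.fixSub M N → ψ₃ z = z) ∧ ∀ x, ψ₃ x ∈ A := by
    obtain ⟨ψ₃, hψ₃, hag₃, hψX⟩ := h.exists_ext hψ₂
    have hP₃ : ∀ x : P, ψ₃ (Subgroup.inclusion le_sup_left (Subgroup.inclusion le_sup_left
        (Subgroup.inclusion le_sup_left x))) = ((α x : P) : Ω) := fun x =>
      (hag₃ _).trans ((hag₂ _).trans (hag₁ x))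
    have hW₃ : ∀ w : ↥(U ⊓ normalizerIn S X),
        ψ₃ (Subgroup.inclusion le_sup_left (Subgroup.inclusion le_sup_right w)) = w :=
      fun w => (hag₃ _).trans (hfix₂ w)
    have hXY₃ : ∀ z : ↥(X ⊓ CenSub.fixSub M N), ψ₃ (Subgroup.inclusion le_sup_left
        (Subgroup.inclusion le_sup_left (Subgroup.inclusion le_sup_right z))) = z := fun z =>
      (hag₃ _).trans ((hag₂ _).trans (hfix₁ z))
    refine ⟨_, dom_le hψ₃, (le_sup_left.trans le_sup_left).trans le_sup_left, le_sup_right,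
      le_sup_right.trans le_sup_left, ψ₃, hψ₃, hP₃,
      fun z hz => (congrArg ψ₃ (Subtype.ext rfl)).trans (hW₃ ⟨(z : Ω), hz⟩),
      fun z hz => (congrArg ψ₃ (Subtype.ext rfl)).trans (hXY₃ ⟨(z : Ω), hz⟩),
      forall_mem_of_sup (forall_mem_of_sup (φ := ψ₃.comp (Subgroup.inclusion le_sup_left))
        (forall_mem_of_sup
          (φ := (ψ₃.comp (Subgroup.inclusion le_sup_left)).comp (Subgroup.inclusion le_sup_left))
          (fun x => by
            simp only [MonoidHom.comp_apply]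
            rw [hP₃]
            exact Subgroup.mem_sup_left (Subgroup.mem_sup_left (Subgroup.mem_sup_left (α x).2)))
          fun z => by
            simp only [MonoidHom.comp_apply]
            rw [hXY₃]
            exact Subgroup.mem_sup_right z.2.1)
        fun w => by
          simp only [MonoidHom.comp_apply]
          rw [hW₃]
          exact Subgroup.mem_sup_left (Subgroup.mem_sup_right w.2))
      fun x => Subgroup.mem_sup_right (hψX _ x.2)⟩
  have hAS : A ≤ S := hAN.trans hNS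
  have : Finite A := finite_of_le hAS
  obtain ⟨b₁, hb₁, hb₁x⟩ := LayerCore.exists_aut_of_mapsTo hψ₃ hmaps
  obtain ⟨m, hm, hmag⟩ := exists_coprime_pow hPA hco b₁
    fun x => Subtype.ext ((hb₁x _).trans (hψP x))
  set b := b₁ ^ m with hb
  have hbN : b ∈ N.autGroup A := pow_mem hb₁ m
  have hpow : ∀ z : A, b₁ z = z → b z = z := fun z hz => by
    rw [hb]
    clear hm hmag hbN hb
    induction m with
    | zero => rfl
    | succ k ih => rw [pow_succ, MulAut.mul_apply, hz, ih]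
  have hbW : ∀ z : A, (z : Ω) ∈ U ⊓ normalizerIn S X → b z = z := fun z hz =>
    hpow z (Subtype.ext ((hb₁x z).trans (hψW z hz)))
  have hbXY : ∀ z : A, (z : Ω) ∈ X ⊓ CenSub.fixSub M N → b z = z := fun z hz =>
    hpow z (Subtype.ext ((hb₁x z).trans (hψXY z hz)))
  -- `b` fixes `X`
  have hfocY : CenSub.centFocal N (U ⊓ normalizerIn S X) ≤ (CenSub.fixSub M N) :=
    (CenSub.isFixed_centFocal h.Ngrp h.Nsat hM).le_fixSub
  have hbC : ∀ c : A, (c : Ω) ∈ X → (c : Ω) ∈ Subgroup.centralizer ((U ⊓ normalizerIn S X : Subgroup Ω) : Set Ω) → b c = c := by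
    intro c hcX hcC
    refine Stability.eq_self_of_disp_fixed (h.grp.to_le hAS) b hm (hbXY _ ⟨?_, ?_⟩)
    · exact X.mul_mem (X.inv_mem hcX) (h.aut_mem_X hXA hAN hbN c hcX)
    · exact hfocY (disp_mem_centFocal hWsc hAN hWA hbN hbW hcC)
  have hbX : ∀ x : A, (x : Ω) ∈ X → b x = x := by
    intro x hx
    have hbx : ((b x : A) : Ω) ∈ X := h.aut_mem_X hXA hAN hbN x hx
    refine Stability.eq_self_of_disp_fixed (h.grp.to_le hAS) b hm
      (hbC _ (X.mul_mem (X.inv_mem hx) hbx) (Subgroup.mem_centralizer_iff.2 fun w hw => ?_))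
    have hxw : (x : Ω) * w * (x : Ω)⁻¹ ∈ (U ⊓ normalizerIn S X) :=
      conj_mem_of_mem_normalizer (stronglyClosed_le_normalizer hWsc (h.le_loc hx)) hw
    have h2 := hbW (x * ⟨w, hWA hw⟩ * x⁻¹) hxw
    rw [map_mul, map_mul, map_inv, hbW ⟨w, hWA hw⟩ hw] at h2
    have h3 : ((b x : A) : Ω) * w * ((b x : A) : Ω)⁻¹ = (x : Ω) * w * (x : Ω)⁻¹ :=
      congrArg Subtype.val h2
    show w * ((x : Ω)⁻¹ * ((b x : A) : Ω)) = (x : Ω)⁻¹ * ((b x : A) : Ω) * w
    calc w * ((x : Ω)⁻¹ * ((b x : A) : Ω))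
        = (x : Ω)⁻¹ * ((x : Ω) * w * (x : Ω)⁻¹) * ((b x : A) : Ω) := by group
      _ = _ := by rw [← h3]; group
  -- climb
  have hUsc : F.StronglyClosed U := h.hW
  have hcl : Climbable F U A X := by
    refine ⟨fun y hy => hWA ⟨hy.1, hUsc.1 hy.1, hy.2⟩, fun X' hc => ?_⟩
    obtain ⟨e, -, θ, hθ, hθN, -⟩ := exists_normalizer_map h.grp h.sat h.fn (isConj_symm hc)
    have hle : normalizerIn U X' ≤ normalizerIn S X' := fun y hy => ⟨hUsc.1 hy.1, hy.2⟩
    have : Finite (normalizerIn U X) := finite_of_le ((normalizerIn_le U X).trans hUsc.1)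
    refine Nat.card_le_card_of_injective (fun y : normalizerIn U X' =>
      (⟨θ (Subgroup.inclusion hle y),
        stronglyClosed_apply_mem hUsc hθ _ y.2.1, (hθN _).2⟩ : normalizerIn U X)) fun a c hac => ?_
    exact Subgroup.inclusion_injective hle (hom_inj hθ (Subtype.ext_iff.1 hac))
  have hb1 : b = 1 := climb h.grp h.sat hUsc hfoc A X hAS hXA hcl b (h.autGroup_le hAN hbN) hm
    (fun z hz => hbW z ⟨hz, hAN z.2⟩) hbX
  refine MulEquiv.ext fun x => Subgroup.inclusion_injective hPA ?_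
  rw [← hmag x, hb1]
  rfl

/-- Balance of layers. -/
theorem layer_balance (hS : IsPGroup p S) (hF : F.IsSaturated p) (hX : F.IsFullyNormalized X)
    (hN : F.IsNormalizerSystem X N) {V : Subgroup Ω} {EN : Cfsg.FusionSystem V}
    (hEN : EN.IsLayerOf N p) (hE : E.IsLayerOf F p) : EN.IsSubsystemOf E := by
  classical
  obtain ⟨D', hD', hprod⟩ := Comp.exists_fitting_product hS hF hE
  have hfit : D'.IsGeneralizedFittingOf F p := ⟨T, E, hE, hprod⟩
  have hfoc := centFocal_fitting_le hS hF hfit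
  have hset : Nonempty (GenFitting.Setup F E D') := by
    obtain ⟨D₀, hD₀, Z, θ, hZ, -, -, h1, h2, hfac⟩ := hprod
    exact ⟨⟨D₀, hD₀, Z, θ, hZ, h1, h2, hfac, hE.1.1.2.2.1,
      LayerCore.layer_le_centralizerHom hS hF hE⟩⟩
  obtain ⟨hset⟩ := hset
  have hloc : Loc F D' N p := ⟨hS, hF, hD', hX, hN⟩
  have hlocE : Loc F E N p := ⟨hS, hF, hE.1, hX, hN⟩
  obtain ⟨M, hM, hMD⟩ := exists_local_normal hloc
  obtain ⟨ME, hME, hMEE⟩ := exists_local_normal hlocE
  have : Finite (normalizerIn S X) := finite_of_le (normalizerIn_le S X)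
  intro P φ hφ
  refine hMEE P (hEN.2.2 _ ME hME (fun V' C hC => ?_) P hφ)
  have hV'N : V' ≤ normalizerIn S X := Transport.subnormal_le hC.1
  have : Finite V' := finite_of_le hV'N
  suffices hVT : V' ≤ T from Components.subnormal_sub
    (Comp.isComponentIn_of_le hloc.Ngrp hloc.Nsat hC hME (le_inf hVT hV'N)).1
  rcases Comp.le_or_le_fixSub hloc.Ngrp hloc.Nsat hC hM with hle | ⟨hle, -⟩
  · have hCM : C.IsSubsystemOf M := Components.subnormal_sub
      (Comp.isComponentIn_of_le hloc.Ngrp hloc.Nsat hC hM hle).1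
    refine hC.2.2.1.symm.le.trans (hyperfocal_le C fun Q hQ α hα hco x => ?_)
    exact disp_mem_of_fitting hS hset ((hQ.trans hle).trans inf_le_left)
      (CfsgLib.FusionQuot.autGroup_le_of_subsystem (fun R => (hCM R).trans (hMD R)) Q hα) hco x
  · exfalso
    have hbot : V' = ⊥ := le_bot_iff.1 (hC.2.2.1.symm.le.trans (hyperfocal_le C
      fun Q hQ α hα hco x => by
        rw [eq_one_of_centralizes hloc hfoc hM hC hle hQ hα hco]
        simp))
    refine Cfsg.Agent.S5148.result p (hloc.Ngrp.to_le hV'N) C hC.2 ?_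
    exact isMulCommutative_iff.2 fun a b => Subtype.ext (by
      rw [Subgroup.coe_mul, Subgroup.coe_mul, Subgroup.mem_bot.1 (hbot.le a.2), one_mul, mul_one])

end CfsgLib.Fusion.Balance
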