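import Cfsg.Agent.Lib.Fusion.Balance.Basic

/-!
# Coprime automorphisms trivial modulo a normal subsystem climb

At a good fully normalized subgroup `R` such an automorphism extends to a coprime one of any
normalizing overgroup together with `C_S(R ⊓ W)` (`exists_base`); from this `Tr` passes from a
centric subgroup to every overgroup carrying a coprime extension (`tr_up`).
-/

set_option autoImplicit false
set_option linter.unusedSectionVars false

namespace CfsgLib.Fusion.Balance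

open Cfsg Cfsg.FusionSystem CfsgLib.Fusion CfsgLib.Fusion.Inter CfsgLib.Fusion.SatCriterion
open scoped Pointwise

variable {Ω : Type*} [Group Ω] {S W : Subgroup Ω} {F : Cfsg.FusionSystem S}
variable {D : Cfsg.FusionSystem W} {p : ℕ}
variable {R U X G : Subgroup Ω}

/-- A subsystem normal in `F` gives the data for intersecting it with itself. -/
theorem setup_self (hS : IsPGroup p S) (hF : F.IsSaturated p) (hD : D.IsNormalIn F p) :
    Inter.Setup F D D p := ⟨hS, hF, hD.1, hD.1⟩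

/-- Restriction of an automorphism mapping a subgroup into itself. -/
theorem exists_res [Finite S] (hXG : X ≤ G) (hGS : G ≤ S) {ν : MulAut G}
    (hν : ν ∈ F.autGroup G) (hmap : ∀ x : X, ((ν (Subgroup.inclusion hXG x) : G) : Ω) ∈ X) :
    ∃ μ ∈ F.autGroup X, Agree hXG ν μ := by
  obtain ⟨μ, hμ, hμx⟩ := LayerCore.exists_aut_of_mapsTo
    (restrict_mem ((mem_autGroup_iff_hom hGS).1 hν) hXG) hmap
  exact ⟨μ, hμ, fun x => Subtype.ext (hμx x).symm⟩

/-- Restrictions of restrictions. -/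
theorem agree_of_agree {hRX : R ≤ X} {hXG : X ≤ G} {ν : MulAut G} {μ : MulAut X} {a : MulAut R}
    (h₁ : Agree hXG ν μ) (h₂ : Agree (hRX.trans hXG) ν a) : Agree hRX μ a := fun r =>
  Subgroup.inclusion_injective hXG ((h₁ (Subgroup.inclusion hRX r)).symm.trans (h₂ r))

variable [Finite S] [Fact p.Prime]

/-- An extension stabilizes the overgroups whose conjugations are carried among themselves. -/
theorem mapsTo_of_act (hc : F.IsCentric R) (hRX : R ≤ X) (hXG : X ≤ G) (hGS : G ≤ S)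
    (hXN : X ≤ Subgroup.normalizer (R : Set Ω)) {ν : MulAut G} {a : MulAut R}
    (hag : Agree (hRX.trans hXG) ν a)
    (hact : ∀ x (hx : x ∈ X), a * conjAut R x (hXN hx) * a⁻¹ ∈ autInducedBy X R) (x : X) :
    ((ν (Subgroup.inclusion hXG x) : G) : Ω) ∈ X := by
  obtain ⟨hN, heq⟩ := conj_conjAut_of_agree (hRX.trans hXG) hag (hXG x.2) (hXN x.2)
  obtain ⟨k, hkN, hk, hkeq⟩ := exists_eq_conjAut (hact x x.2)
  rw [heq] at hkeq
  have h1 := inv_mul_mem_centralizerIn (U := S) le_rfl (hGS (hXG hk))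
    (hGS (ν ⟨(x : Ω), hXG x.2⟩).2) hkeq.symm
  have h2 := X.mul_mem hk (hRX (centralizerIn_le_of_isCentric hc h1))
  rwa [mul_inv_cancel_left] at h2

/-- Carrying conjugations of an overgroup into itself, from an extension. -/
theorem act_of_agree (hRU : R ≤ U) {κ : MulAut U} {a : MulAut R} (hag : Agree hRU κ a) {u : Ω}
    (hu : u ∈ U) (huN : u ∈ Subgroup.normalizer (R : Set Ω)) :
    a * conjAut R u huN * a⁻¹ ∈ autInducedBy U R := by
  obtain ⟨hN, heq⟩ := conj_conjAut_of_agree hRU hag hu huN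
  rw [heq]
  exact conjAut_mem_autInducedBy (κ _).2 _

/-- `Aut_S(V)` meets `Aut_D(V)` in `Aut_W(V)` for fully normalized `V ≤ W`. -/
theorem mem_autInducedBy_of_normal (hS : IsPGroup p S) (hF : F.IsSaturated p)
    (hD : D.IsNormalIn F p) {V : Subgroup Ω} (hVW : V ≤ W) (hV : F.IsFullyNormalized V)
    {b : MulAut V} (hb : b ∈ D.autGroup V) (hbS : b ∈ autInducedBy S V) :
    b ∈ autInducedBy W V := by
  have hinv := hD.1.2.2
  have hW : F.StronglyClosed W := hinv.2.1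
  have : Finite W := finite_of_le hW.1
  have : Finite V := finite_of_le hV.1
  have : Finite (MulAut V) := finite_mulAut
  obtain ⟨-, P₁, hP₁⟩ := isFullyAutomized_of_isFullyNormalized (hS.to_le hW.1) hD.1.1
    (CfsgLib.FusionQuot.isFullyNormalized_of_subsystem hS hF hW hinv.1 hVW hV)
  have hp : IsPGroup p ((autInducedBy S V).subgroupOf (D.autGroup V)) :=
    (isPGroup_autInducedBy hS V).comap_of_injective _ (Subgroup.subtype_injective _)
  have heq := P₁.is_maximal' hp (by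
    rw [hP₁]
    exact fun x hx => autInducedBy_mono hW.1 V hx)
  have hm : (⟨b, hb⟩ : D.autGroup V) ∈ (autInducedBy S V).subgroupOf (D.autGroup V) := hbS
  rw [heq, hP₁] at hm
  exact hm

/-- Extension over `C_S(R ⊓ W)` at a good fully normalized subgroup. -/
theorem exists_base (hS : IsPGroup p S) (hF : F.IsSaturated p) (hD : D.IsNormalIn F p)
    (hgood : IsGood F W R) (hR : F.IsFullyNormalized R) (hV : F.IsFullyNormalized (R ⊓ W))
    {a : MulAut R} (ha : a ∈ sideSub F D R) (hco : (orderOf a).Coprime p) (hRU : R ≤ U)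
    (hUN : U ≤ normalizerIn S R) {κ : MulAut U} (hκ : Agree hRU κ a) :
    ∃ ν ∈ F.autGroup (U ⊔ centralizerIn S (R ⊓ W)), (orderOf ν).Coprime p ∧
      Agree (hRU.trans le_sup_left) ν a ∧
      ∀ x : ↥(U ⊔ centralizerIn S (R ⊓ W)), (x : Ω)⁻¹ * ((ν x : ↥(U ⊔ centralizerIn S (R ⊓ W))) : Ω) ∈ W := by
  have hinv := hD.1.2.2
  have hW : F.StronglyClosed W := hinv.2.1
  set V := R ⊓ W with hVdef
  have hVW : V ≤ W := inf_le_right
  have hRS : R ≤ S := hgood.centric.1
  have hVS : V ≤ S := hVW.trans hW.1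
  have hVU : V ≤ U := inf_le_left.trans hRU
  have hUS : U ≤ S := hUN.trans (normalizerIn_le S R)
  set Vc := V ⊔ centralizerIn S V with hVc
  set U₂ := U ⊔ centralizerIn S V with hU₂
  have hVcU : Vc ≤ U₂ := sup_le (hVU.trans le_sup_left) le_sup_right
  have hU₂S : U₂ ≤ S := sup_le hUS (centralizerIn_le S V)
  have hfc := isFullyCentralized_of_isFullyNormalized hS hF hV
  have hVcC : F.IsCentric Vc := isCentric_sup hS hF hfc
  have hVcS : Vc ≤ S := sup_centralizerIn_le hVS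
  have : Finite Vc := finite_of_le hVcS
  have : Finite U₂ := finite_of_le hU₂S
  have : Finite R := finite_of_le hRS
  have : Finite V := finite_of_le hVS
  have : Finite (MulAut R) := finite_mulAut
  have hWn := stronglyClosed_le_normalizer hW
  have hVn : ∀ g ∈ S, g ∈ Subgroup.normalizer (R : Set Ω) → g ∈ Subgroup.normalizer (V : Set Ω) :=
    fun g hgS hgR => Subgroup.mem_normalizer_iff.2 fun x => by
      simp only [hVdef, Subgroup.mem_inf]
      exact and_congr (Subgroup.mem_normalizer_iff.1 hgR x)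
        (Subgroup.mem_normalizer_iff.1 (hWn hgS) x)
  have hUV : ∀ u ∈ U, u ∈ Subgroup.normalizer (V : Set Ω) := fun u hu =>
    hVn u (hUS hu) (hUN hu).2
  have hU₂N : U₂ ≤ normalizerIn S Vc := sup_le
    (fun u hu => ⟨hUS hu, normalizer_sup_centralizerIn (hUS hu) (hUV u hu)⟩)
    (le_sup_right.trans (le_normalizerIn hVcS))
  have hU₂W : U₂ ≤ Subgroup.normalizer (W : Set Ω) := hU₂S.trans hWn
  obtain ⟨haF, had, γ, hγ, haγ⟩ := Balance.mem_sideSub.1 ha
  have h := setup_self hS hF hD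
  obtain ⟨β, hβ, hβco, hβγ⟩ := Comp.exists_lift_of_normal hS hF hD h hgood.tc hfc hγ
    (coprime_of_agree inf_le_left haγ hco)
  have hβF : β ∈ F.autGroup Vc := (h.sideBoth_le hfc.1 hβ).1
  have hagβ : Agree (le_sup_left : V ≤ Vc) β γ := hβγ
  have hκγ : Agree hVU κ γ := fun v =>
    (hκ (Subgroup.inclusion inf_le_left v)).trans (congrArg (Subgroup.inclusion hRU) (haγ v))
  have hDS := fun b hb hbS => mem_autInducedBy_of_normal hS hF hD hVW hV (b := b) hb hbS
  have key : ∀ u (hu : u ∈ U), ∃ w ∈ W, w ∈ U₂ ∧ ∃ d ∈ centralizerIn S V,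
      ∃ hn : w * d * u ∈ Subgroup.normalizer (Vc : Set Ω),
        β * conjAut Vc u (hU₂N (Subgroup.mem_sup_left hu)).2 * β⁻¹ = conjAut Vc (w * d * u) hn := by
    intro u hu
    have huS := hUS hu
    have huV := hUV u hu
    have huW := (hU₂N (Subgroup.mem_sup_left hu)).2
    obtain ⟨hu'V, hu'⟩ := conj_conjAut_of_agree hVU hκγ hu huV
    set u' := ((κ ⟨u, hu⟩ : U) : Ω)
    set cu := conjAut Vc u huW with hcu
    set e := β * cu * β⁻¹ * cu⁻¹ with he
    have hcuF : cu ∈ pairStab F Vc V := ⟨autInducedBy_le_autGroup F hVcS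
      (conjAut_mem_autInducedBy huS huW), fun x => (Subgroup.mem_normalizer_iff.1 huV x).symm⟩
    have he1 : e ∈ h.sideBoth hfc.1 := by
      rw [he, mul_assoc, mul_assoc]
      refine mul_mem hβ ?_
      rw [← mul_assoc]
      exact h.sideBoth_conj (le_inf hVW hVW) hcuF ((h.sideBoth hfc.1).inv_mem hβ)
    set t := u' * u⁻¹ with ht
    have htV : t ∈ Subgroup.normalizer (V : Set Ω) := mul_mem hu'V (inv_mem huV)
    have hteq : γ * conjAut V u huV * γ⁻¹ * (conjAut V u huV)⁻¹ = conjAut V t htV := by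
      rw [hu', conjAut_inv huV, conjAut_mul]
    have htD : conjAut V t htV ∈ D.autGroup V := by
      rw [← hteq, mul_assoc, mul_assoc]
      refine mul_mem hγ ?_
      rw [← mul_assoc]
      exact CfsgLib.FusionQuot.conj_mem_autGroup_of_invariant hinv hVW
        (autInducedBy_le_autGroup F hVS (conjAut_mem_autInducedBy huS huV)) (inv_mem hγ)
    obtain ⟨w, hwN, hw, hwe⟩ := exists_eq_conjAut (hDS _ htD (conjAut_mem_autInducedBy
      (S.mul_mem (hUS (κ ⟨u, hu⟩).2) (S.inv_mem huS)) htV))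
    have hc : w⁻¹ * t ∈ centralizerIn S V :=
      inv_mul_mem_centralizerIn (U := S) le_rfl (hW.1 hw)
        (S.mul_mem (hUS (κ ⟨u, hu⟩).2) (S.inv_mem huS)) hwe.symm
    have hwU : w ∈ U₂ := by
      have h1 := U₂.mul_mem (Subgroup.mem_sup_left (T := centralizerIn S V)
        (U.mul_mem (κ ⟨u, hu⟩).2 (U.inv_mem hu))) (Subgroup.mem_sup_right (inv_mem hc))
      rwa [show u' * u⁻¹ * (w⁻¹ * t)⁻¹ = w by rw [ht]; group] at h1
    have hwW : w ∈ Subgroup.normalizer (Vc : Set Ω) := normalizer_sup_centralizerIn (hW.1 hw) hwN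
    have hage : Agree (le_sup_left : V ≤ Vc) e (conjAut V w hwN) := by
      rw [← hwe, ← hteq]
      exact ((hagβ.mul (agree_conjAut le_sup_left huW huV)).mul hagβ.inv).mul
        (agree_conjAut le_sup_left huW huV).inv
    set e' := (conjAut Vc w hwW)⁻¹ * e with he'
    have he'fix : e' ∈ cenFix F V := by
      refine ⟨mul_mem (inv_mem (autInducedBy_le_autGroup F hVcS
        (conjAut_mem_autInducedBy (hW.1 hw) hwW))) (h.sideBoth_le hfc.1 he1).1, fun x => ?_⟩
      have h2 := ((agree_conjAut le_sup_left hwW hwN).inv.mul hage) x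
      rw [inv_mul_cancel] at h2
      exact h2
    have he's : e' ∈ h.sideBoth hfc.1 := mul_mem ((h.sideBoth hfc.1).inv_mem
      (h.conjAut_mem_sideBoth (le_inf hVW hVW) ⟨hw, hw⟩ hwN hwW)) he1
    obtain ⟨d, hdW, hdC, hde⟩ := exists_eq_conjAut (h.exists_conjAut_of_fix hfc
      (by rw [inf_idem]; exact hgood.tc) he'fix he's)
    refine ⟨w, hw, hwU, d, hdC, mul_mem (mul_mem hwW hdW) huW, ?_⟩
    rw [← conjAut_mul (mul_mem hwW hdW) huW, ← conjAut_mul hwW hdW, ← hde, he',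
      mul_inv_cancel_left, he, hcu, inv_mul_cancel_right]
  obtain ⟨ν, hν, hνco, hνβ⟩ := exists_aut_sup hS hF hVcC hβF hβco hVcU hU₂N
    (act_of_sup (hU₂N.trans inf_le_right) (fun u hu => by
      obtain ⟨w, -, hwU, d, hdC, hn, he⟩ := key u hu
      rw [he]
      exact conjAut_mem_autInducedBy
        (U₂.mul_mem (U₂.mul_mem hwU (Subgroup.mem_sup_right hdC)) (Subgroup.mem_sup_left hu)) _)
      fun c hc => by
        rw [conj_conjAut_self β ⟨c, Subgroup.mem_sup_right hc⟩ _ (Subgroup.le_normalizer (β _).2)]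
        exact conjAut_mem_autInducedBy (hVcU (β _).2) _)
  -- displacement
  have hVcW : Vc ≤ Subgroup.normalizer (W : Set Ω) := hVcS.trans hWn
  have hβd : ∀ x : Vc, (x : Ω)⁻¹ * ((β x : Vc) : Ω) ∈ W := disp_of_gens hVcW
    (fun v => by
      rw [hβγ]
      exact W.mul_mem (W.inv_mem (hVW v.2)) (hVW (γ v).2))
    fun c => (h.sideBoth_disp hβ (c := Subgroup.inclusion le_sup_right c) c.2).1
  have hLV : ∀ y : U₂, (y : Ω) ∈ Vc → (y : Ω)⁻¹ * ((ν y : U₂) : Ω) ∈ W := fun y hy => by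
    rw [show ν y = Subgroup.inclusion hVcU (β ⟨y, hy⟩) from hνβ ⟨y, hy⟩]
    exact hβd ⟨y, hy⟩
  have hLW : ∀ y : U₂, (y : Ω) ∈ W → (y : Ω)⁻¹ * ((ν y : U₂) : Ω) ∈ W := fun y hy =>
    W.mul_mem (W.inv_mem hy) (Stability.aut_mem hW hU₂S hν hy)
  have hd : ∀ x : U₂, (x : Ω)⁻¹ * ((ν x : U₂) : Ω) ∈ W := by
    refine disp_of_gens hU₂W (fun u => ?_) fun c =>
      hLV (Subgroup.inclusion le_sup_right c) (Subgroup.mem_sup_right c.2)
    set x : U₂ := Subgroup.inclusion le_sup_left u with hx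
    obtain ⟨w, hw, hwU, d, hdC, hn, he⟩ := key u u.2
    obtain ⟨hνN, hνeq⟩ := conj_conjAut_of_agree hVcU hνβ (Subgroup.mem_sup_left u.2)
      (hU₂N (Subgroup.mem_sup_left u.2)).2
    rw [he] at hνeq
    have hwdu : w * d * u ∈ U₂ :=
      U₂.mul_mem (U₂.mul_mem hwU (Subgroup.mem_sup_right hdC)) (Subgroup.mem_sup_left u.2)
    have hz : (w * d * u)⁻¹ * ((ν x : U₂) : Ω) ∈ Vc := centralizerIn_le_of_isCentric hVcC
      (inv_mul_mem_centralizerIn hU₂S hwdu (ν x).2 hνeq)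
    have huU₂ : (u : Ω) ∈ U₂ := x.2
    have h1 : (u : Ω)⁻¹ * w * u ∈ W := (Subgroup.mem_normalizer_iff''.1 (hU₂W huU₂) w).1 hw
    have h2 : (u : Ω)⁻¹ * d * u ∈ centralizerIn S V :=
      (Subgroup.mem_normalizer_iff''.1 (mem_normalizer_centralizerIn (hUS u.2) (hUV u u.2)) d).1 hdC
    set L := dispSub hU₂W ν with hL
    have hxL : x⁻¹ * ν x ∈ L := by
      rw [show x⁻¹ * ν x =
        (⟨(u : Ω)⁻¹ * w * u, U₂.mul_mem (U₂.mul_mem (U₂.inv_mem huU₂) hwU) huU₂⟩ : U₂) *
          ⟨(u : Ω)⁻¹ * d * u, Subgroup.mem_sup_right h2⟩ *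
          ⟨(w * d * u)⁻¹ * ((ν x : U₂) : Ω), hVcU hz⟩ from Subtype.ext (by
            show (u : Ω)⁻¹ * ((ν x : U₂) : Ω) = _
            simp only [Subgroup.coe_mul]
            group)]
      exact L.mul_mem (L.mul_mem (hLW _ h1) (hLV _ (Subgroup.mem_sup_right h2))) (hLV _ hz)
    have : (W.subgroupOf U₂).Normal :=
      ⟨fun y hy g => conj_mem_of_mem_normalizer (hU₂W g.2) hy⟩
    exact CenNormal.disp_mem_of_disp (hS.to_le hU₂S) ν hνco (L := L) (N := W.subgroupOf U₂)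
      (fun y hy => Stability.aut_mem hW hU₂S hν hy) (fun y hy => hy) (x := x) hxL
  -- `R` is stabilized
  have hRU₂ : R ≤ U₂ := hRU.trans le_sup_left
  have hνV : ∀ v : V, ν (Subgroup.inclusion (inf_le_left.trans hRU₂) v) =
      Subgroup.inclusion (inf_le_left.trans hRU₂) (γ v) := fun v =>
    (hνβ (Subgroup.inclusion le_sup_left v)).trans (congrArg _ (hagβ v))
  have hmap : ∀ r : R, ((ν (Subgroup.inclusion hRU₂ r) : U₂) : Ω) ∈ R := by
    intro r
    set r₂ : U₂ := Subgroup.inclusion hRU₂ r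
    set z : Ω := ((a r : R) : Ω)⁻¹ * ((ν r₂ : U₂) : Ω) with hz
    have hzW : z ∈ W := by
      have h1 := W.mul_mem (W.inv_mem (had r)) (hd r₂)
      rwa [mul_inv_rev, inv_inv, show ((a r : R) : Ω)⁻¹ * (r : Ω) *
        ((r₂ : Ω)⁻¹ * ((ν r₂ : U₂) : Ω)) = z from mul_assoc _ _ _ |>.trans (by
          rw [hz, show (r₂ : Ω) = r from rfl, mul_inv_cancel_left])] at h1
    have hzC : z ∈ Subgroup.centralizer (V : Set Ω) := by
      refine Subgroup.mem_centralizer_iff.2 fun y hy => ?_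
      obtain ⟨v, hv⟩ := γ.surjective ⟨y, hy⟩
      have hrv : (r : Ω) * v * (r : Ω)⁻¹ ∈ V :=
        conj_mem_of_mem_normalizer (hVn r (hRS r.2) (Subgroup.le_normalizer r.2)) v.2
      have h1 := hνV ⟨_, hrv⟩
      have h2 := haγ ⟨_, hrv⟩
      rw [show Subgroup.inclusion (inf_le_left.trans hRU₂) (⟨_, hrv⟩ : V) =
        r₂ * Subgroup.inclusion (inf_le_left.trans hRU₂) v * r₂⁻¹ from rfl, map_mul, map_mul, map_inv,
        hνV, hv] at h1
      rw [show Subgroup.inclusion (inf_le_left : V ≤ R) (⟨_, hrv⟩ : V) =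
        r * Subgroup.inclusion (inf_le_left : V ≤ R) v * r⁻¹ from rfl, map_mul, map_mul, map_inv,
        haγ, hv] at h2
      have h3 : ((ν r₂ : U₂) : Ω) * y * ((ν r₂ : U₂) : Ω)⁻¹ =
          ((a r : R) : Ω) * y * ((a r : R) : Ω)⁻¹ :=
        (congrArg Subtype.val h1 :).trans (congrArg Subtype.val h2 :).symm
      calc y * z = ((a r : R) : Ω)⁻¹ * (((a r : R) : Ω) * y * ((a r : R) : Ω)⁻¹) *
            ((ν r₂ : U₂) : Ω) := by rw [hz]; group
        _ = z * y := by rw [← h3, hz]; group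
    have h1 := R.mul_mem (a r).2 (show z ∈ R from (hgood.tc.self hW.1 ⟨hzW, hzC⟩).1)
    rwa [hz, mul_inv_cancel_left] at h1
  obtain ⟨b, hb, hνb⟩ := exists_res hRU₂ hU₂S hν hmap
  have hbd : ∀ x : R, (x : Ω)⁻¹ * ((b x : R) : Ω) ∈ W := fun x => by
    have h1 := hd (Subgroup.inclusion hRU₂ x)
    rwa [hνb] at h1
  have hbco : (orderOf b).Coprime p := coprime_of_agree hRU₂ hνb hνco
  have hab : b⁻¹ * a ∈ chainSub F W R := by
    refine mem_chainSub.2 ⟨mul_mem (inv_mem hb) haF, fun x => ?_, fun x hx => b.injective ?_⟩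
    · have h1 := W.mul_mem (had x) (W.inv_mem (hbd ((b⁻¹ * a) x)))
      rwa [MulAut.mul_apply, MulAut.apply_inv_self, mul_inv_rev, inv_inv, mul_assoc,
        mul_inv_cancel_left] at h1
    · rw [MulAut.mul_apply, MulAut.apply_inv_self]
      refine Subgroup.inclusion_injective hRU₂ ?_
      rw [← hνb]
      exact (congrArg (Subgroup.inclusion hRU₂) (haγ ⟨(x : Ω), x.2, hx⟩)).trans
        (hνV ⟨(x : Ω), x.2, hx⟩).symm
  have hbN : b ∈ Subgroup.normalizer (chainSub F W R : Set (MulAut R)) := by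
    refine Subgroup.mem_normalizer_iff.2 fun n => ⟨conj_mem_chainSub hW hRS hb, fun hn => ?_⟩
    have h1 := conj_mem_chainSub hW hRS (inv_mem hb) hn
    simpa [mul_assoc] using h1
  obtain ⟨m, hm, hmeq⟩ := exists_conj_of_coset (chainSub_isPGroup hS hRS) hbN hco hbco hab
  obtain ⟨g, hgN, hgS, rfl⟩ := exists_eq_conjAut (le_autInducedBy_of_normal hS hF hR
    (chainSub_isPGroup hS hRS) (fun β hβ => hβ.1)
    (fun δ hδ β hβ => conj_mem_chainSub hW hRS hδ hβ) hm)
  have hgC : g ∈ centralizerIn S V := by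
    refine ⟨hgS, Subgroup.mem_centralizer_iff.2 fun y hy => ?_⟩
    have h1 : g * y * g⁻¹ = y := congrArg Subtype.val ((mem_chainSub.1 hm).2.2 ⟨y, hy.1⟩ hy.2)
    calc y * g = g * y * g⁻¹ * g := by rw [h1]
      _ = g * y := by group
  have hgU : g ∈ U₂ := Subgroup.mem_sup_right hgC
  set cg := conjAut U₂ g (Subgroup.le_normalizer hgU) with hcg
  refine ⟨cg * ν * cg⁻¹, mul_mem (mul_mem (autInducedBy_le_autGroup F hU₂S
    (conjAut_mem_autInducedBy hgS _)) hν) (inv_mem (autInducedBy_le_autGroup F hU₂S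
    (conjAut_mem_autInducedBy hgS _))), ?_, ?_, fun x => ?_⟩
  · rwa [show orderOf (cg * ν * cg⁻¹) = orderOf ν from (MulAut.conj cg).orderOf_eq ν]
  · rw [hmeq]
    exact ((agree_conjAut hRU₂ _ hgN).mul hνb).mul (agree_conjAut hRU₂ _ hgN).inv
  · obtain ⟨y, rfl⟩ := cg.surjective x
    rw [MulAut.mul_apply, MulAut.mul_apply, MulAut.inv_apply_self, hcg, conjAut_apply,
      conjAut_apply, show (g * (y : Ω) * g⁻¹)⁻¹ * (g * ((ν y : U₂) : Ω) * g⁻¹) =
        g * ((y : Ω)⁻¹ * ((ν y : U₂) : Ω)) * g⁻¹ by group]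
    exact conj_mem_of_mem_normalizer (hU₂W hgU) (hd y)

/-- `Tr` passes to every overgroup carrying a coprime extension. -/
def Climbs (F : Cfsg.FusionSystem S) (D : Cfsg.FusionSystem W) (p : ℕ) (R : Subgroup Ω) : Prop :=
  ∀ (U : Subgroup Ω) (hRU : R ≤ U), U ≤ S → ∀ κ ∈ F.autGroup U, (orderOf κ).Coprime p →
    ∀ a : MulAut R, Agree hRU κ a → Tr F D p R a → Tr F D p U κ

/-- The good case. -/
theorem tr_up_good (hS : IsPGroup p S) (hF : F.IsSaturated p) (hD : D.IsNormalIn F p)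
    (hgood : IsGood F W R) (hR : F.IsFullyNormalized R) (hV : F.IsFullyNormalized (R ⊓ W))
    (hRU : R ≤ U) (hUN : U ≤ normalizerIn S R) {κ : MulAut U} (hκ : κ ∈ F.autGroup U)
    (hco : (orderOf κ).Coprime p) {a : MulAut R} (hκa : Agree hRU κ a) (ha : Tr F D p R a) :
    Tr F D p U κ := by
  have hinv := hD.1.2.2
  have hW : F.StronglyClosed W := hinv.2.1
  have hUS : U ≤ S := hUN.trans (normalizerIn_le S R)
  have hUW : U ≤ Subgroup.normalizer (W : Set Ω) := hUS.trans (stronglyClosed_le_normalizer hW)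
  have hside := ha.mem_sideSub hinv
  obtain ⟨ν, -, -, hνa, hνd⟩ := exists_base hS hF hD hgood hR hV hside ha.1 hRU hUN hκa
  have : Finite U := finite_of_le hUS
  set L := dispSub hUW κ with hL
  have hd : ∀ x : U, (x : Ω)⁻¹ * ((κ x : U) : Ω) ∈ W := by
    intro x
    set x₂ := Subgroup.inclusion (le_sup_left : U ≤ U ⊔ centralizerIn S (R ⊓ W)) x
    obtain ⟨h1N, h1⟩ := conj_conjAut_of_agree (hRU.trans le_sup_left) hνa x₂.2 (hUN x.2).2
    obtain ⟨h2N, h2⟩ := conj_conjAut_of_agree hRU hκa x.2 (hUN x.2).2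
    have hU₂S : U ⊔ centralizerIn S (R ⊓ W) ≤ S := sup_le hUS (centralizerIn_le _ _)
    have hz := centralizerIn_le_of_isCentric hgood.centric
      (inv_mul_mem_centralizerIn (U := S) le_rfl (hUS (κ x).2) (hU₂S (ν x₂).2) (h2.symm.trans h1))
    set z := ((κ x : U) : Ω)⁻¹ * ((ν x₂ : _) : Ω) with hzdef
    have hνU : ((ν x₂ : _) : Ω) ∈ U := by
      have := U.mul_mem (κ x).2 (hRU hz)
      rwa [hzdef, mul_inv_cancel_left] at this
    have hyW : (x : Ω)⁻¹ * ((ν x₂ : _) : Ω) ∈ W := hνd x₂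
    have hLR : ∀ r : U, (r : Ω) ∈ R → r ∈ L := fun r hr => by
      show (r : Ω)⁻¹ * ((κ r : U) : Ω) ∈ W
      rw [show κ r = Subgroup.inclusion hRU (a ⟨r, hr⟩) from hκa ⟨r, hr⟩]
      exact ha.disp hW ⟨r, hr⟩
    have hxL : x⁻¹ * κ x ∈ L := by
      rw [show x⁻¹ * κ x = (⟨(x : Ω)⁻¹ * ((ν x₂ : _) : Ω), U.mul_mem (U.inv_mem x.2) hνU⟩ : U) *
        ⟨z⁻¹, U.inv_mem (hRU hz)⟩ from Subtype.ext (by
          show (x : Ω)⁻¹ * ((κ x : U) : Ω) = (x : Ω)⁻¹ * ((ν x₂ : _) : Ω) * z⁻¹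
          rw [hzdef]; group)]
      exact L.mul_mem (W.mul_mem (W.inv_mem hyW) (Stability.aut_mem hW hUS hκ hyW))
        (hLR _ (R.inv_mem hz))
    have : (W.subgroupOf U).Normal := ⟨fun y hy g => conj_mem_of_mem_normalizer (hUW g.2) hy⟩
    exact CenNormal.disp_mem_of_disp (hS.to_le hUS) κ hco (L := L) (N := W.subgroupOf U)
      (fun y hy => Stability.aut_mem hW hUS hκ hy) (fun y hy => hy) (x := x) hxL
  have hUW' : U ⊓ W ≤ U := inf_le_left
  obtain ⟨γ', hγ', hκγ'⟩ := exists_res hUW' hUS hκ fun x =>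
    ⟨(κ _).2, Stability.aut_mem hW hUS hκ x.2.2⟩
  obtain ⟨-, -, γ, hγ, haγ⟩ := Balance.mem_sideSub.1 hside
  have hVU : R ⊓ W ≤ U ⊓ W := inf_le_inf_right W hRU
  have hVc : D.IsCentric (R ⊓ W) := ⟨inf_le_right, fun Q hQ =>
    hgood.tc.2 Q (CfsgLib.FusionQuot.isConj_of_subsystem hinv.1 hQ)⟩
  have hUV : U ⊓ W ≤ Subgroup.normalizer ((R ⊓ W : Subgroup Ω) : Set Ω) := fun g hg =>
    Subgroup.mem_normalizer_iff.2 fun x => by
      simp only [Subgroup.mem_inf]
      exact and_congr (Subgroup.mem_normalizer_iff.1 (hUN hg.1).2 x)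
        (Subgroup.mem_normalizer_iff.1 (hUW hg.1) x)
  refine tr_of_good (hgood.mono hRU hUS) (Balance.mem_sideSub.2 ⟨hκ, hd, γ', ?_, hκγ'⟩) hco
  refine coprime_mem_of_centric (F := F) hS hD.1.1 hinv inf_le_right hVc hVU hUV hγ'
    (coprime_of_agree hUW' hκγ' hco) hγ fun v => Subgroup.inclusion_injective hUW' ?_
  rw [← hκγ']
  exact (hκa (Subgroup.inclusion inf_le_left v)).trans (congrArg (Subgroup.inclusion hRU) (haγ v))

/-- The case of a subgroup fully normalized together with its part in `W`. -/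
theorem tr_up_normalized (hS : IsPGroup p S) (hF : F.IsSaturated p) (hD : D.IsNormalIn F p)
    (hc : F.IsCentric R) (hR : F.IsFullyNormalized R) (hV : F.IsFullyNormalized (R ⊓ W))
    (hIH : ∀ R' : Subgroup Ω, F.IsCentric R' → Nat.card R < Nat.card R' → Climbs F D p R')
    (hRU : R ≤ U) (hUN : U ≤ normalizerIn S R) {κ : MulAut U} (hκ : κ ∈ F.autGroup U)
    (hco : (orderOf κ).Coprime p) {a : MulAut R} (hκa : Agree hRU κ a) (ha : Tr F D p R a) :
    Tr F D p U κ := by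
  by_cases hg : IsGood F W R
  · exact tr_up_good hS hF hD hg hR hV hRU hUN hκ hco hκa ha
  have hinv := hD.1.2.2
  have hW : F.StronglyClosed W := hinv.2.1
  have hRS : R ≤ S := hc.1
  have hUS : U ≤ S := hUN.trans (normalizerIn_le S R)
  have haF := ha.mem_autGroup
  have hgle := grow_le (W := W) (F := F) hRS
  have hgS : grow F W R ≤ S := hgle.trans (normalizerIn_le S R)
  have hgc : F.IsCentric (grow F W R) := isCentric_mono hc le_grow hgS
  have hgcard : Nat.card R < Nat.card (grow F W R) :=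
    card_lt_card' hgS (lt_grow hS hF hW hc hV hg)
  -- the witness, moved to `R`
  obtain ⟨hao, Q, R', e, hle, κ', he, hg', hκ', hκ'co, hag'⟩ := id ha
  have hR'S : R' ≤ S := hg'.centric.1
  have hlt : Q < R' := lt_of_le_of_ne hle fun h => hg (IsGood.of_iso he.symm hW (h ▸ hg'))
  have : Finite R' := finite_of_le hR'S
  set M := normalizerIn R' Q with hM
  have hQM : Q < M := lt_normalizerIn (hS.to_le hR'S) hlt
  have hMN : M ≤ normalizerIn S Q := inf_le_inf_right _ hR'S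
  have hMR' : M ≤ R' := normalizerIn_le R' Q
  obtain ⟨μ, hμ, hκ'μ⟩ := exists_res hMR' hR'S (Balance.mem_sideSub.1 hκ').1 fun m =>
    ⟨(κ' _).2, (conj_conjAut_of_agree hle hag' (hMR' m.2) m.2.2).1⟩
  have hμa : Agree hQM.le μ (MulAut.congr e a) := agree_of_agree hκ'μ hag'
  have hμT : Tr F D p M μ := tr_restrict hMR' hκ'μ (tr_of_good hg' hκ' hκ'co)
  obtain ⟨f, hf, ψ, hψ, hψN, hψf⟩ := exists_normalizer_map hS hF hR (isConj_symm he.isConj)
  set M' := (ψ.comp (Subgroup.inclusion hMN)).range with hM'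
  obtain ⟨g, hg₁, hgx⟩ := exists_iso (Q := M') (restrict_mem hψ hMN) rfl
  have hM'N : M' ≤ normalizerIn S R := by
    rintro _ ⟨m, rfl⟩
    exact hψN _
  have hgf : ∀ x : Q, (g (Subgroup.inclusion hQM.le x) : Ω) = f x := fun x => (hgx _).trans (hψf x)
  have hRM' : R ≤ M' := fun y hy => by
    have h1 := hgf (f.symm ⟨y, hy⟩)
    rw [MulEquiv.apply_symm_apply] at h1
    exact (congrArg (· ∈ M') h1).mp (g _).2
  have hM'S : M' ≤ S := hM'N.trans (normalizerIn_le S R)
  have hM'card : Nat.card R < Nat.card M' := by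
    rw [← Nat.card_congr g.toEquiv, Nat.card_congr e.toEquiv]
    exact card_lt_card' (hMR'.trans hR'S) hQM
  have hM'c : F.IsCentric M' := isCentric_mono hc hRM' hM'S
  set a' := MulAut.congr f (MulAut.congr e a) with ha'
  set b : MulAut R := (e.trans f : R ≃* R) with hbdef
  have hb : b ∈ F.autGroup R := (mem_autGroup_iff hRS).2 (he.trans hf)
  have ha'b : a' = b * a * b⁻¹ := by rw [ha', congr_congr, ← congr_eq_conj]
  have ha'F : a' ∈ F.autGroup R := by
    rw [ha'b]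
    exact mul_mem (mul_mem hb haF) (inv_mem hb)
  have ha'co : (orderOf a').Coprime p := by rwa [ha', orderOf_congr, orderOf_congr]
  have hμ'a : Agree hRM' (MulAut.congr g μ) a' := agree_congr hμa f g hRM' hgf
  have hμ'T : Tr F D p M' (MulAut.congr g μ) := tr_congr hg₁ hμT
  -- onto `grow R`
  set G₁ := grow F W R ⊔ M' with hG₁
  have hG₁N : G₁ ≤ normalizerIn S R := sup_le hgle hM'N
  have hG₁S : G₁ ≤ S := hG₁N.trans (normalizerIn_le S R)
  obtain ⟨ν, hν, hνco, hνa⟩ := exists_aut_sup hS hF hc ha'F ha'co (hRM'.trans le_sup_right) hG₁N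
    (act_of_sup (hG₁N.trans inf_le_right)
      (fun x hx => autInducedBy_mono le_sup_left R (conj_mem_aut_grow hS hF hW hR ha'F hx))
      fun x hx => autInducedBy_mono le_sup_right R (act_of_agree hRM' hμ'a hx (hM'N hx).2))
  obtain ⟨νM, hνM, hννM⟩ := exists_res (le_sup_right : M' ≤ G₁) hG₁S hν
    (mapsTo_of_act hc hRM' le_sup_right hG₁S (hM'N.trans inf_le_right) hνa
      fun x hx => act_of_agree hRM' hμ'a hx (hM'N hx).2)
  have hνMco := coprime_of_agree (le_sup_right : M' ≤ G₁) hννM hνco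
  have hνMT : Tr F D p M' νM := tr_of_agree hS hF hc hRM' hM'S hνM hνMco hμ'a
    (agree_of_agree hννM hνa) hμ'T
  have hνT : Tr F D p G₁ ν :=
    hIH M' hM'c hM'card G₁ le_sup_right hG₁S ν hν hνco νM hννM hνMT
  obtain ⟨νg, hνg, hννg⟩ := exists_res (le_sup_left : grow F W R ≤ G₁) hG₁S hν
    (mapsTo_of_act hc le_grow le_sup_left hG₁S (hgle.trans inf_le_right) hνa
      fun x hx => conj_mem_aut_grow hS hF hW hR ha'F hx)
  have hνgT : Tr F D p (grow F W R) νg := tr_restrict le_sup_left hννg hνT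
  have hνga : Agree le_grow νg a' := agree_of_agree hννg hνa
  obtain ⟨b', hb', hb'b⟩ := exists_ext_grow hS hF hW hR hc hb
  set μ₀ := b'⁻¹ * νg * b'⁻¹⁻¹ with hμ₀
  have hμ₀T : Tr F D p (grow F W R) μ₀ := by
    rw [hμ₀, ← congr_eq_conj]
    exact tr_congr ((mem_autGroup_iff hgS).1 (inv_mem hb')) hνgT
  have hμ₀a : Agree le_grow μ₀ a := by
    have h1 := (hb'b.inv.mul hνga).mul hb'b.inv.inv
    rwa [ha'b, show b⁻¹ * (b * a * b⁻¹) * b⁻¹⁻¹ = a by group] at h1
  -- together with `U`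
  set G₂ := grow F W R ⊔ U with hG₂
  have hG₂N : G₂ ≤ normalizerIn S R := sup_le hgle hUN
  have hG₂S : G₂ ≤ S := hG₂N.trans (normalizerIn_le S R)
  obtain ⟨ν₂, hν₂, hν₂co, hν₂a⟩ := exists_aut_sup hS hF hc haF hao (hRU.trans le_sup_right) hG₂N
    (act_of_sup (hG₂N.trans inf_le_right)
      (fun x hx => autInducedBy_mono le_sup_left R (conj_mem_aut_grow hS hF hW hR haF hx))
      fun x hx => autInducedBy_mono le_sup_right R (act_of_agree hRU hκa hx (hUN hx).2))
  obtain ⟨ν₂g, hν₂g, hν₂ν₂g⟩ := exists_res (le_sup_left : grow F W R ≤ G₂) hG₂S hν₂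
    (mapsTo_of_act hc le_grow le_sup_left hG₂S (hgle.trans inf_le_right) hν₂a
      fun x hx => conj_mem_aut_grow hS hF hW hR haF hx)
  have hν₂gco := coprime_of_agree (le_sup_left : grow F W R ≤ G₂) hν₂ν₂g hν₂co
  have hν₂gT : Tr F D p (grow F W R) ν₂g := tr_of_agree hS hF hc le_grow hgS hν₂g hν₂gco hμ₀a
    (agree_of_agree hν₂ν₂g hν₂a) hμ₀T
  have hν₂T : Tr F D p G₂ ν₂ :=
    hIH _ hgc hgcard G₂ le_sup_left hG₂S ν₂ hν₂ hν₂co ν₂g hν₂ν₂g hν₂gT
  obtain ⟨ν₂U, -, hν₂ν₂U⟩ := exists_res (le_sup_right : U ≤ G₂) hG₂S hν₂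
    (mapsTo_of_act hc hRU le_sup_right hG₂S (hUN.trans inf_le_right) hν₂a
      fun x hx => act_of_agree hRU hκa hx (hUN hx).2)
  exact tr_of_agree hS hF hc hRU hUS hκ hco (agree_of_agree hν₂ν₂U hν₂a) hκa
    (tr_restrict le_sup_right hν₂ν₂U hν₂T)

/-- `Tr` climbs from centric subgroups. -/
theorem tr_up (hS : IsPGroup p S) (hF : F.IsSaturated p) (hD : D.IsNormalIn F p) :
    ∀ R : Subgroup Ω, F.IsCentric R → Climbs F D p R := by
  intro R
  induction hn : Nat.card S - Nat.card R using Nat.strong_induction_on generalizing R with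
  | _ n ih =>
  intro hc
  have hIH : ∀ R' : Subgroup Ω, F.IsCentric R' → Nat.card R < Nat.card R' → Climbs F D p R' := by
    intro R' hR' hlt
    have : Nat.card R' ≤ Nat.card S := Subgroup.card_le_of_le hR'.1
    exact ih _ (by omega) R' rfl hR'
  have hinv := hD.1.2.2
  have hRS : R ≤ S := hc.1
  have step : ∀ (U : Subgroup Ω) (hRU : R ≤ U), U ≤ normalizerIn S R → ∀ κ ∈ F.autGroup U,
      (orderOf κ).Coprime p → ∀ a : MulAut R, Agree hRU κ a → Tr F D p R a → Tr F D p U κ := by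
    intro U hRU hUN κ hκ hco a hκa ha
    obtain ⟨R₀, e, he, hR₀, hV₀, ψ, hψ, hψN, hψe⟩ :=
      exists_fullyNormalized_pair hS hF hinv.2.1 hRS
    set U₀ := (ψ.comp (Subgroup.inclusion hUN)).range with hU₀
    obtain ⟨g, hg, hgx⟩ := exists_iso (Q := U₀) (restrict_mem hψ hUN) rfl
    have hge : ∀ x : R, (g (Subgroup.inclusion hRU x) : Ω) = e x := fun x =>
      (hgx _).trans (hψe x)
    have hRU₀ : R₀ ≤ U₀ := fun y hy => by
      have h1 := hge (e.symm ⟨y, hy⟩)
      rw [MulEquiv.apply_symm_apply] at h1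
      exact (congrArg (· ∈ U₀) h1).mp (g _).2
    have hU₀N : U₀ ≤ normalizerIn S R₀ := by
      rintro _ ⟨x, rfl⟩
      exact hψN _
    have h1 := tr_up_normalized hS hF hD (isCentric_of_isConj hc he.isConj) hR₀ hV₀
      (fun R' hR' hlt => hIH R' hR' (by rwa [Nat.card_congr e.toEquiv]))
      hRU₀ hU₀N (hg.congr_mem hκ) (by rwa [orderOf_congr]) (agree_congr hκa e g hRU₀ hge)
      (tr_congr he ha)
    have h2 := tr_congr hg.symm h1
    rwa [congr_symm_congr] at h2
  intro U hRU hUS κ hκ hco a hκa ha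
  by_cases hUN : U ≤ normalizerIn S R
  · exact step U hRU hUN κ hκ hco a hκa ha
  have hlt : R < U := lt_of_le_of_ne hRU fun h => hUN (h ▸ le_normalizerIn hRS)
  have : Finite U := finite_of_le hUS
  have hMU : normalizerIn U R ≤ U := normalizerIn_le U R
  have hRM : R < normalizerIn U R := lt_normalizerIn (hS.to_le hUS) hlt
  obtain ⟨μ, hμ, hκμ⟩ := exists_res hMU hUS hκ fun m =>
    ⟨(κ _).2, (conj_conjAut_of_agree hRU hκa (hMU m.2) m.2.2).1⟩
  have hμco := coprime_of_agree hMU hκμ hco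
  have hμT := step _ hRM.le (inf_le_inf_right _ hUS) μ hμ hμco a (agree_of_agree hκμ hκa) ha
  exact hIH _ (isCentric_mono hc hRM.le (hMU.trans hUS)) (card_lt_card' (hMU.trans hUS) hRM)
    U hMU hUS κ hκ hco μ hκμ hμT

end CfsgLib.Fusion.Balance
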